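import Cfsg.Agent.H464.L2Cover
import Cfsg.Agent.H915.LD

/-!
# Cores on another index type (helper912)

`re e P = P.map (reGL e)` for `e : ι ≃ κ`. `Core`, `Soc`, `SD`, `Fr`, `Cj`, `FixQ`, `FixA`, the scalars are transported.
-/

set_option autoImplicit false
set_option linter.unusedSectionVars false

universe u v

namespace Cfsg.Agent.H912.Rx

open Matrix Cfsg Cfsg.Geo Cfsg.Agent.H464.Sl2 Cfsg.Agent.H915.LD

variable {ι κ : Type} [Fintype ι] [DecidableEq ι] [Fintype κ] [DecidableEq κ] {F : Type u} [Field F]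

/-- the same group in other coordinates -/
def re (e : ι ≃ κ) (P : Subgroup (GL ι F)) : Subgroup (GL κ F) := P.map (reGL e).toMonoidHom

variable (e : ι ≃ κ) {P : Subgroup (GL ι F)}

theorem mem_re {g : GL ι F} : reGL e g ∈ re e P ↔ g ∈ P := by
  constructor
  · rintro ⟨h, hh, h1⟩
    have h2 : h = g := (reGL e).injective h1
    exact h2 ▸ hh
  · intro h
    exact ⟨g, h, rfl⟩

theorem exists_of_mem {g : GL κ F} (h : g ∈ re e P) : ∃ x ∈ P, reGL e x = g := h

theorem re_symm : re e.symm (re e P) = P := by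
  ext g
  constructor
  · rintro ⟨_, ⟨x, hx, rfl⟩, rfl⟩
    have h1 : reGL e.symm (reGL e x) = x := by
      apply Units.ext
      ext i j
      simp [reGL_coe, Matrix.reindexAlgEquiv_apply, Matrix.reindex_apply]
    change reGL e.symm (reGL e x) ∈ P
    rw [h1]
    exact hx
  · intro h
    refine ⟨reGL e g, ⟨g, h, rfl⟩, ?_⟩
    change reGL e.symm (reGL e g) = g
    apply Units.ext
    ext i j
    simp [reGL_coe, Matrix.reindexAlgEquiv_apply, Matrix.reindex_apply]

theorem reGL_smul_one (c : F) (g : GL ι F) (h : (g : Matrix ι ι F) = c • 1) :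
    ((reGL e g : GL κ F) : Matrix κ κ F) = c • 1 := by
  rw [reGL_coe, h, map_smul, map_one]

theorem smul_one_of_reGL (c : F) (g : GL ι F) (h : ((reGL e g : GL κ F) : Matrix κ κ F) = c • 1) :
    (g : Matrix ι ι F) = c • 1 := by
  apply (Matrix.reindexAlgEquiv F F e).injective
  rw [map_smul, map_one, ← h, reGL_coe]

theorem mem_scalars_iff {g : GL ι F} : g ∈ scalars ι F ↔ ∃ c : F, (g : Matrix ι ι F) = c • 1 := by
  constructor
  · rintro ⟨c, rfl⟩
    refine ⟨c, ?_⟩
    change Matrix.scalar ι (c : F) = _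
    rw [Matrix.scalar_apply, Matrix.smul_one_eq_diagonal]
  · rintro ⟨c, hc⟩
    rcases isEmpty_or_nonempty ι with hι | hι
    · have h1 : g = 1 := Units.ext (Subsingleton.elim _ _)
      rw [h1]
      exact one_mem _
    · have hc0 : c ≠ 0 := by
        rintro rfl
        rw [zero_smul] at hc
        have h1 := g.mul_inv
        rw [hc, zero_mul] at h1
        exact zero_ne_one h1
      refine ⟨Units.mk0 c hc0, ?_⟩
      apply Units.ext
      change Matrix.scalar ι c = _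
      rw [hc, Matrix.scalar_apply, Matrix.smul_one_eq_diagonal]

theorem reGL_mem_scalars {g : GL ι F} : reGL e g ∈ scalars κ F ↔ g ∈ scalars ι F := by
  rw [mem_scalars_iff, mem_scalars_iff]
  constructor
  · rintro ⟨c, hc⟩
    exact ⟨c, smul_one_of_reGL e c g hc⟩
  · rintro ⟨c, hc⟩
    exact ⟨c, reGL_smul_one e c g hc⟩

/-- the isomorphism `P ≃* re e P` -/
noncomputable def reEquiv : P ≃* re e P := P.equivMapOfInjective (reGL e).toMonoidHom (reGL e).injective

theorem reEquiv_coe (g : P) : ((reEquiv e g : re e P) : GL κ F) = reGL e (g : GL ι F) := rfl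

/-- the isomorphism of the socles -/
noncomputable def socEquiv : Soc P ≃* Soc (re e P) :=
  QuotientGroup.congr _ _ (reEquiv e) (by
    ext x
    rw [Subgroup.mem_subgroupOf]
    constructor
    · rintro ⟨y, hy, rfl⟩
      have h1 := Subgroup.mem_subgroupOf.1 hy
      exact (reGL_mem_scalars e).2 h1
    · intro h
      obtain ⟨y, rfl⟩ := (reEquiv e).surjective x
      refine ⟨y, ?_, rfl⟩
      rw [SetLike.mem_coe, Subgroup.mem_subgroupOf]
      exact (reGL_mem_scalars e).1 h)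

theorem scalars_bot : (scalars ι F).subgroupOf P = ⊥ ↔ (scalars κ F).subgroupOf (re e P) = ⊥ := by
  rw [Subgroup.eq_bot_iff_forall, Subgroup.eq_bot_iff_forall]
  constructor
  · intro h x hx
    obtain ⟨y, rfl⟩ := (reEquiv e).surjective x
    have h1 := h y (Subgroup.mem_subgroupOf.2 ((reGL_mem_scalars e).1 (Subgroup.mem_subgroupOf.1 hx)))
    rw [h1, map_one]
  · intro h x hx
    have h1 := h (reEquiv e x) (Subgroup.mem_subgroupOf.2 ((reGL_mem_scalars e).2 (Subgroup.mem_subgroupOf.1 hx)))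
    exact (map_eq_one_iff _ (reEquiv e).injective).1 h1

theorem perfect_re (h : ⁅P, P⁆ = P) : ⁅re e P, re e P⁆ = re e P := by
  unfold re
  rw [← Subgroup.map_commutator, h]

theorem no_subfield_re (h : ∀ F₀ : Subfield F, F₀ ≠ ⊤ → ¬ RealisableOver F₀ (matrixSet P)) :
    ∀ F₀ : Subfield F, F₀ ≠ ⊤ → ¬ RealisableOver F₀ (matrixSet (re e P)) := by
  rintro F₀ hF ⟨B, hB⟩
  refine h F₀ hF ⟨(reGL e).symm B, ?_⟩
  rintro _ ⟨g, hg, rfl⟩ i j
  have h1 := hB _ ⟨reGL e g, ⟨g, hg, rfl⟩, rfl⟩ (e i) (e j)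
  have h2 : (B : Matrix κ κ F) * ((reGL e g : GL κ F) : Matrix κ κ F) * ((B⁻¹ : GL κ F) : Matrix κ κ F) =
      Matrix.reindexAlgEquiv F F e ((((reGL e).symm B * g * ((reGL e).symm B)⁻¹ : GL ι F)) : Matrix ι ι F) := by
    rw [← reGL_coe, map_mul, map_mul, map_inv, MulEquiv.apply_symm_apply]
    rfl
  rw [h2, Matrix.reindexAlgEquiv_apply, Matrix.reindex_apply, Matrix.submatrix_apply, Equiv.symm_apply_apply,
    Equiv.symm_apply_apply] at h1
  exact h1

/-- **Transport of cores.** -/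
theorem core_re (h : Core P) : Core (re e P) where
  perfect := perfect_re e h.perfect
  simple := by
    have := h.simple
    exact (socEquiv (P := P) e).symm.isSimpleGroup
  nonabelian := fun hc => h.nonabelian ⟨⟨fun a b => (socEquiv (P := P) e).injective (by
    rw [map_mul, map_mul]
    exact hc.is_comm.comm _ _)⟩⟩
  absIrred := absIrr_reGL e h.absIrred
  no_subfield := no_subfield_re e h.no_subfield

theorem tr_re (g : GL ι F) : tr (reGL e g) = tr g := trace_reGL e g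

theorem sd_re : SD (re e P) ↔ SD P := by
  constructor
  · intro h g hg
    have h1 := h (reGL e g) ((mem_re e).2 hg)
    rwa [← map_inv, tr_re, tr_re] at h1
  · rintro h _ ⟨g, hg, rfl⟩
    change tr (reGL e g)⁻¹ = tr (reGL e g)
    rw [← map_inv, tr_re, tr_re]
    exact h g hg

theorem fr_re (q : ℕ) : Fr (re e P) q ↔ Fr P q := by
  constructor
  · intro h g hg
    have h1 := h (reGL e g) ((mem_re e).2 hg)
    rwa [tr_re] at h1
  · rintro h _ ⟨g, hg, rfl⟩
    change tr (reGL e g) ^ q = tr (reGL e g)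
    rw [tr_re]
    exact h g hg

theorem cj_re (q : ℕ) : Cj (re e P) q ↔ Cj P q := by
  constructor
  · intro h g hg
    have h1 := h (reGL e g) ((mem_re e).2 hg)
    rwa [← map_inv, tr_re, tr_re] at h1
  · rintro h _ ⟨g, hg, rfl⟩
    change tr (reGL e g) ^ q = tr (reGL e g)⁻¹
    rw [← map_inv, tr_re, tr_re]
    exact h g hg

theorem mulVec_re (g : GL ι F) (v : κ → F) :
    (((reGL e g : GL κ F) : Matrix κ κ F) *ᵥ v) ∘ e = (g : Matrix ι ι F) *ᵥ (v ∘ e) := by
  funext i
  rw [reGL_coe, Matrix.reindexAlgEquiv_apply, Matrix.reindex_apply, Function.comp_apply]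
  simp only [Matrix.mulVec, dotProduct, Matrix.submatrix_apply, Equiv.symm_apply_apply, Function.comp_apply]
  exact Fintype.sum_equiv e.symm _ _ (fun x => by rw [Equiv.apply_symm_apply])

theorem comp_eq_zero {v : κ → F} (h : v ∘ e = 0) : v = 0 := by
  funext i
  have := congrFun h (e.symm i)
  rwa [Function.comp_apply, Equiv.apply_symm_apply] at this

theorem nondeg_re {f : (ι → F) → (ι → F) → F} (h : IsNondegenerateForm f) :
    IsNondegenerateForm (fun v w : κ → F => f (v ∘ e) (w ∘ e)) := by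
  intro v hv
  have hv' : v ∘ e ≠ 0 := fun h0 => hv (comp_eq_zero e h0)
  obtain ⟨⟨x, hx⟩, ⟨y, hy⟩⟩ := h _ hv'
  refine ⟨⟨x ∘ e.symm, ?_⟩, ⟨y ∘ e.symm, ?_⟩⟩
  · have h1 : (x ∘ e.symm) ∘ e = x := by funext i; simp
    change f ((x ∘ e.symm) ∘ e) (v ∘ e) ≠ 0
    rwa [h1]
  · have h1 : (y ∘ e.symm) ∘ e = y := by funext i; simp
    change f (v ∘ e) ((y ∘ e.symm) ∘ e) ≠ 0
    rwa [h1]

theorem bilin_re {f : (ι → F) → (ι → F) → F} (h : IsBilinearForm f) :
    IsBilinearForm (fun v w : κ → F => f (v ∘ e) (w ∘ e)) :=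
  ⟨fun x y v => h.add_left _ _ _, fun c x v => h.smul_left _ _ _, fun v x y => h.add_right _ _ _,
    fun c v x => h.smul_right _ _ _⟩

theorem fixQ_re_of (h : FixQ P) : FixQ (re e P) := by
  obtain ⟨Q, hQ, hfix⟩ := h
  refine ⟨fun v => Q (v ∘ e), ⟨fun c v => hQ.smul _ _, ?_, ?_⟩, ?_⟩
  · exact bilin_re e hQ.polar_bilinear
  · exact nondeg_re e hQ.nondegenerate
  · rintro _ ⟨_, ⟨g, hg, rfl⟩, rfl⟩ v
    change Q ((((reGL e g : GL κ F) : Matrix κ κ F) *ᵥ v) ∘ e) = Q (v ∘ e)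
    rw [mulVec_re]
    exact hfix _ ⟨g, hg, rfl⟩ _

theorem fixA_re_of (h : FixA P) : FixA (re e P) := by
  obtain ⟨f, hf, hfix⟩ := h
  refine ⟨fun v w => f (v ∘ e) (w ∘ e), ⟨bilin_re e hf.bilinear, fun v w => hf.skew _ _, fun v => hf.alternating _,
    nondeg_re e hf.nondegenerate⟩, ?_⟩
  rintro _ ⟨_, ⟨g, hg, rfl⟩, rfl⟩ v w
  change f ((((reGL e g : GL κ F) : Matrix κ κ F) *ᵥ v) ∘ e) ((((reGL e g : GL κ F) : Matrix κ κ F) *ᵥ w) ∘ e) = f (v ∘ e) (w ∘ e)
  rw [mulVec_re, mulVec_re]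
  exact hfix _ ⟨g, hg, rfl⟩ _ _

theorem fixQ_re : FixQ (re e P) ↔ FixQ P :=
  ⟨fun h => by have := fixQ_re_of e.symm h; rwa [re_symm] at this, fixQ_re_of e⟩

theorem fixA_re : FixA (re e P) ↔ FixA P :=
  ⟨fun h => by have := fixA_re_of e.symm h; rwa [re_symm] at this, fixA_re_of e⟩

end Cfsg.Agent.H912.Rx
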