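import Cfsg.Agent.H912.Bd3
import Cfsg.Prelude.Def_GeometricClasses

/-!
# Extraspecial and Heisenberg subgroups; the interface with subgroups of `GL_n(F)`

* `PR.bound_sq`, `PR.bound_heis`: `E` abelian, `S` normalises `E` (weights of `E`), `Q` centralises `E`, `[Q, Q] ≤ E` and
  for `x ∈ Q` outside `E` some commutator `[x, y]`, `y ∈ Q`, is `e₀`: `|S|² |Q : E| ≤ n²`;
* `bd_of_extraspecial`: `r^(1+2k)`, `m` powers of the central element fused: bound `m * r ^ k`;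
* `PR.of_scalars`, `PR.of_special`: `P ≤ GL_n(F)`.
-/

set_option autoImplicit false
set_option linter.dupNamespace false

universe u v w

namespace Cfsg.Agent.H912.Bd

open Module

/-- Common eigenvectors with different eigenvalue functions are linearly independent. -/
theorem linInd_of_eigen {K M ι κ : Type*} [Field K] [AddCommGroup M] [Module K M] (f : κ → M →ₗ[K] M) (v : ι → M)
    (hv : ∀ i, v i ≠ 0) (l : ι → κ → K) (h : ∀ i x, f x (v i) = l i x • v i)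
    (hl : ∀ i j, i ≠ j → ∃ x, l i x ≠ l j x) : LinearIndependent K v := by
  classical
  rw [linearIndependent_iff']
  intro s
  induction s using Finset.induction_on with
  | empty => intro g _ i hi; exact absurd hi (Finset.notMem_empty _)
  | insert a s ha ih =>
    intro g hg
    have h1 : ∀ x, ∑ i ∈ s, (g i * (l i x - l a x)) • v i = 0 := by
      intro x
      have h2 := congrArg (f x) hg
      rw [map_zero, map_sum, Finset.sum_insert ha] at h2
      simp only [map_smul, h] at h2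
      rw [Finset.sum_insert ha] at hg
      have h3 : ∑ i ∈ s, (g i * (l i x - l a x)) • v i
          = (∑ i ∈ s, g i • l i x • v i) - l a x • ∑ i ∈ s, g i • v i := by
        rw [Finset.smul_sum, ← Finset.sum_sub_distrib]
        refine Finset.sum_congr rfl fun i _ => ?_
        rw [smul_smul, smul_smul, ← sub_smul]
        congr 1; ring
      rw [h3]
      have h4 : ∑ i ∈ s, g i • v i = - (g a • v a) := by
        rw [add_comm] at hg
        exact eq_neg_of_add_eq_zero_left hg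
      have h5 : ∑ i ∈ s, g i • l i x • v i = - (g a • l a x • v a) := by
        rw [add_comm] at h2
        exact eq_neg_of_add_eq_zero_left h2
      rw [h4, h5, smul_neg, smul_smul, smul_smul, mul_comm]
      simp
    have h2 : ∀ i ∈ s, g i = 0 := by
      intro i hi
      obtain ⟨x, hx⟩ := hl i a (fun h => ha (h ▸ hi))
      have := ih _ (h1 x) i hi
      exact (mul_eq_zero.1 this).resolve_right (sub_ne_zero.2 hx)
    intro i hi
    rcases Finset.mem_insert.1 hi with rfl | hi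
    · rw [Finset.sum_insert ha, Finset.sum_eq_zero (fun j hj => by rw [h2 j hj, zero_smul]), add_zero] at hg
      exact (smul_eq_zero.1 hg).resolve_right (hv _)
    · exact h2 i hi

section Rep

variable {K : Type*} [Field K] {V : Type*} [AddCommGroup V] [Module K V] {L : Type*} [Group L]
  [FiniteDimensional K V] (ρ : L →* Module.End K V) {A : Subgroup L}

/-- The dimension of a weight space and commutators. -/
theorem card_le_finrank_sq {χ : A → K} (hχ : wt ρ A χ ≠ ⊥) {c : A} (hχc : χ c ≠ 1) (Q : Set L)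
    (hQA : ∀ x ∈ Q, ∀ a ∈ A, x * a = a * x) (R : Finset L) (hRA : ∀ y ∈ R, ∀ a ∈ A, y * a = a * y)
    (hQR : ∀ x ∈ Q, ∀ y ∈ R, x * y * x⁻¹ * y⁻¹ ∈ A)
    (hR : ∀ y ∈ R, ∀ y' ∈ R, y ≠ y' → ∃ x ∈ Q, (x * y * x⁻¹ * y⁻¹) * (x * y' * x⁻¹ * y'⁻¹)⁻¹ = (c : L)) :
    R.card ≤ finrank K (wt ρ A χ) ^ 2 := by
  classical
  set C : Subgroup L := Subgroup.centralizer (A : Set L) with hCdef
  have hC : ∀ s ∈ C, ∀ a ∈ A, s * a = a * s := fun s hs a ha =>
    (Subgroup.mem_centralizer_iff.1 hs a ha).symm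
  have hmemC : ∀ s : L, (∀ a ∈ A, s * a = a * s) → s ∈ C := fun s hs =>
    Subgroup.mem_centralizer_iff.2 fun a ha => (hs a ha).symm
  set τ := restr ρ χ C hC with hτ
  have hnt : Nontrivial (wt ρ A χ) := Submodule.nontrivial_iff_ne_bot.2 hχ
  have hτ0 : ∀ s : C, τ s ≠ 0 := by
    intro s h0
    have h1 : τ (s⁻¹ * s) = 0 := by rw [map_mul, h0, mul_zero]
    rw [inv_mul_cancel, map_one] at h1
    exact one_ne_zero h1
  let xC : Q → C := fun x => ⟨x.1, hmemC _ (hQA x.1 x.2)⟩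
  let yC : R → C := fun y => ⟨y.1, hmemC _ (hRA y.1 y.2)⟩
  let f : Q → (Module.End K (wt ρ A χ)) →ₗ[K] (Module.End K (wt ρ A χ)) := fun x =>
    (LinearMap.mulLeft K (τ (xC x))).comp (LinearMap.mulRight K (τ (xC x)⁻¹))
  let l : R → Q → K := fun y x => χ ⟨x.1 * y.1 * x.1⁻¹ * y.1⁻¹, hQR x.1 x.2 y.1 y.2⟩
  have hli : LinearIndependent K (fun y : R => τ (yC y)) := by
    refine linInd_of_eigen f _ (fun y => hτ0 _) l ?_ ?_
    · intro y x
      have h1 : f x (τ (yC y)) = τ (xC x) * (τ (yC y) * τ (xC x)⁻¹) := rfl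
      rw [h1, ← map_mul, ← map_mul]
      ext v
      have h2 : (τ (xC x * (yC y * (xC x)⁻¹)) v : V) = ρ (x.1 * y.1 * x.1⁻¹ * y.1⁻¹) (ρ y.1 v) := by
        rw [hτ, restr_apply, ← Module.End.mul_apply, ← map_mul]
        congr 2
        change x.1 * (y.1 * x.1⁻¹) = _
        group
      rw [h2]
      have h3 := mem_wt.1 (map_mem_wt ρ (hRA y.1 y.2) v.2) ⟨x.1 * y.1 * x.1⁻¹ * y.1⁻¹, hQR x.1 x.2 y.1 y.2⟩
      rw [h3]
      rfl
    · intro y y' hyy
      obtain ⟨x, hx, hxc⟩ := hR y.1 y.2 y'.1 y'.2 (fun h => hyy (Subtype.ext h))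
      refine ⟨⟨x, hx⟩, ?_⟩
      intro heq
      apply hχc
      have h2 : (⟨x * y.1 * x⁻¹ * y.1⁻¹, hQR x hx y.1 y.2⟩ : A)
          = c * ⟨x * y'.1 * x⁻¹ * y'.1⁻¹, hQR x hx y'.1 y'.2⟩ := by
        apply Subtype.ext
        change x * y.1 * x⁻¹ * y.1⁻¹ = c * (x * y'.1 * x⁻¹ * y'.1⁻¹)
        rw [← hxc]
        group
      have h3 : l y ⟨x, hx⟩ = χ (c * ⟨x * y'.1 * x⁻¹ * y'.1⁻¹, hQR x hx y'.1 y'.2⟩) := congrArg χ h2
      rw [wt_mul ρ hχ, heq] at h3
      have h4 : l y' ⟨x, hx⟩ ≠ 0 := by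
        intro h0
        have h5 := wt_mul ρ hχ ⟨x * y'.1 * x⁻¹ * y'.1⁻¹, hQR x hx y'.1 y'.2⟩
          (⟨x * y'.1 * x⁻¹ * y'.1⁻¹, hQR x hx y'.1 y'.2⟩)⁻¹
        have h6 : χ ⟨x * y'.1 * x⁻¹ * y'.1⁻¹, hQR x hx y'.1 y'.2⟩ = 0 := h0
        rw [mul_inv_cancel, wt_one ρ hχ, h6, zero_mul] at h5
        exact one_ne_zero h5
      have h7 : 1 * l y' ⟨x, hx⟩ = χ c * l y' ⟨x, hx⟩ := by rw [one_mul]; exact h3
      exact (mul_right_cancel₀ h4 h7).symm
  have h1 := hli.fintype_card_le_finrank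
  rw [Fintype.card_coe, Module.finrank_linearMap] at h1
  rw [sq]
  exact h1

end Rep

section Main

variable {F : Type u} [Field F] {n r : ℕ} {T : Type v} [Group T]

/-- **Heisenberg bound.** -/
theorem PR.bound_sq (h : PR F n r T) (hr : r.Prime) (hrF : (r : F) ≠ 0) (E : Subgroup T) [Finite E]
    (hE : ∀ a ∈ E, ∀ b ∈ E, a * b = b * a) (hEr : IsPGroup r E) {e₀ : T} (he₀ : e₀ ∈ E) (he₀1 : e₀ ≠ 1)
    (S : Finset T) (hS : ∀ s ∈ S, ∀ e ∈ E, s * e * s⁻¹ ∈ E)
    (hSc : ∀ s ∈ S, ∀ t ∈ S, s ≠ t → ∃ e ∈ E, (s * e * s⁻¹) * (t * e * t⁻¹)⁻¹ = e₀)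
    (Q : Set T) (hQE : ∀ x ∈ Q, ∀ e ∈ E, x * e = e * x) (hQr : ∀ x ∈ Q, ∃ k : ℕ, x ^ r ^ k = 1)
    (R : Finset T) (hRE : ∀ y ∈ R, ∀ e ∈ E, y * e = e * y)
    (hQR : ∀ x ∈ Q, ∀ y ∈ R, x * y * x⁻¹ * y⁻¹ ∈ E)
    (hR : ∀ y ∈ R, ∀ y' ∈ R, y ≠ y' → ∃ x ∈ Q, (x * y * x⁻¹ * y⁻¹) * (x * y' * x⁻¹ * y'⁻¹)⁻¹ = e₀) :
    S.card ^ 2 * R.card ≤ n ^ 2 := by
  classical
  obtain ⟨L, _, π, ρ, hπ, hc, hcop, hρ⟩ := h
  obtain ⟨A, hA, hAc, ⟨N, hN, hAN⟩, hlift, hnorm⟩ := exists_data (F := F) hπ hc hcop hr hrF hE hEr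
  obtain ⟨c, hcA, hce⟩ := hlift e₀ he₀
  obtain ⟨σ, hσ⟩ := hπ.hasRightInverse
  have hσinj : Function.Injective σ := hσ.injective
  have hck : repK ρ c ≠ 1 := by
    intro h1
    have h2 : c ∈ ρ.ker := eq_one_of_repK h1
    have h3 := hρ h2
    rw [MonoidHom.mem_ker, hce] at h3
    exact he₀1 h3
  have hcent : ∀ g : L, (∀ e ∈ E, π g * e = e * π g) → ∀ a ∈ A, g * a = a * g := by
    intro g hg a ha
    obtain ⟨h1, k, hk⟩ := (hA a).1 ha
    have h3 : g * a * g⁻¹ = a := by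
      refine lift_unique hc hcop (k := k) (l := k) ?_ ?_ hk
      · rw [map_mul, map_mul, map_inv, hg _ h1, mul_inv_cancel_right]
      · rw [conj_pow, hk]; group
    rw [mul_inv_eq_iff_eq_mul] at h3
    exact h3
  -- commutators of lifts
  have hcomm : ∀ x y : L, (∃ k : ℕ, x ^ r ^ k = 1) → (∀ e ∈ E, π x * e = e * π x) → (∀ e ∈ E, π y * e = e * π y) →
      π x * π y * (π x)⁻¹ * (π y)⁻¹ ∈ E → x * y * x⁻¹ * y⁻¹ ∈ A := by
    rintro x y ⟨k, hk⟩ hx hy hxy
    rw [hA]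
    refine ⟨by simpa only [map_mul, map_inv] using hxy, k, ?_⟩
    obtain ⟨a, ha, hae⟩ := hlift _ hxy
    have h1 : π ((x * y * x⁻¹ * y⁻¹) * a⁻¹) = 1 := by
      rw [map_mul, map_inv, hae]; simp only [map_mul, map_inv]; group
    have hcx : x * (x * y * x⁻¹ * y⁻¹) = (x * y * x⁻¹ * y⁻¹) * x := by
      have h2 := hc _ h1 x
      have h3 := hcent x hx a ha
      calc x * (x * y * x⁻¹ * y⁻¹) = (x * ((x * y * x⁻¹ * y⁻¹) * a⁻¹)) * a := by group
        _ = (((x * y * x⁻¹ * y⁻¹) * a⁻¹) * x) * a := by rw [h2]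
        _ = ((x * y * x⁻¹ * y⁻¹) * a⁻¹) * (x * a) := by group
        _ = ((x * y * x⁻¹ * y⁻¹) * a⁻¹) * (a * x) := by rw [h3]
        _ = (x * y * x⁻¹ * y⁻¹) * x := by group
    -- `[x ^ i, y] = [x, y] ^ i`
    have h4 : ∀ i : ℕ, x ^ i * y * (x ^ i)⁻¹ * y⁻¹ = (x * y * x⁻¹ * y⁻¹) ^ i := by
      intro i
      induction i with
      | zero => simp
      | succ i ih =>
        have hcxi : x ^ i * (x * y * x⁻¹ * y⁻¹) = (x * y * x⁻¹ * y⁻¹) * x ^ i :=
          ((show Commute x (x * y * x⁻¹ * y⁻¹) from hcx).pow_left i).eq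
        calc x ^ (i + 1) * y * (x ^ (i + 1))⁻¹ * y⁻¹
            = x ^ i * (x * y * x⁻¹ * y⁻¹) * (y * (x ^ i)⁻¹ * y⁻¹) := by rw [pow_succ]; group
          _ = (x * y * x⁻¹ * y⁻¹) * x ^ i * (y * (x ^ i)⁻¹ * y⁻¹) := by rw [hcxi]
          _ = (x * y * x⁻¹ * y⁻¹) * (x ^ i * y * (x ^ i)⁻¹ * y⁻¹) := by group
          _ = (x * y * x⁻¹ * y⁻¹) ^ (i + 1) := by rw [ih, ← pow_succ']
    rw [← h4, hk]; group
  obtain ⟨χ, hχ, hχc, hle⟩ := card_mul_finrank_le (repK ρ) hAc hN hAN hcA hck (S.image σ) (by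
    intro s hs a ha
    obtain ⟨t, ht, rfl⟩ := Finset.mem_image.1 hs
    exact hnorm (σ t) (by rw [hσ t]; exact hS t ht) a ha) (by
    intro s hs t ht hst
    obtain ⟨s', hs', rfl⟩ := Finset.mem_image.1 hs
    obtain ⟨t', ht', rfl⟩ := Finset.mem_image.1 ht
    obtain ⟨e, he, hee⟩ := hSc s' hs' t' ht' (fun h => hst (by rw [h]))
    obtain ⟨a, ha, hae⟩ := hlift e he
    refine ⟨a, ha, ?_⟩
    have h1 : σ s' * a * (σ s')⁻¹ ∈ A := hnorm (σ s') (by rw [hσ s']; exact hS s' hs') a ha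
    have h2 : σ t' * a * (σ t')⁻¹ ∈ A := hnorm (σ t') (by rw [hσ t']; exact hS t' ht') a ha
    obtain ⟨-, k, hk⟩ := (hA _).1 (A.mul_mem h1 (A.inv_mem h2))
    obtain ⟨-, l, hl⟩ := (hA _).1 hcA
    refine lift_unique hc hcop ?_ hk hl
    simp only [map_mul, map_inv, hσ s', hσ t', hae, hce]
    exact hee)
  have hR' : (R.image σ).card ≤ finrank (AlgebraicClosure F) (wt (repK ρ) A χ) ^ 2 := by
    refine card_le_finrank_sq (repK ρ) hχ (c := ⟨c, hcA⟩) hχc {x : L | π x ∈ Q ∧ ∃ k : ℕ, x ^ r ^ k = 1} ?_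
      (R.image σ) ?_ ?_ ?_
    · rintro x ⟨hx, -⟩ a ha
      exact hcent x (fun e he => hQE _ hx e he) a ha
    · intro y hy a ha
      obtain ⟨t, ht, rfl⟩ := Finset.mem_image.1 hy
      exact hcent _ (fun e he => by rw [hσ t]; exact hRE t ht e he) a ha
    · rintro x ⟨hx, hxk⟩ y hy
      obtain ⟨t, ht, rfl⟩ := Finset.mem_image.1 hy
      exact hcomm x _ hxk (fun e he => hQE _ hx e he) (fun e he => by rw [hσ t]; exact hRE t ht e he)
        (by rw [hσ t]; exact hQR _ hx t ht)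
    · intro y hy y' hy' hyy
      obtain ⟨t, ht, rfl⟩ := Finset.mem_image.1 hy
      obtain ⟨t', ht', rfl⟩ := Finset.mem_image.1 hy'
      obtain ⟨x, hx, hxe⟩ := hR t ht t' ht' (fun h => hyy (by rw [h]))
      obtain ⟨k, hk⟩ := hQr x hx
      obtain ⟨x', hx', hxk'⟩ := exists_lift hcop hπ hk
      refine ⟨x', ⟨by rw [hx']; exact hx, k, hxk'⟩, ?_⟩
      have h1 : x' * σ t * x'⁻¹ * (σ t)⁻¹ ∈ A :=
        hcomm x' _ ⟨k, hxk'⟩ (fun e he => by rw [hx']; exact hQE _ hx e he)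
          (fun e he => by rw [hσ t]; exact hRE t ht e he) (by rw [hσ t, hx']; exact hQR _ hx t ht)
      have h2 : x' * σ t' * x'⁻¹ * (σ t')⁻¹ ∈ A :=
        hcomm x' _ ⟨k, hxk'⟩ (fun e he => by rw [hx']; exact hQE _ hx e he)
          (fun e he => by rw [hσ t']; exact hRE t' ht' e he) (by rw [hσ t', hx']; exact hQR _ hx t' ht')
      obtain ⟨-, k', hk'⟩ := (hA _).1 (A.mul_mem h1 (A.inv_mem h2))
      obtain ⟨-, l, hl⟩ := (hA _).1 hcA
      refine lift_unique hc hcop ?_ hk' hl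
      simp only [map_mul, map_inv, hσ t, hσ t', hx', hce]
      exact hxe
  rw [Finset.card_image_of_injective _ hσinj] at hle hR'
  rw [Module.finrank_fintype_fun_eq_card, Fintype.card_fin] at hle
  calc S.card ^ 2 * R.card ≤ S.card ^ 2 * finrank (AlgebraicClosure F) (wt (repK ρ) A χ) ^ 2 :=
        Nat.mul_le_mul_left _ hR'
    _ = (S.card * finrank (AlgebraicClosure F) (wt (repK ρ) A χ)) ^ 2 := by rw [mul_pow]
    _ ≤ n ^ 2 := Nat.pow_le_pow_left hle 2

/-- **Heisenberg bound, subgroup form.** -/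
theorem PR.bound_heis (h : PR F n r T) (hr : r.Prime) (hrF : (r : F) ≠ 0) (E Q : Subgroup T) [Finite Q] (hEQ : E ≤ Q)
    (hQE : ∀ x ∈ Q, ∀ e ∈ E, x * e = e * x) (hQr : IsPGroup r Q) {e₀ : T} (he₀ : e₀ ∈ E) (he₀1 : e₀ ≠ 1)
    (S : Finset T) (hS : ∀ s ∈ S, ∀ e ∈ E, s * e * s⁻¹ ∈ E)
    (hSc : ∀ s ∈ S, ∀ t ∈ S, s ≠ t → ∃ e ∈ E, (s * e * s⁻¹) * (t * e * t⁻¹)⁻¹ = e₀)
    (hQQ : ∀ x ∈ Q, ∀ y ∈ Q, x * y * x⁻¹ * y⁻¹ ∈ E)
    (hR : ∀ y ∈ Q, y ∉ E → ∃ x ∈ Q, x * y * x⁻¹ * y⁻¹ = e₀) :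
    S.card ^ 2 * Nat.card Q ≤ n ^ 2 * Nat.card E := by
  classical
  have : Finite E := Finite.of_injective _ (Subgroup.inclusion_injective hEQ)
  have hEr : IsPGroup r E := hQr.of_injective (Subgroup.inclusion hEQ) (Subgroup.inclusion_injective hEQ)
  -- a transversal
  let q : Q ⧸ (E.subgroupOf Q) → T := fun a => (a.out : T)
  have hq : Function.Injective q := by
    intro a b hab
    rw [← QuotientGroup.out_eq' a, ← QuotientGroup.out_eq' b]
    congr 1
    exact Subtype.ext hab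
  have : Fintype (Q ⧸ (E.subgroupOf Q)) := Fintype.ofFinite _
  have hqQ : ∀ a, q a ∈ Q := fun a => a.out.2
  have key := h.bound_sq hr hrF E (fun a ha b hb => hQE a (hEQ ha) b hb) hEr he₀ he₀1 S hS hSc (Q : Set T) hQE
    (fun x hx => by
      obtain ⟨k, hk⟩ := hQr ⟨x, hx⟩
      exact ⟨k, congrArg Subtype.val hk⟩)
    (Finset.univ.image q) (by
      intro y hy e he
      obtain ⟨a, -, rfl⟩ := Finset.mem_image.1 hy
      exact hQE _ (hqQ a) e he) (by
      intro x hx y hy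
      obtain ⟨a, -, rfl⟩ := Finset.mem_image.1 hy
      exact hQQ x hx _ (hqQ a)) (by
      intro y hy y' hy' hyy
      obtain ⟨a, -, rfl⟩ := Finset.mem_image.1 hy
      obtain ⟨b, -, rfl⟩ := Finset.mem_image.1 hy'
      have hab : a ≠ b := fun h => hyy (by rw [h])
      have h1 : (q b)⁻¹ * q a ∉ E := by
        intro hmem
        apply hab
        have h2 : (QuotientGroup.mk b.out : Q ⧸ (E.subgroupOf Q)) = QuotientGroup.mk a.out := by
          rw [QuotientGroup.eq, Subgroup.mem_subgroupOf]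
          exact hmem
        rw [QuotientGroup.out_eq', QuotientGroup.out_eq'] at h2
        exact h2.symm
      obtain ⟨x, hx, hxe⟩ := hR _ (Q.mul_mem (Q.inv_mem (hqQ b)) (hqQ a)) h1
      refine ⟨x, hx, ?_⟩
      -- commutator identities
      set y := q a with hy
      set y' := q b with hy'
      have hyQ : y ∈ Q := hqQ a
      have hyQ' : y' ∈ Q := hqQ b
      rw [← hxe]
      have h3 : (x * y' * x⁻¹ * y'⁻¹)⁻¹ ∈ E := E.inv_mem (hQQ x hx y' hyQ')
      have h4 := hQE (x * y * x⁻¹ * y⁻¹) (hEQ (hQQ x hx y hyQ)) _ h3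
      have h5 := hQE y' hyQ' _ (hQQ x hx ((y')⁻¹ * y) (Q.mul_mem (Q.inv_mem hyQ') hyQ))
      calc x * y * x⁻¹ * y⁻¹ * (x * y' * x⁻¹ * y'⁻¹)⁻¹
          = (x * y' * x⁻¹ * y'⁻¹)⁻¹ * (x * y * x⁻¹ * y⁻¹) := h4
        _ = y' * (x * (y'⁻¹ * y) * x⁻¹ * (y'⁻¹ * y)⁻¹) * y'⁻¹ := by group
        _ = (x * (y'⁻¹ * y) * x⁻¹ * (y'⁻¹ * y)⁻¹) * y' * y'⁻¹ := by rw [h5]
        _ = x * (y'⁻¹ * y) * x⁻¹ * (y'⁻¹ * y)⁻¹ := by group)
  have hcard : (Finset.univ.image q).card * Nat.card E = Nat.card Q := by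
    rw [Finset.card_image_of_injective _ hq, Finset.card_univ, ← Nat.card_eq_fintype_card]
    have h1 := Subgroup.card_eq_card_quotient_mul_card_subgroup (E.subgroupOf Q)
    have h2 : Nat.card (E.subgroupOf Q) = Nat.card E :=
      Nat.card_congr (Subgroup.subgroupOfEquivOfLe hEQ).toEquiv
    rw [h1, h2]
  calc S.card ^ 2 * Nat.card Q = (S.card ^ 2 * (Finset.univ.image q).card) * Nat.card E := by rw [← hcard]; ring
    _ ≤ n ^ 2 * Nat.card E := Nat.mul_le_mul_right _ key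

/-- powers of an element acting as different powers on a group of prime order. -/
theorem diff_of_prime (hr : r.Prime) {z y : T} (hz : orderOf z = r) {c : ℕ} (h : y * z * y⁻¹ = z ^ c) {m : ℕ}
    (hk : ∀ i < m, 0 < i → c ^ i % r ≠ 1 % r) {i j : ℕ} (hi : i < m) (hj : j < m) (hij : i ≠ j) :
    ∃ e ∈ Subgroup.zpowers z, (y ^ i * e * (y ^ i)⁻¹) * (y ^ j * e * (y ^ j)⁻¹)⁻¹ = z := by
  have hfx : IsOfFinOrder z := orderOf_pos_iff.1 (by rw [hz]; exact hr.pos)
  have : Finite (Subgroup.zpowers z) := hfx.finite_zpowers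
  have hcop : ¬ r ∣ c := by
    intro hd
    have h1 : z ^ c = 1 := by
      obtain ⟨d, rfl⟩ := hd
      rw [pow_mul, ← hz, pow_orderOf_eq_one, one_pow]
    rw [h1] at h
    have h2 : z = 1 := by
      have := mul_inv_eq_one.1 h
      have h3 : y * z = y * 1 := by rw [this, mul_one]
      exact mul_left_cancel h3
    rw [h2, orderOf_one] at hz
    exact hr.one_lt.ne hz
  have key : ∀ i j : ℕ, i < j → j < m → ∀ e ∈ Subgroup.zpowers z, y ^ i * e * (y ^ i)⁻¹ = y ^ j * e * (y ^ j)⁻¹ →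
      e = 1 := by
    intro i j hij hj e he heq
    obtain ⟨l, rfl⟩ := (hfx.mem_powers_iff_mem_zpowers.2 he)
    simp only at heq ⊢
    rw [pow_conj h, pow_conj h, pow_eq_pow_iff_modEq, hz] at heq
    by_contra hne
    have h3 : r.gcd l = 1 := by
      rw [← Nat.coprime_iff_gcd_eq_one]
      refine (Nat.Prime.coprime_iff_not_dvd hr).2 ?_
      intro hd
      apply hne
      rw [← orderOf_dvd_iff_pow_eq_one, hz]
      exact hd
    have h4 : c ^ i ≡ c ^ j [MOD r] := Nat.ModEq.cancel_left_of_coprime h3 heq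
    have h5 : c ^ j = c ^ i * c ^ (j - i) := by rw [← pow_add]; congr 1; omega
    have h6 : r.gcd (c ^ i) = 1 :=
      Nat.coprime_iff_gcd_eq_one.1 (Nat.Coprime.pow_right i ((Nat.Prime.coprime_iff_not_dvd hr).2 hcop))
    rw [h5] at h4
    have h7 : 1 ≡ c ^ (j - i) [MOD r] := by
      apply Nat.ModEq.cancel_left_of_coprime h6
      rw [mul_one]; exact h4
    exact hk (j - i) (by omega) (by omega) h7.symm
  have hnorm : ∀ i : ℕ, ∀ e ∈ Subgroup.zpowers z, y ^ i * e * (y ^ i)⁻¹ ∈ Subgroup.zpowers z := by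
    intro i e he
    obtain ⟨l, rfl⟩ := (hfx.mem_powers_iff_mem_zpowers.2 he)
    simp only
    rw [pow_conj h]
    exact Subgroup.pow_mem _ (Subgroup.mem_zpowers z) _
  refine diff_of_free ?_ (Subgroup.mem_zpowers z) (hnorm i) (hnorm j) ?_
  · rintro _ ⟨i, rfl⟩ _ ⟨j, rfl⟩
    rw [← zpow_add, ← zpow_add, add_comm]
  · rcases lt_or_gt_of_ne hij with h1 | h1
    · exact key i j h1 hj
    · intro e he heq
      exact key j i h1 hi e he heq.symm

/-- **Extraspecial subgroups** `r^(1+2k)`, with fusion of `m` powers of the central element. -/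
theorem bd_of_extraspecial (hr : r.Prime) (hrF : (r : F) ≠ 0) (Q : Subgroup T) {k : ℕ}
    (hQ : Nat.card Q = r ^ (2 * k + 1)) {z : T} (hz : orderOf z = r) (hzQ : z ∈ Q) (hzc : ∀ x ∈ Q, x * z = z * x)
    (hQQ : ∀ x ∈ Q, ∀ y ∈ Q, x * y * x⁻¹ * y⁻¹ ∈ Subgroup.zpowers z)
    (hR : ∀ y ∈ Q, y ∉ Subgroup.zpowers z → ∃ x ∈ Q, x * y ≠ y * x)
    {g : T} {c : ℕ} (hg : g * z * g⁻¹ = z ^ c) (m : ℕ) (hk : ∀ i < m, 0 < i → c ^ i % r ≠ 1 % r) :
    Bd F r (m * r ^ k) T := by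
  classical
  intro n h
  have : Finite Q := Nat.finite_of_card_ne_zero (by rw [hQ]; exact (pow_pos hr.pos _).ne')
  have : Fact r.Prime := ⟨hr⟩
  have hz1 : z ≠ 1 := by
    rintro rfl
    rw [orderOf_one] at hz
    exact hr.one_lt.ne hz
  have hfx : IsOfFinOrder z := orderOf_pos_iff.1 (by rw [hz]; exact hr.pos)
  have hfz : Finite (Subgroup.zpowers z) := hfx.finite_zpowers
  have hinj : Set.InjOn (fun i : ℕ => g ^ i) (Finset.range m : Set ℕ) := by
    intro i hi j hj hij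
    simp only [Finset.coe_range, Set.mem_Iio] at hi hj hij
    by_contra hne
    obtain ⟨e, -, he⟩ := diff_of_prime hr hz hg hk hi hj hne
    rw [hij, mul_inv_cancel] at he
    exact hz1 he.symm
  have hle := h.bound_heis hr hrF (Subgroup.zpowers z) Q (by rwa [Subgroup.zpowers_le])
    (by
      intro x hx e he
      obtain ⟨l, rfl⟩ := (hfx.mem_powers_iff_mem_zpowers.2 he)
      exact ((show Commute x z from hzc x hx).pow_right l).eq)
    (IsPGroup.of_card hQ) (Subgroup.mem_zpowers z) hz1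
    ((Finset.range m).image (fun i => g ^ i)) (by
      intro s hs e he
      obtain ⟨i, -, rfl⟩ := Finset.mem_image.1 hs
      obtain ⟨l, rfl⟩ := (hfx.mem_powers_iff_mem_zpowers.2 he)
      simp only
      rw [pow_conj hg]
      exact Subgroup.pow_mem _ (Subgroup.mem_zpowers z) _) (by
      intro s hs t ht hst
      obtain ⟨i, hi, rfl⟩ := Finset.mem_image.1 hs
      obtain ⟨j, hj, rfl⟩ := Finset.mem_image.1 ht
      exact diff_of_prime hr hz hg hk (Finset.mem_range.1 hi) (Finset.mem_range.1 hj) (fun h => hst (by rw [h])))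
    hQQ (by
      intro y hy hyz
      obtain ⟨x, hx, hxy⟩ := hR y hy hyz
      -- `[x, y]` generates `⟨z⟩`
      have h1 := hQQ x hx y hy
      have h2 : x * y * x⁻¹ * y⁻¹ ≠ 1 := by
        intro h0
        apply hxy
        rw [mul_inv_eq_one, mul_inv_eq_iff_eq_mul] at h0
        exact h0
      have h3 : Subgroup.zpowers (x * y * x⁻¹ * y⁻¹) = Subgroup.zpowers z := by
        apply Subgroup.eq_of_le_of_card_ge
        · rwa [Subgroup.zpowers_le]
        · rw [Nat.card_zpowers, Nat.card_zpowers, hz]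
          have h4 : (x * y * x⁻¹ * y⁻¹) ^ r = 1 := by
            obtain ⟨l, hl⟩ := h1
            rw [← hl]
            simp only
            rw [← zpow_natCast, ← zpow_mul, mul_comm, zpow_mul, zpow_natCast, ← hz, pow_orderOf_eq_one, one_zpow]
          rw [orderOf_eq_prime h4 h2]
      have h4 : z ∈ Subgroup.zpowers (x * y * x⁻¹ * y⁻¹) := by rw [h3]; exact Subgroup.mem_zpowers z
      have hfin : IsOfFinOrder (x * y * x⁻¹ * y⁻¹) := by
        obtain ⟨l, hl⟩ := h1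
        rw [← hl]
        exact hfx.zpow
      obtain ⟨l, hl⟩ := hfin.mem_powers_iff_mem_zpowers.2 h4
      refine ⟨x ^ l, Q.pow_mem hx l, ?_⟩
      rw [← hl]
      simp only
      have hcx : x * (x * y * x⁻¹ * y⁻¹) = (x * y * x⁻¹ * y⁻¹) * x := by
        obtain ⟨i, hi⟩ := hfx.mem_powers_iff_mem_zpowers.2 h1
        simp only at hi
        rw [← hi]
        exact ((show Commute x z from hzc x hx).pow_right i).eq
      have h5 : ∀ i : ℕ, x ^ i * y * (x ^ i)⁻¹ * y⁻¹ = (x * y * x⁻¹ * y⁻¹) ^ i := by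
        intro i
        induction i with
        | zero => simp
        | succ i ih =>
          have hcxi : x ^ i * (x * y * x⁻¹ * y⁻¹) = (x * y * x⁻¹ * y⁻¹) * x ^ i :=
            ((show Commute x (x * y * x⁻¹ * y⁻¹) from hcx).pow_left i).eq
          calc x ^ (i + 1) * y * (x ^ (i + 1))⁻¹ * y⁻¹
              = x ^ i * (x * y * x⁻¹ * y⁻¹) * (y * (x ^ i)⁻¹ * y⁻¹) := by rw [pow_succ]; group
            _ = (x * y * x⁻¹ * y⁻¹) * x ^ i * (y * (x ^ i)⁻¹ * y⁻¹) := by rw [hcxi]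
            _ = (x * y * x⁻¹ * y⁻¹) * (x ^ i * y * (x ^ i)⁻¹ * y⁻¹) := by group
            _ = (x * y * x⁻¹ * y⁻¹) ^ (i + 1) := by rw [ih, ← pow_succ']
      exact h5 l)
  rw [Finset.card_image_of_injOn hinj, Finset.card_range, hQ, Nat.card_zpowers, hz] at hle
  have h1 : (m * r ^ k) ^ 2 * r ≤ n ^ 2 * r := by
    calc (m * r ^ k) ^ 2 * r = m ^ 2 * r ^ (2 * k + 1) := by ring
      _ ≤ n ^ 2 * r := hle
  have h2 : (m * r ^ k) ^ 2 ≤ n ^ 2 := Nat.le_of_mul_le_mul_right h1 hr.pos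
  exact (Nat.pow_le_pow_iff_left (by norm_num)).1 h2

/-- **Extraspecial subgroups** `r^(1+2k)`: bound `r ^ k`. -/
theorem bd_of_extraspecial' (hr : r.Prime) (hrF : (r : F) ≠ 0) (Q : Subgroup T) {k : ℕ}
    (hQ : Nat.card Q = r ^ (2 * k + 1)) {z : T} (hz : orderOf z = r) (hzQ : z ∈ Q) (hzc : ∀ x ∈ Q, x * z = z * x)
    (hQQ : ∀ x ∈ Q, ∀ y ∈ Q, x * y * x⁻¹ * y⁻¹ ∈ Subgroup.zpowers z)
    (hR : ∀ y ∈ Q, y ∉ Subgroup.zpowers z → ∃ x ∈ Q, x * y ≠ y * x) : Bd F r (r ^ k) T := by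
  have := bd_of_extraspecial (F := F) hr hrF Q hQ hz hzQ hzc hQQ hR (g := 1) (c := 1) (by simp) 1 (by omega)
  rwa [one_mul] at this

end Main

/-! ### Subgroups of `GL_n(F)` -/

section Interface

variable {F : Type u} [Field F] {n r : ℕ} {T : Type v} [Group T]

theorem scalars_comm {g h : Matrix.GeneralLinearGroup (Fin n) F} (hg : g ∈ Cfsg.Geo.scalars (Fin n) F) :
    g * h = h * g := by
  rw [Cfsg.Geo.mem_scalars_iff] at hg
  obtain ⟨c, hc⟩ := hg
  apply Units.ext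
  rw [Units.val_mul, Units.val_mul, hc, Matrix.smul_mul, Matrix.mul_smul, one_mul, mul_one]

/-- A subgroup of `GL_n(F)` modulo its scalars. -/
theorem PR.of_scalars (P : Subgroup (Matrix.GeneralLinearGroup (Fin n) F))
    (e : (P ⧸ (Cfsg.Geo.scalars (Fin n) F).subgroupOf P) ≃* T)
    (hr : (Nat.card ((Cfsg.Geo.scalars (Fin n) F).subgroupOf P)).Coprime r) : PR F n r T := by
  have hk : ∀ x : P, e (QuotientGroup.mk' _ x) = 1 ↔ x ∈ (Cfsg.Geo.scalars (Fin n) F).subgroupOf P := by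
    intro x
    rw [map_eq_one_iff _ e.injective, QuotientGroup.mk'_apply, QuotientGroup.eq_one_iff]
  refine ⟨P, inferInstance, e.toMonoidHom.comp (QuotientGroup.mk' _), P.subtype, ?_, ?_, ?_, ?_⟩
  · exact e.surjective.comp (QuotientGroup.mk'_surjective _)
  · intro x hx y
    have h1 := (hk x).1 hx
    rw [Subgroup.mem_subgroupOf] at h1
    exact Subtype.ext (scalars_comm h1)
  · have : (e.toMonoidHom.comp (QuotientGroup.mk' ((Cfsg.Geo.scalars (Fin n) F).subgroupOf P))).ker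
        = (Cfsg.Geo.scalars (Fin n) F).subgroupOf P := by
      ext x
      exact hk x
    rw [this]
    exact hr
  · intro x hx
    have : x = 1 := Subtype.ext (by simpa using hx)
    rw [this]; exact one_mem _

/-- `|P ∩ scalars|` is prime to `r` if `P ≤ SL_n(F)` and `r` does not divide `n`. -/
theorem coprime_scalars [Finite F] (P : Subgroup (Matrix.GeneralLinearGroup (Fin n) F))
    (hP : P ≤ Cfsg.Geo.specialLinear (Fin n) F) (hr : r.Prime) (hrn : ¬ r ∣ n) :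
    (Nat.card ((Cfsg.Geo.scalars (Fin n) F).subgroupOf P)).Coprime r := by
  rw [Nat.coprime_comm, Nat.Prime.coprime_iff_not_dvd hr]
  intro hd
  have : Fact r.Prime := ⟨hr⟩
  obtain ⟨x, hx⟩ := exists_prime_orderOf_dvd_card' r hd
  apply hrn
  rw [← hx]
  apply orderOf_dvd_of_pow_eq_one
  have h1 : ((x : P) : Matrix.GeneralLinearGroup (Fin n) F) ∈ Cfsg.Geo.scalars (Fin n) F := x.2
  obtain ⟨c, hc⟩ := (Cfsg.Geo.mem_scalars_iff _).1 h1
  have h2 : ((x : P) : Matrix.GeneralLinearGroup (Fin n) F) ∈ Cfsg.Geo.specialLinear (Fin n) F := hP (x : P).2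
  have h3 : (((x : P) : Matrix.GeneralLinearGroup (Fin n) F) : Matrix (Fin n) (Fin n) F).det = 1 := by
    have h4 : Matrix.GeneralLinearGroup.det ((x : P) : Matrix.GeneralLinearGroup (Fin n) F) = 1 := h2
    exact congrArg Units.val h4
  rw [hc, Matrix.det_smul, Matrix.det_one, mul_one, Fintype.card_fin] at h3
  apply Subtype.ext
  apply Subtype.ext
  apply Units.ext
  change (((x : P) : Matrix.GeneralLinearGroup (Fin n) F) : Matrix (Fin n) (Fin n) F) ^ n = 1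
  rw [hc, smul_pow, one_pow, h3, one_smul]

/-- A subgroup of `SL_n(F)` modulo its scalars, `r` not dividing `n`. -/
theorem PR.of_special [Finite F] (P : Subgroup (Matrix.GeneralLinearGroup (Fin n) F))
    (hP : P ≤ Cfsg.Geo.specialLinear (Fin n) F) (hr : r.Prime) (hrn : ¬ r ∣ n)
    (e : (P ⧸ (Cfsg.Geo.scalars (Fin n) F).subgroupOf P) ≃* T) : PR F n r T :=
  PR.of_scalars P e (coprime_scalars P hP hr hrn)

/-- A perfect subgroup of `GL_n(F)` lies in `SL_n(F)`. -/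
theorem le_specialLinear_of_perfect (P : Subgroup (Matrix.GeneralLinearGroup (Fin n) F)) (hP : ⁅P, P⁆ = P) :
    P ≤ Cfsg.Geo.specialLinear (Fin n) F := by
  rw [← hP, Subgroup.commutator_le]
  intro g _ h _
  change Matrix.GeneralLinearGroup.det (g * h * g⁻¹ * h⁻¹) = 1
  rw [map_mul, map_mul, map_mul, map_inv, map_inv, mul_comm (Matrix.GeneralLinearGroup.det g), mul_inv_cancel_right,
    mul_inv_cancel]

/-- A perfect subgroup of `GL_n(F)` modulo its scalars, `r` not dividing `n`. -/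
theorem PR.of_perfect [Finite F] (P : Subgroup (Matrix.GeneralLinearGroup (Fin n) F)) (hP : ⁅P, P⁆ = P)
    (hr : r.Prime) (hrn : ¬ r ∣ n) (e : (P ⧸ (Cfsg.Geo.scalars (Fin n) F).subgroupOf P) ≃* T) : PR F n r T :=
  PR.of_special P (le_specialLinear_of_perfect P hP) hr hrn e

/-- Isomorphic groups. -/
theorem Bd.congr {m : ℕ} {T' : Type w} [Group T'] (h : Bd F r m T') (e : T ≃* T') : Bd F r m T :=
  h.of_sub e.symm.toMonoidHom e.symm.injective

theorem Bd.of_mulEquiv {m : ℕ} {T' : Type w} [Group T'] (h : Bd F r m T') (e : Nonempty (T ≃* T')) : Bd F r m T :=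
  h.congr e.some

end Interface

end Cfsg.Agent.H912.Bd
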