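import Cfsg.Agent.H203.LSDef
import Cfsg.Prelude.Def_GeometricClasses
import Mathlib.GroupTheory.Commutator.Basic

/-!
# Using the lower bounds `LS`

`le_of_ls`: a perfect `P ≤ GL_n(F)` with `P` modulo scalars isomorphic to `T`, `LS r d T` and `(r : F) ≠ 0`: `d ≤ n`.
-/

set_option autoImplicit false

universe u v

namespace Cfsg.Agent.H912.Bd

open Cfsg Cfsg.Agent.H203.LS

theorem commutator_eq_top {G : Type*} [Group G] {P : Subgroup G} (hP : ⁅P, P⁆ = P) : commutator P = ⊤ := by
  apply Subgroup.map_injective P.subtype_injective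
  rw [_root_.commutator_def, Subgroup.map_commutator, ← MonoidHom.range_eq_map, Subgroup.range_subtype, hP]

theorem scalars_central {F : Type u} [Field F] {n : ℕ} {x : Matrix.GeneralLinearGroup (Fin n) F}
    (hx : x ∈ Cfsg.Geo.scalars (Fin n) F) (y : Matrix.GeneralLinearGroup (Fin n) F) : x * y = y * x := by
  obtain ⟨c, hc⟩ := (Cfsg.Geo.mem_scalars_iff _).1 hx
  apply Units.ext
  rw [Units.val_mul, Units.val_mul, hc, Matrix.smul_mul, Matrix.mul_smul, one_mul, mul_one]

theorem ker_comp_mk {G : Type*} [Group G] (N : Subgroup G) [N.Normal] {T : Type*} [Group T] (e : G ⧸ N ≃* T) :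
    (e.toMonoidHom.comp (QuotientGroup.mk' N)).ker = N := by
  ext x
  rw [MonoidHom.mem_ker, MonoidHom.comp_apply]
  change e _ = 1 ↔ _
  rw [map_eq_one_iff _ e.injective, QuotientGroup.mk'_apply, QuotientGroup.eq_one_iff]

theorem le_of_ls {F : Type u} [Field F] [Finite F] {n r d : ℕ} {T : Type v} [Group T] [Nontrivial T]
    (h : LS.{v, u, u} r d T) (hrF : (r : F) ≠ 0) (P : Subgroup (Matrix.GeneralLinearGroup (Fin n) F))
    (hP : ⁅P, P⁆ = P) (e : (P ⧸ (Cfsg.Geo.scalars (Fin n) F).subgroupOf P) ≃* T) : d ≤ n := by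
  have hfin : Finite (Matrix.GeneralLinearGroup (Fin n) F) := inferInstance
  have hk := ker_comp_mk ((Cfsg.Geo.scalars (Fin n) F).subgroupOf P) e
  refine h P (e.toMonoidHom.comp (QuotientGroup.mk' _))
    (e.surjective.comp (QuotientGroup.mk'_surjective ((Cfsg.Geo.scalars (Fin n) F).subgroupOf P))) ?_
    (commutator_eq_top hP) F hrF n P.subtype ?_
  · rw [hk]
    intro x hx
    rw [Subgroup.mem_center_iff]
    intro y
    exact (Subtype.ext (scalars_central (Subgroup.mem_subgroupOf.1 hx) y)).symm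
  · intro h1
    obtain ⟨t, ht⟩ := exists_ne (1 : T)
    obtain ⟨x, hx⟩ := (e.surjective.comp (QuotientGroup.mk'_surjective
      ((Cfsg.Geo.scalars (Fin n) F).subgroupOf P))) t
    apply ht
    rw [← hx]
    have hx1 : x = 1 := by
      have := DFunLike.congr_fun h1 x
      exact Subtype.ext this
    rw [hx1, Function.comp_apply, map_one, map_one]

end Cfsg.Agent.H912.Bd
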