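import Cfsg.Agent.H912.BdOrth1

/-!
# Orthogonal groups: the exterior square of a totally singular 3-space, bound `q ^ 3 - 1`
-/

set_option autoImplicit false
set_option linter.dupNamespace false
set_option linter.unusedSectionVars false

universe u v w

namespace Cfsg.Agent.H912.Bd

open Matrix Cfsg.Agent.H934.IdxCl Cfsg.Agent.H118.SLTrans

section Sk

variable {K : Type} [Field K]

/-- alternating `3 × 3` matrices -/
def Sk (v : Fin 3 → K) : Matrix (Fin 3) (Fin 3) K := !![0, v 2, -v 1; -v 2, 0, v 0; v 1, -v 0, 0]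

theorem Sk_add (v w : Fin 3 → K) : Sk (v + w) = Sk v + Sk w := by
  ext i j
  fin_cases i <;> fin_cases j <;> simp [Sk] <;> ring

theorem Sk_zero : Sk (0 : Fin 3 → K) = 0 := by
  ext i j
  fin_cases i <;> fin_cases j <;> simp [Sk]

theorem Sk_injective : Function.Injective (Sk : (Fin 3 → K) → _) := by
  intro v w h
  funext i
  fin_cases i
  · simpa [Sk] using congrFun (congrFun h 1) 2
  · simpa [Sk] using congrFun (congrFun h 2) 0
  · simpa [Sk] using congrFun (congrFun h 0) 1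

theorem mul_Sk (A : Matrix (Fin 3) (Fin 3) K) (v : Fin 3 → K) : A * Sk v * Aᵀ = Sk ((A.adjugate)ᵀ *ᵥ v) := by
  ext i j
  fin_cases i <;> fin_cases j <;>
    simp [Sk, Matrix.mul_apply, Fin.sum_univ_three, Matrix.adjugate_fin_three, mulVec, dotProduct] <;> ring

theorem Sk_dot (v y : Fin 3 → K) : (Sk v *ᵥ y) ⬝ᵥ y = 0 := by
  simp [Sk, mulVec, dotProduct, Fin.sum_univ_three]
  ring

/-- unipotent elements -/
def uM : Multiplicative (Fin 3 → K) →* Matrix (Fin 3 ⊕ Fin 3) (Fin 3 ⊕ Fin 3) K where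
  toFun v := fromBlocks 1 (Sk (Multiplicative.toAdd v)) 0 1
  map_one' := by
    rw [toAdd_one, Sk_zero, fromBlocks_one]
  map_mul' v w := by
    rw [fromBlocks_multiply, toAdd_mul, Sk_add]
    simp [add_comm]

theorem uM_apply (v : Multiplicative (Fin 3 → K)) : uM v = fromBlocks 1 (Sk (Multiplicative.toAdd v)) 0 1 := rfl

theorem quad_uM (v : Multiplicative (Fin 3 → K)) (x : Fin 3 ⊕ Fin 3 → K) :
    Cfsg.quadFormPlus 3 K (uM v *ᵥ x) = Cfsg.quadFormPlus 3 K x := by
  have h1 : uM v *ᵥ x = Sum.elim ((x ∘ Sum.inl) + Sk (Multiplicative.toAdd v) *ᵥ (x ∘ Sum.inr)) (x ∘ Sum.inr) := by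
    rw [uM_apply, fromBlocks_mulVec]
    simp
  rw [h1]
  have h2 := Sk_dot (Multiplicative.toAdd v) (x ∘ Sum.inr)
  have h3 : Cfsg.quadFormPlus 3 K (Sum.elim ((x ∘ Sum.inl) + Sk (Multiplicative.toAdd v) *ᵥ (x ∘ Sum.inr)) (x ∘ Sum.inr))
      = ((x ∘ Sum.inl) + Sk (Multiplicative.toAdd v) *ᵥ (x ∘ Sum.inr)) ⬝ᵥ (x ∘ Sum.inr) := rfl
  rw [h3, add_dotProduct, h2, add_zero]
  rfl

/-- unipotent elements as isometries -/
def uI : Multiplicative (Fin 3 → K) →* Cfsg.isometryGroup K (Cfsg.quadFormPlus 3 K) :=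
  (uM.toHomUnits).codRestrict _ (fun v => by
    intro x y
    exact quad_uM v x)

theorem uI_val (v : Multiplicative (Fin 3 → K)) : (((uI v : Cfsg.isometryGroup K (Cfsg.quadFormPlus 3 K)) :
    GL (Fin 3 ⊕ Fin 3) K) : Matrix (Fin 3 ⊕ Fin 3) (Fin 3 ⊕ Fin 3) K) = uM v := rfl

theorem uI_injective : Function.Injective (uI (K := K)) := by
  intro v w h
  have h1 : uM v = uM w := by rw [← uI_val, h, uI_val]
  rw [uM_apply, uM_apply, fromBlocks_inj] at h1
  exact congrArg Multiplicative.ofAdd (Sk_injective h1.2.1)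

theorem conj_uI (A : SpecialLinearGroup (Fin 3) K) (v : Multiplicative (Fin 3 → K)) :
    levI 3 K (SpecialLinearGroup.toGL A) * uI v * (levI 3 K (SpecialLinearGroup.toGL A))⁻¹
      = uI (Multiplicative.ofAdd (((A.1).adjugate)ᵀ *ᵥ (Multiplicative.toAdd v))) := by
  rw [mul_inv_eq_iff_eq_mul]
  apply Subtype.ext
  apply Units.ext
  change lev 3 K (SpecialLinearGroup.toGL A) * uM v = uM _ * lev 3 K (SpecialLinearGroup.toGL A)
  rw [lev_apply, uM_apply, uM_apply, fromBlocks_multiply, fromBlocks_multiply]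
  simp only [mul_one, mul_zero, zero_mul, add_zero, zero_add, one_mul, toAdd_ofAdd]
  congr 1
  rw [← mul_Sk, Matrix.mul_assoc, ← Matrix.transpose_mul]
  have h1 : (((SpecialLinearGroup.toGL A)⁻¹ : GL (Fin 3) K) : Matrix (Fin 3) (Fin 3) K) * A.1 = 1 := by
    have := congrArg Units.val (inv_mul_cancel (SpecialLinearGroup.toGL A))
    exact this
  rw [h1, transpose_one, mul_one]
  rfl

/-- transitivity -/
theorem exists_adj {v w : Fin 3 → K} (hv : v ≠ 0) (hw : w ≠ 0) :
    ∃ A : SpecialLinearGroup (Fin 3) K, ((A.1).adjugate)ᵀ *ᵥ v = w := by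
  obtain ⟨B, hB⟩ := exists_sl_map (ι := Fin 3) (K := K) (by decide) hv hw
  refine ⟨(B⁻¹).transpose, ?_⟩
  have h1 : ((B⁻¹).transpose)⁻¹ = B.transpose := by
    rw [inv_eq_iff_mul_eq_one]
    apply Subtype.ext
    change ((B⁻¹).1)ᵀ * (B.1)ᵀ = 1
    rw [← Matrix.transpose_mul]
    have h2 : B.1 * (B⁻¹).1 = 1 := congrArg Subtype.val (mul_inv_cancel B)
    rw [h2, transpose_one]
  have h3 : (((B⁻¹).transpose)⁻¹).1 = ((B⁻¹).transpose).1.adjugate := rfl
  rw [← h3, h1]
  change (B.1ᵀ)ᵀ *ᵥ v = w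
  rw [transpose_transpose, hB]

theorem exists_np {ι : Type} [DecidableEq ι] [Fintype ι] (h2 : 2 ≤ Fintype.card ι) {v : ι → K} (hv : v ≠ 0) :
    ∃ x : ι → K, NP v x := by
  obtain ⟨i, hi⟩ := Function.ne_iff.1 hv
  have hi : v i ≠ 0 := hi
  obtain ⟨j, hj⟩ : ∃ j, j ≠ i := by
    have := Fintype.one_lt_card_iff_nontrivial.1 (show 1 < Fintype.card ι by omega)
    exact exists_ne i
  refine ⟨Pi.single j 1, i, j, ?_⟩
  rw [Pi.single_eq_same, Pi.single_eq_of_ne hj.symm]
  simpa using hi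

theorem uI_mem (v : Multiplicative (Fin 3 → K)) :
    uI v ∈ commutator (Cfsg.isometryGroup K (Cfsg.quadFormPlus 3 K)) := by
  by_cases hv : Multiplicative.toAdd v = 0
  · have : v = 1 := congrArg Multiplicative.ofAdd hv
    rw [this, map_one]; exact one_mem _
  · obtain ⟨w, i, j, hij⟩ : ∃ w : Fin 3 → K, NP (Multiplicative.toAdd v) w := by
      obtain ⟨i, hi⟩ := Function.ne_iff.1 hv
      have hi : (Multiplicative.toAdd v) i ≠ 0 := hi
      obtain ⟨j, hj⟩ : ∃ j, j ≠ i := exists_ne i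
      refine ⟨Pi.single j 1, i, j, ?_⟩
      rw [Pi.single_eq_same, Pi.single_eq_of_ne hj.symm]
      simpa using hi
    have hw : w ≠ 0 := by rintro rfl; simp at hij
    have hw2 : w + Multiplicative.toAdd v ≠ 0 := by
      intro h0
      have : w = - Multiplicative.toAdd v := eq_neg_of_add_eq_zero_left h0
      apply hij
      rw [this, Pi.neg_apply, Pi.neg_apply]
      ring
    obtain ⟨A, hA⟩ := exists_adj hw hw2
    have h1 := conj_uI A (Multiplicative.ofAdd w)
    rw [toAdd_ofAdd, hA] at h1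
    have h2 : uI v = levI 3 K (SpecialLinearGroup.toGL A) * uI (Multiplicative.ofAdd w) *
        (levI 3 K (SpecialLinearGroup.toGL A))⁻¹ * (uI (Multiplicative.ofAdd w))⁻¹ := by
      rw [h1, ← map_inv, ← map_mul]
      congr 1
      change v = Multiplicative.ofAdd ((w + Multiplicative.toAdd v) + -w)
      rw [add_comm w, add_neg_cancel_right]
      rfl
    rw [h2, commutator_def]
    exact Subgroup.commutator_mem_commutator (Subgroup.mem_top _) (Subgroup.mem_top _)

/-- unipotent elements in `Ω` -/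
def uO : Multiplicative (Fin 3 → K) →* Cfsg.Omega K (Cfsg.quadFormPlus 3 K) :=
  (uI).codRestrict _ uI_mem

theorem uO_injective : Function.Injective (uO (K := K)) := by
  intro v w h
  exact uI_injective (congrArg Subtype.val h)

theorem conj_uO (A : SpecialLinearGroup (Fin 3) K) (v : Multiplicative (Fin 3 → K)) :
    slO le_rfl A * uO v * (slO le_rfl A)⁻¹
      = uO (Multiplicative.ofAdd (((A.1).adjugate)ᵀ *ᵥ (Multiplicative.toAdd v))) :=
  Subtype.ext (conj_uI A v)

end Sk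

section Main

variable {F : Type u} [Field F] {r : ℕ} {T : Type v} [Group T] {K : Type} [Field K] [Fintype K]

/-- **Groups containing `Ω⁺_6(q)` modulo scalars**: the bound `q ^ 3 - 1`. -/
theorem bd_of_omega_six (hr : r.Prime) (hrF : (r : F) ≠ 0) (hK : CharP K r)
    (f : Cfsg.Omega K (Cfsg.quadFormPlus 3 K) →* T) (hf : f.ker ≤ Subgroup.center _) :
    Bd F r (Fintype.card K ^ 3 - 1) T := by
  classical
  have hcard : Nat.card (uO (K := K)).range = Fintype.card K ^ 3 := by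
    rw [← Nat.card_congr (MonoidHom.ofInjective (uO_injective (K := K))).toEquiv,
      Nat.card_congr (Multiplicative.toAdd (α := Fin 3 → K)), Nat.card_eq_fintype_card, Fintype.card_fun,
      Fintype.card_fin]
  have h6 : 1 < Fintype.card K := Fintype.one_lt_card
  have h7 : 2 ^ 3 ≤ Fintype.card K ^ 3 := Nat.pow_le_pow_left h6 3
  have hfin : Finite (uO (K := K)).range := Nat.finite_of_card_ne_zero (by rw [hcard]; positivity)
  have h1ne : (fun _ => 1 : Fin 3 → K) ≠ 0 := by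
    intro h
    exact one_ne_zero (congrFun h 0)
  rw [← hcard]
  refine bd_of_trans_hom hr hrF f hf (uO (K := K)).range ?_ ?_ (by rw [hcard]; omega)
    (e₀ := uO (Multiplicative.ofAdd (fun _ => 1))) ⟨_, rfl⟩ ?_ ?_
  · rintro _ ⟨a, rfl⟩ _ ⟨b, rfl⟩
    rw [← map_mul, ← map_mul, mul_comm]
  · rintro ⟨_, a, rfl⟩
    refine ⟨1, Subtype.ext ?_⟩
    change uO a ^ r ^ 1 = 1
    rw [pow_one, ← map_pow]
    have h1 : a ^ r = 1 := by
      change Multiplicative.ofAdd (r • (Multiplicative.toAdd a)) = 1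
      have h2 : r • (Multiplicative.toAdd a : Fin 3 → K) = 0 := by
        rw [← Nat.cast_smul_eq_nsmul K, CharP.cast_eq_zero, zero_smul]
      rw [h2]; rfl
    rw [h1, map_one]
  · intro h
    have h1 := uO_injective (h.trans (map_one _).symm)
    exact h1ne (congrArg Multiplicative.toAdd h1)
  · rintro _ ⟨a, rfl⟩ ha
    have ha0 : Multiplicative.toAdd a ≠ 0 := by
      intro h
      apply ha
      have : a = 1 := congrArg Multiplicative.ofAdd h
      rw [this, map_one]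
    obtain ⟨A, hA⟩ := exists_adj ha0 h1ne
    refine ⟨slO le_rfl A, ?_, ?_⟩
    · rintro _ ⟨b, rfl⟩
      rw [conj_uO]
      exact ⟨_, rfl⟩
    · rw [conj_uO, hA]

theorem bd_pomega_plus_cube (hr : r.Prime) (hrF : (r : F) ≠ 0) (hK : CharP K r) {m : ℕ} (hm : 3 ≤ m) :
    Bd F r (Fintype.card K ^ 3 - 1) (Cfsg.POmega K (Cfsg.quadFormPlus m K)) := by
  obtain ⟨f, hf⟩ := exists_plus (K := K) hm
  exact bd_of_omega_six hr hrF hK f hf

theorem bd_pomega_odd_cube (hr : r.Prime) (hrF : (r : F) ≠ 0) (hK : CharP K r) {m : ℕ} (hm : 3 ≤ m) :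
    Bd F r (Fintype.card K ^ 3 - 1) (Cfsg.POmega K (Cfsg.quadFormOdd m K)) := by
  obtain ⟨f, hf⟩ := exists_odd (K := K) hm
  exact bd_of_omega_six hr hrF hK f hf

theorem bd_pomega_minus_cube (hr : r.Prime) (hrF : (r : F) ≠ 0) (hK : CharP K r) {m : ℕ} (hm : 3 ≤ m) (a b : K) :
    Bd F r (Fintype.card K ^ 3 - 1) (Cfsg.POmega K (Cfsg.quadFormMinus m K a b)) := by
  obtain ⟨f, hf⟩ := exists_minus (K := K) hm a b
  exact bd_of_omega_six hr hrF hK f hf

theorem bd_pomega_plus_sl (hr : r.Prime) (hrF : (r : F) ≠ 0) (hK : CharP K r) {m : ℕ} (hm : 3 ≤ m) :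
    Bd F r (Fintype.card K ^ (m - 1) - 1) (Cfsg.POmega K (Cfsg.quadFormPlus m K)) := by
  obtain ⟨f, hf⟩ := exists_plus (K := K) (le_refl m)
  exact bd_of_omega_sl hr hrF hm hK f hf

theorem bd_pomega_odd_sl (hr : r.Prime) (hrF : (r : F) ≠ 0) (hK : CharP K r) {m : ℕ} (hm : 3 ≤ m) :
    Bd F r (Fintype.card K ^ (m - 1) - 1) (Cfsg.POmega K (Cfsg.quadFormOdd m K)) := by
  obtain ⟨f, hf⟩ := exists_odd (K := K) (le_refl m)
  exact bd_of_omega_sl hr hrF hm hK f hf

theorem bd_pomega_minus_sl (hr : r.Prime) (hrF : (r : F) ≠ 0) (hK : CharP K r) {m : ℕ} (hm : 3 ≤ m) (a b : K) :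
    Bd F r (Fintype.card K ^ (m - 1) - 1) (Cfsg.POmega K (Cfsg.quadFormMinus m K a b)) := by
  obtain ⟨f, hf⟩ := exists_minus (K := K) (le_refl m) a b
  exact bd_of_omega_sl hr hrF hm hK f hf

end Main

end Cfsg.Agent.H912.Bd
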