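import Cfsg.Agent.H912.BdSL
import Cfsg.Agent.H934.IdxCl

/-!
# Orthogonal groups: embeddings of isometry groups and `SL_m`

* `emb ε` : matrices on `κ` as matrices on `ι ⊇ κ`;
* `exists_hom_pomega` : `Ω(Q') →* PΩ(Q)` with central kernel;
* `exists_sl_omega` : `SL_m(K) →* Ω(quadFormPlus m)`.
-/

set_option autoImplicit false
set_option linter.dupNamespace false
set_option linter.unusedSectionVars false

universe u v w

namespace Cfsg.Agent.H912.Bd

open Matrix

section Emb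

variable {κ ι : Type} [Fintype κ] [DecidableEq κ] [Fintype ι] [DecidableEq ι] {K : Type w} [Field K] (ε : κ ↪ ι)

variable (K) in
/-- coordinate projection -/
def prj : Matrix κ ι K := Matrix.of fun k i => if ε k = i then 1 else 0

theorem prj_mulVec (v : ι → K) : prj K ε *ᵥ v = v ∘ ε := by
  funext k
  simp [prj, mulVec, dotProduct]

theorem prj_mul : prj K ε * (prj K ε)ᵀ = 1 := by
  ext k l
  rw [mul_apply, one_apply]
  simp only [prj, of_apply, transpose_apply, ite_mul, one_mul, zero_mul]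
  rw [Finset.sum_ite_eq Finset.univ (ε k), if_pos (Finset.mem_univ _)]
  by_cases h : k = l
  · subst h; simp
  · rw [if_neg h, if_neg (fun h' => h (ε.injective h').symm)]

theorem prjT_mulVec (w : κ → K) (k : κ) : ((prj K ε)ᵀ *ᵥ w) (ε k) = w k := by
  simp only [mulVec, dotProduct, prj, transpose_apply, of_apply, ite_mul, one_mul, zero_mul]
  rw [Finset.sum_eq_single k]
  · simp
  · intro l _ hl
    rw [if_neg (fun h => hl (ε.injective h))]
  · intro h; exact absurd (Finset.mem_univ _) h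

theorem prjT_mulVec_of_notMem (w : κ → K) {i : ι} (hi : i ∉ Set.range ε) : ((prj K ε)ᵀ *ᵥ w) i = 0 := by
  simp only [mulVec, dotProduct, prj, transpose_apply, of_apply, ite_mul, one_mul, zero_mul]
  refine Finset.sum_eq_zero fun l _ => ?_
  rw [if_neg (fun h => hi ⟨l, h⟩)]

/-- matrices on `κ` as matrices on `ι` -/
def emb : Matrix κ κ K →* Matrix ι ι K where
  toFun M := 1 + (prj K ε)ᵀ * (M - 1) * prj K ε
  map_one' := by simp
  map_mul' M N := by
    have h : prj K ε * ((prj K ε)ᵀ * (N - 1) * prj K ε) = (N - 1) * prj K ε := by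
      rw [← Matrix.mul_assoc, ← Matrix.mul_assoc, prj_mul, Matrix.one_mul]
    rw [Matrix.mul_add, Matrix.mul_one, Matrix.add_mul, Matrix.one_mul, Matrix.mul_assoc _ (prj K ε), h,
      show M * N - 1 = (M - 1) + (N - 1) + (M - 1) * (N - 1) by noncomm_ring]
    simp only [Matrix.mul_add, Matrix.add_mul, Matrix.mul_assoc]
    abel

theorem emb_apply (M : Matrix κ κ K) : emb ε M = 1 + (prj K ε)ᵀ * (M - 1) * prj K ε := rfl

theorem emb_mulVec_comp (M : Matrix κ κ K) (v : ι → K) : (emb ε M *ᵥ v) ∘ ε = M *ᵥ (v ∘ ε) := by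
  funext k
  rw [Function.comp_apply, emb_apply, Matrix.add_mulVec, Matrix.one_mulVec, Pi.add_apply, ← mulVec_mulVec,
    ← mulVec_mulVec, prj_mulVec, prjT_mulVec, Matrix.sub_mulVec, Matrix.one_mulVec, Pi.sub_apply]
  simp

theorem emb_mulVec_of_notMem (M : Matrix κ κ K) (v : ι → K) {i : ι} (hi : i ∉ Set.range ε) :
    (emb ε M *ᵥ v) i = v i := by
  rw [emb_apply, Matrix.add_mulVec, Matrix.one_mulVec, Pi.add_apply, ← mulVec_mulVec, ← mulVec_mulVec,
    prjT_mulVec_of_notMem ε _ hi, add_zero]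

theorem emb_injective : Function.Injective (emb ε : Matrix κ κ K →* Matrix ι ι K) := by
  intro M N h
  apply Matrix.ext_of_mulVec_single
  intro k
  have h1 := congrArg (fun A => (A *ᵥ ((Pi.single (ε k) 1 : ι → K))) ∘ ε) h
  simp only [emb_mulVec_comp] at h1
  have h2 : (Pi.single (ε k) 1 : ι → K) ∘ ε = Pi.single k 1 := by
    funext l
    by_cases h : l = k
    · subst h; simp
    · rw [Function.comp_apply, Pi.single_eq_of_ne h, Pi.single_eq_of_ne (fun h' => h (ε.injective h'))]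
  rwa [h2] at h1

/-- isometries of `Q'` as isometries of `Q` -/
def embIso (Q' : (κ → K) → K) (Q : (ι → K) → K)
    (hQ : ∀ v w : ι → K, (∀ i, i ∉ Set.range ε → v i = w i) → Q' (v ∘ ε) = Q' (w ∘ ε) → Q v = Q w) :
    Cfsg.isometryGroup K Q' →* Cfsg.isometryGroup K Q :=
  ((Units.map (emb ε : Matrix κ κ K →* Matrix ι ι K)).comp (Cfsg.isometryGroup K Q').subtype).codRestrict _ (by
    intro M u v
    refine hQ _ _ (fun i hi => emb_mulVec_of_notMem ε _ u hi) ?_
    have h1 := M.2 (u ∘ ε) (u ∘ ε)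
    change Q' ((emb ε ((M : GL κ K) : Matrix κ κ K) *ᵥ u) ∘ ε) = _
    rw [emb_mulVec_comp]
    exact h1)

theorem embIso_injective (Q' : (κ → K) → K) (Q : (ι → K) → K)
    (hQ : ∀ v w : ι → K, (∀ i, i ∉ Set.range ε → v i = w i) → Q' (v ∘ ε) = Q' (w ∘ ε) → Q v = Q w) :
    Function.Injective (embIso ε Q' Q hQ) := by
  intro M N h
  have h1 : emb ε ((M : GL κ K) : Matrix κ κ K) = emb ε ((N : GL κ K) : Matrix κ κ K) :=
    congrArg (fun x : Cfsg.isometryGroup K Q => ((x : GL ι K) : Matrix ι ι K)) h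
  exact Subtype.ext (Units.ext (emb_injective ε h1))

end Emb

section Comm

variable {G H : Type*} [Group G] [Group H]

/-- restriction to commutator subgroups -/
def commHom (j : G →* H) : commutator G →* commutator H :=
  (j.comp (commutator G).subtype).codRestrict _ (by
    intro x
    have h2 : (commutator G).map j ≤ commutator H := by
      rw [commutator_def, Subgroup.map_commutator]
      exact Subgroup.commutator_mono le_top le_top
    exact h2 ⟨x, x.2, rfl⟩)

theorem commHom_injective (j : G →* H) (hj : Function.Injective j) : Function.Injective (commHom j) := by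
  intro x y h
  exact Subtype.ext (hj (congrArg Subtype.val h))

/-- An injective homomorphism followed by the quotient by the centre has central kernel. -/
theorem ker_le_center (j : G →* H) (hj : Function.Injective j) :
    ((QuotientGroup.mk' (Subgroup.center H)).comp j).ker ≤ Subgroup.center G := by
  intro x hx
  rw [MonoidHom.mem_ker, MonoidHom.comp_apply, QuotientGroup.mk'_apply, QuotientGroup.eq_one_iff,
    Subgroup.mem_center_iff] at hx
  rw [Subgroup.mem_center_iff]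
  intro y
  apply hj
  rw [map_mul, map_mul, hx]

end Comm

/-- `Ω(Q') →* PΩ(Q)` with central kernel. -/
theorem exists_hom_pomega {κ ι : Type} [Fintype κ] [DecidableEq κ] [Fintype ι] [DecidableEq ι] {K : Type w} [Field K]
    (ε : κ ↪ ι) (Q' : (κ → K) → K) (Q : (ι → K) → K)
    (hQ : ∀ v w : ι → K, (∀ i, i ∉ Set.range ε → v i = w i) → Q' (v ∘ ε) = Q' (w ∘ ε) → Q v = Q w) :
    ∃ f : Cfsg.Omega K Q' →* Cfsg.POmega K Q, f.ker ≤ Subgroup.center _ :=
  ⟨(QuotientGroup.mk' _).comp (commHom (embIso ε Q' Q hQ)),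
    ker_le_center _ (commHom_injective _ (embIso_injective ε Q' Q hQ))⟩

/-! ### The three families -/

section Fam

variable {K : Type w} [Field K] {m n : ℕ}

theorem sum_eq_of_comp (h : m ≤ n) {M : Type*} [AddCommMonoid M] {f g : Fin n → M}
    (h1 : ∀ i, i ∉ Set.range (Fin.castLE h) → f i = g i)
    (h2 : ∑ i : Fin m, f (Fin.castLE h i) = ∑ i : Fin m, g (Fin.castLE h i)) : ∑ i, f i = ∑ i, g i := by
  classical
  have h3 : ∀ f : Fin n → M, ∑ i, f i = ∑ i ∈ Finset.univ.map (Fin.castLEEmb h), f i +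
      ∑ i ∈ (Finset.univ.map (Fin.castLEEmb h))ᶜ, f i := by
    intro f
    rw [Finset.sum_add_sum_compl]
  rw [h3 f, h3 g, Finset.sum_map, Finset.sum_map]
  congr 1
  refine Finset.sum_congr rfl fun i hi => h1 i ?_
  rintro ⟨k, hk⟩
  rw [Finset.mem_compl] at hi
  apply hi
  rw [Finset.mem_map]
  exact ⟨k, Finset.mem_univ _, hk⟩

/-- `(Fin m ⊕ Fin m) ⊕ Fin 2 ↪ (Fin n ⊕ Fin n) ⊕ Fin 2` etc. -/
def epP (h : m ≤ n) : Fin m ⊕ Fin m ↪ Fin n ⊕ Fin n :=
  ⟨Sum.map (Fin.castLE h) (Fin.castLE h), Sum.map_injective.2 ⟨Fin.castLE_injective h, Fin.castLE_injective h⟩⟩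

/-- into the odd dimensional space -/
def epO (h : m ≤ n) : Fin m ⊕ Fin m ↪ Unit ⊕ (Fin n ⊕ Fin n) :=
  ⟨fun x => Sum.inr (epP h x), fun _ _ hxy => (epP h).injective (Sum.inr_injective hxy)⟩

/-- into the minus type space -/
def epM (h : m ≤ n) : Fin m ⊕ Fin m ↪ (Fin n ⊕ Fin n) ⊕ Fin 2 :=
  ⟨fun x => Sum.inl (epP h x), fun _ _ hxy => (epP h).injective (Sum.inl_injective hxy)⟩

/-- minus type into minus type -/
def epMM (h : m ≤ n) : (Fin m ⊕ Fin m) ⊕ Fin 2 ↪ (Fin n ⊕ Fin n) ⊕ Fin 2 :=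
  ⟨Sum.map (epP h) id, Sum.map_injective.2 ⟨(epP h).injective, Function.injective_id⟩⟩

theorem plus_sum (h : m ≤ n) {v w : Fin n ⊕ Fin n → K} (hvw : ∀ i, i ∉ Set.range (epP h) → v i = w i)
    (hQ : Cfsg.quadFormPlus m K (v ∘ epP h) = Cfsg.quadFormPlus m K (w ∘ epP h)) :
    Cfsg.quadFormPlus n K v = Cfsg.quadFormPlus n K w := by
  refine sum_eq_of_comp h (f := fun i => v (.inl i) * v (.inr i)) (g := fun i => w (.inl i) * w (.inr i)) ?_ hQ
  intro i hi
  have h1 : Sum.inl i ∉ Set.range (epP h) := by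
    rintro ⟨x | x, hx⟩
    · exact hi ⟨x, Sum.inl_injective hx⟩
    · exact absurd hx Sum.inr_ne_inl
  have h2 : Sum.inr i ∉ Set.range (epP h) := by
    rintro ⟨x | x, hx⟩
    · exact absurd hx Sum.inl_ne_inr
    · exact hi ⟨x, Sum.inr_injective hx⟩
  simp only [hvw _ h1, hvw _ h2]

theorem exists_plus (h : m ≤ n) : ∃ f : Cfsg.Omega K (Cfsg.quadFormPlus m K) →* Cfsg.POmega K (Cfsg.quadFormPlus n K),
    f.ker ≤ Subgroup.center _ :=
  exists_hom_pomega (epP h) _ _ (fun _ _ h1 h2 => plus_sum h h1 h2)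

theorem exists_odd (h : m ≤ n) : ∃ f : Cfsg.Omega K (Cfsg.quadFormPlus m K) →* Cfsg.POmega K (Cfsg.quadFormOdd n K),
    f.ker ≤ Subgroup.center _ := by
  refine exists_hom_pomega (epO h) _ _ (fun v w h1 h2 => ?_)
  have h3 := plus_sum h (v := v ∘ Sum.inr) (w := w ∘ Sum.inr) (fun i hi => h1 _ (by
    rintro ⟨x, hx⟩
    exact hi ⟨x, Sum.inr_injective hx⟩)) h2
  have h4 : v (.inl ()) = w (.inl ()) := h1 _ (by rintro ⟨x, hx⟩; exact absurd hx Sum.inr_ne_inl)
  have h5 : ∀ v : Unit ⊕ (Fin n ⊕ Fin n) → K, Cfsg.quadFormOdd n K v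
      = v (.inl ()) ^ 2 + Cfsg.quadFormPlus n K (v ∘ Sum.inr) := fun v => rfl
  rw [h5, h5, h3, h4]

theorem exists_minus (h : m ≤ n) (a b : K) :
    ∃ f : Cfsg.Omega K (Cfsg.quadFormPlus m K) →* Cfsg.POmega K (Cfsg.quadFormMinus n K a b),
    f.ker ≤ Subgroup.center _ := by
  refine exists_hom_pomega (epM h) _ _ (fun v w h1 h2 => ?_)
  have h3 := plus_sum h (v := v ∘ Sum.inl) (w := w ∘ Sum.inl) (fun i hi => h1 _ (by
    rintro ⟨x, hx⟩
    exact hi ⟨x, Sum.inl_injective hx⟩)) h2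
  have h4 : ∀ i, v (.inr i) = w (.inr i) := fun i => h1 _ (by rintro ⟨x, hx⟩; exact absurd hx Sum.inl_ne_inr)
  have h5 : ∀ v : (Fin n ⊕ Fin n) ⊕ Fin 2 → K, Cfsg.quadFormMinus n K a b v
      = Cfsg.quadFormPlus n K (v ∘ Sum.inl)
        + (v (.inr 0) ^ 2 + a * v (.inr 0) * v (.inr 1) + b * v (.inr 1) ^ 2) := fun v => rfl
  rw [h5, h5, h3, h4, h4]

theorem exists_minus_minus (h : m ≤ n) (a b : K) :
    ∃ f : Cfsg.Omega K (Cfsg.quadFormMinus m K a b) →* Cfsg.POmega K (Cfsg.quadFormMinus n K a b),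
    f.ker ≤ Subgroup.center _ := by
  refine exists_hom_pomega (epMM h) _ _ (fun v w h1 h2 => ?_)
  -- the form is a sum over the indices
  have h5 : ∀ (k : ℕ) (v : (Fin k ⊕ Fin k) ⊕ Fin 2 → K), Cfsg.quadFormMinus k K a b v
      = Cfsg.quadFormPlus k K (v ∘ Sum.inl)
        + (v (.inr 0) ^ 2 + a * v (.inr 0) * v (.inr 1) + b * v (.inr 1) ^ 2) := fun k v => rfl
  have h6 : ∀ v : Fin n ⊕ Fin n → K, Cfsg.quadFormPlus n K v = Cfsg.quadFormPlus m K (v ∘ epP h) +
      ∑ i ∈ (Finset.univ.map (Fin.castLEEmb h))ᶜ, v (.inl i) * v (.inr i) := by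
    intro v
    unfold Cfsg.quadFormPlus
    rw [← Finset.sum_add_sum_compl (Finset.univ.map (Fin.castLEEmb h)), Finset.sum_map]
    rfl
  rw [h5, h5] at h2
  rw [h5, h5, h6, h6]
  have h7 : ∑ i ∈ (Finset.univ.map (Fin.castLEEmb h))ᶜ, (v ∘ Sum.inl) (.inl i) * (v ∘ Sum.inl) (.inr i)
      = ∑ i ∈ (Finset.univ.map (Fin.castLEEmb h))ᶜ, (w ∘ Sum.inl) (.inl i) * (w ∘ Sum.inl) (.inr i) := by
    refine Finset.sum_congr rfl fun i hi => ?_
    have hi' : i ∉ Set.range (Fin.castLE h) := by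
      rintro ⟨k, hk⟩
      rw [Finset.mem_compl] at hi
      exact hi (Finset.mem_map.2 ⟨k, Finset.mem_univ _, hk⟩)
    have g1 : Sum.inl (Sum.inl i) ∉ Set.range (epMM h) := by
      rintro ⟨(x | x) | x, hx⟩
      · exact hi' ⟨x, Sum.inl_injective (Sum.inl_injective hx)⟩
      · exact absurd (Sum.inl_injective hx) Sum.inr_ne_inl
      · exact absurd hx Sum.inr_ne_inl
    have g2 : Sum.inl (Sum.inr i) ∉ Set.range (epMM h) := by
      rintro ⟨(x | x) | x, hx⟩
      · exact absurd (Sum.inl_injective hx) Sum.inl_ne_inr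
      · exact hi' ⟨x, Sum.inr_injective (Sum.inl_injective hx)⟩
      · exact absurd hx Sum.inr_ne_inl
    simp only [Function.comp_apply, h1 _ g1, h1 _ g2]
  rw [h7]
  have h8 : (v ∘ epMM h) ∘ Sum.inl = (v ∘ Sum.inl) ∘ epP h := rfl
  have h9 : (w ∘ epMM h) ∘ Sum.inl = (w ∘ Sum.inl) ∘ epP h := rfl
  rw [h8, h9] at h2
  have h10 : ∀ i, (v ∘ epMM h) (.inr i) = v (.inr i) := fun i => rfl
  have h11 : ∀ i, (w ∘ epMM h) (.inr i) = w (.inr i) := fun i => rfl
  rw [h10, h10, h11, h11] at h2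
  linear_combination h2

end Fam

/-! ### `SL_m` -/

section Lev

open Cfsg.Agent.H934.IdxCl

variable {K : Type w} [Field K] {m : ℕ}

/-- `GL_m` as a group of isometries -/
def levI (m : ℕ) (K : Type w) [Field K] : GL (Fin m) K →* Cfsg.isometryGroup K (Cfsg.quadFormPlus m K) :=
  (lev m K).toHomUnits.codRestrict _ (fun A => by
    intro u v
    exact quadFormPlus_lev A u)

theorem levI_val (A : GL (Fin m) K) : (((levI m K A : Cfsg.isometryGroup K (Cfsg.quadFormPlus m K)) :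
    GL (Fin m ⊕ Fin m) K) : Matrix (Fin m ⊕ Fin m) (Fin m ⊕ Fin m) K) = lev m K A := rfl

theorem levI_injective : Function.Injective (levI m K) := by
  intro A B h
  apply lev_injective
  rw [← levI_val, ← levI_val, h]

/-- `SL_m` in `Ω` -/
theorem levI_mem (hm : 3 ≤ m) (A : SpecialLinearGroup (Fin m) K) :
    levI m K (SpecialLinearGroup.toGL A) ∈ commutator (Cfsg.isometryGroup K (Cfsg.quadFormPlus m K)) :=
  mem_commutator_of_perfect (Cfsg.Agent.LieClassical.SLGen.commutator_eq_top (by rwa [Fintype.card_fin]))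
    ((levI m K).comp SpecialLinearGroup.toGL) A

/-- `SL_m → Ω` -/
def slO (hm : 3 ≤ m) : SpecialLinearGroup (Fin m) K →* Cfsg.Omega K (Cfsg.quadFormPlus m K) :=
  ((levI m K).comp SpecialLinearGroup.toGL).codRestrict _ (fun A => levI_mem hm A)

theorem slO_injective (hm : 3 ≤ m) : Function.Injective (slO (K := K) hm) := by
  intro A B h
  have h1 : levI m K (SpecialLinearGroup.toGL A) = levI m K (SpecialLinearGroup.toGL B) := congrArg Subtype.val h
  exact Subtype.ext (congrArg (fun g : GL (Fin m) K => (g : Matrix (Fin m) (Fin m) K)) (levI_injective h1))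

end Lev

section BdSL

variable {F : Type u} [Field F] {r : ℕ} {T : Type v} [Group T] {K : Type} [Field K] [Fintype K] {m : ℕ}

/-- **Groups containing `Ω⁺_{2m}(q)` modulo scalars**: the bound `q ^ (m - 1) - 1`. -/
theorem bd_of_omega_sl (hr : r.Prime) (hrF : (r : F) ≠ 0) (hm : 3 ≤ m) (hK : CharP K r)
    (f : Cfsg.Omega K (Cfsg.quadFormPlus m K) →* T) (hf : f.ker ≤ Subgroup.center _) :
    Bd F r (Fintype.card K ^ (m - 1) - 1) T := by
  refine bd_of_sl_fin hr hrF hm hK (f.comp (slO hm)) ?_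
  intro x hx
  have h1 : slO hm x ∈ Subgroup.center _ := hf hx
  rw [Subgroup.mem_center_iff] at h1 ⊢
  intro y
  apply slO_injective hm
  rw [map_mul, map_mul, h1]

end BdSL

end Cfsg.Agent.H912.Bd
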