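import Cfsg.Agent.H912.BdHom
import Cfsg.Agent.H118.SLTrans

/-!
# Groups containing an image of `SL_m(q)` with central kernel, `m ≥ 3`: bound `q ^ (m - 1) - 1`
-/

set_option autoImplicit false
set_option linter.dupNamespace false
set_option linter.unusedSectionVars false

universe u v w

namespace Cfsg.Agent.H912.Bd

open Matrix Cfsg.Agent.H118.SLTrans

section SL

variable {ι : Type w} {K : Type w} [Field K] [DecidableEq ι] [Fintype ι]

theorem eq_smul_of_not_np {v x : ι → K} (hv : v ≠ 0) (h : ¬ NP v x) : ∃ c : K, x = c • v := by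
  obtain ⟨i, hi⟩ := Function.ne_iff.1 hv
  have hi : v i ≠ 0 := hi
  refine ⟨x i / v i, ?_⟩
  funext j
  by_contra hne
  apply h
  refine ⟨i, j, ?_⟩
  intro h0
  apply hne
  rw [Pi.smul_apply, smul_eq_mul, div_mul_eq_mul_div, eq_div_iff hi]
  linear_combination h0

theorem exists_tr_of_np {v w : ι → K} (h : NP v w) :
    ∃ ψ : ι → K, ψ ⬝ᵥ (w - v) = 0 ∧ (Tr (w - v) ψ).1 *ᵥ v = w := by
  obtain ⟨ψ, h1, h2⟩ := h.exists_eq_one
  have h3 : ψ ⬝ᵥ (w - v) = 0 := by rw [dotProduct_sub, dotProduct_comm ψ w, dotProduct_comm ψ v, h1, h2, sub_self]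
  refine ⟨ψ, h3, ?_⟩
  rw [Tr_mulVec h3, dotProduct_comm ψ v, h1, one_smul, add_sub_cancel]

theorem np_smul {v x : ι → K} (h : NP v x) {c : K} (hc : c ≠ 0) : NP x (c • v) := by
  obtain ⟨i, j, hij⟩ := h
  refine ⟨i, j, ?_⟩
  rw [Pi.smul_apply, Pi.smul_apply, smul_eq_mul, smul_eq_mul]
  have : x i * (c * v j) - x j * (c * v i) = - (c * (v i * x j - v j * x i)) := by ring
  rw [this]
  exact neg_ne_zero.2 (mul_ne_zero hc hij)

theorem np_smul' {v x : ι → K} (h : NP v x) {c : K} (hc : c ≠ 0) : NP v (c • x) := by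
  obtain ⟨i, j, hij⟩ := h
  refine ⟨i, j, ?_⟩
  rw [Pi.smul_apply, Pi.smul_apply, smul_eq_mul, smul_eq_mul]
  have : v i * (c * x j) - v j * (c * x i) = c * (v i * x j - v j * x i) := by ring
  rw [this]
  exact mul_ne_zero hc hij

/-- A set of vectors closed under addition of ..., on which the stabiliser of `φ₀` is transitive. -/
theorem exists_sl_fix {φ₀ : ι → K} (W : Submodule K (ι → K)) (hW : ∀ u ∈ W, φ₀ ⬝ᵥ u = 0)
    (h2 : ∀ v ∈ W, v ≠ 0 → ∃ x ∈ W, NP v x) {v w : ι → K} (hv : v ∈ W) (hw : w ∈ W) (hv0 : v ≠ 0) (hw0 : w ≠ 0) :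
    ∃ A : SpecialLinearGroup ι K, A.1 *ᵥ v = w ∧ φ₀ ᵥ* (A⁻¹).1 = φ₀ := by
  have key : ∀ v ∈ W, ∀ w ∈ W, NP v w → ∃ A : SpecialLinearGroup ι K, A.1 *ᵥ v = w ∧ φ₀ ᵥ* (A⁻¹).1 = φ₀ := by
    intro v hv w hw h
    obtain ⟨ψ, h1, h2⟩ := exists_tr_of_np h
    refine ⟨Tr (w - v) ψ, h2, ?_⟩
    rw [← Tr_neg h1, vecMul_Tr (by rw [neg_dotProduct, h1, neg_zero]), hW _ (W.sub_mem hw hv), zero_smul, add_zero]
  by_cases h : NP v w
  · exact key v hv w hw h
  · obtain ⟨c, rfl⟩ := eq_smul_of_not_np hv0 h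
    have hc : c ≠ 0 := by
      rintro rfl
      exact hw0 (zero_smul K v)
    obtain ⟨x, hx, hvx⟩ := h2 v hv hv0
    obtain ⟨A, hA1, hA2⟩ := key v hv x hx hvx
    obtain ⟨B, hB1, hB2⟩ := key x hx _ hw (np_smul hvx hc)
    refine ⟨B * A, ?_, ?_⟩
    · rw [mulv, ← mulVec_mulVec, hA1, hB1]
    · rw [_root_.mul_inv_rev, mulv, ← vecMul_vecMul, hA2, hB2]

/-- `SL` is transitive on non-zero vectors. -/
theorem exists_sl_map (h2 : 2 ≤ Fintype.card ι) {v w : ι → K} (hv : v ≠ 0) (hw : w ≠ 0) :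
    ∃ A : SpecialLinearGroup ι K, A.1 *ᵥ v = w := by
  obtain ⟨A, hA, -⟩ := exists_sl_fix (φ₀ := 0) (⊤ : Submodule K (ι → K)) (fun u _ => zero_dotProduct u)
    (fun v _ hv => by
      obtain ⟨i, hi⟩ := Function.ne_iff.1 hv
      have hi : v i ≠ 0 := hi
      obtain ⟨j, hj⟩ : ∃ j, j ≠ i := by
        have := Fintype.one_lt_card_iff_nontrivial.1 (show 1 < Fintype.card ι by omega)
        exact exists_ne i
      refine ⟨Pi.single j 1, Submodule.mem_top, i, j, ?_⟩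
      rw [Pi.single_eq_same, Pi.single_eq_of_ne hj.symm]
      simpa using hi) Submodule.mem_top Submodule.mem_top hv hw
  exact ⟨A, hA⟩

variable [Fintype K]

/-- the space of vectors killed by `φ₀` -/
def kr (φ₀ : ι → K) : Submodule K (ι → K) where
  carrier := {u | φ₀ ⬝ᵥ u = 0}
  add_mem' := by
    intro a b ha hb
    change φ₀ ⬝ᵥ (a + b) = 0
    rw [dotProduct_add, show φ₀ ⬝ᵥ a = 0 from ha, show φ₀ ⬝ᵥ b = 0 from hb, add_zero]
  zero_mem' := dotProduct_zero φ₀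
  smul_mem' := by
    intro c a ha
    change φ₀ ⬝ᵥ (c • a) = 0
    rw [dotProduct_smul, show φ₀ ⬝ᵥ a = 0 from ha, smul_zero]

omit [Fintype K] in
theorem mem_kr {φ₀ u : ι → K} : u ∈ kr φ₀ ↔ φ₀ ⬝ᵥ u = 0 := Iff.rfl

theorem card_kr {φ₀ : ι → K} (hφ : φ₀ ≠ 0) : Nat.card (kr φ₀) = Fintype.card K ^ (Fintype.card ι - 1) := by
  classical
  let f : (ι → K) →ₗ[K] K :=
    { toFun := fun u => φ₀ ⬝ᵥ u
      map_add' := fun a b => dotProduct_add _ _ _
      map_smul' := fun c a => by rw [dotProduct_smul]; rfl }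
  have hker : LinearMap.ker f = kr φ₀ := by
    ext u
    rw [LinearMap.mem_ker]
    rfl
  have hsurj : Function.Surjective f := by
    obtain ⟨i, hi⟩ := Function.ne_iff.1 hφ
    have hi : φ₀ i ≠ 0 := hi
    intro c
    refine ⟨Pi.single i (c / φ₀ i), ?_⟩
    change φ₀ ⬝ᵥ Pi.single i (c / φ₀ i) = c
    rw [dotProduct_single, mul_div_cancel₀ _ hi]
  have h1 := LinearMap.finrank_range_add_finrank_ker f
  rw [LinearMap.range_eq_top.2 hsurj, finrank_top, Module.finrank_self, Module.finrank_fintype_fun_eq_card, hker] at h1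
  rw [Nat.card_eq_fintype_card, Module.card_eq_pow_finrank (K := K) (V := kr φ₀)]
  congr 1
  omega

theorem exists_np_kr (h3 : 3 ≤ Fintype.card ι) {φ₀ : ι → K} (hφ : φ₀ ≠ 0) {v : ι → K} (hv0 : v ≠ 0) :
    ∃ x ∈ kr φ₀, NP v x := by
  classical
  by_contra hcon
  push Not at hcon
  have h1 : (kr φ₀ : Set (ι → K)) ⊆ Set.range (fun c : K => c • v) := by
    intro x hx
    obtain ⟨c, rfl⟩ := eq_smul_of_not_np hv0 (hcon x hx)
    exact ⟨c, rfl⟩
  have h2 : Nat.card (kr φ₀) ≤ Fintype.card K := by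
    have h4 := Set.ncard_le_ncard h1 (Set.finite_range _)
    have h5 : (Set.range (fun c : K => c • v)).ncard ≤ Fintype.card K := by
      rw [← Set.image_univ]
      refine (Set.ncard_image_le (Set.finite_univ)).trans ?_
      rw [Set.ncard_univ, Nat.card_eq_fintype_card]
    exact (show Nat.card (kr φ₀) = (kr φ₀ : Set (ι → K)).ncard from rfl) ▸ h4.trans h5
  rw [card_kr hφ] at h2
  have h6 : 1 < Fintype.card K := Fintype.one_lt_card
  have h7 : Fintype.card K ^ 2 ≤ Fintype.card K ^ (Fintype.card ι - 1) := Nat.pow_le_pow_right h6.le (by omega)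
  nlinarith

/-- the group of transvections with fixed functional -/
noncomputable def trHom (φ₀ : ι → K) : Multiplicative (kr φ₀) →* SpecialLinearGroup ι K where
  toFun u := Tr (Multiplicative.toAdd u : kr φ₀).1 φ₀
  map_one' := Tr_zero' φ₀
  map_mul' a b := (Tr_mul' (mem_kr.1 (Multiplicative.toAdd a : kr φ₀).2) (mem_kr.1 (Multiplicative.toAdd b : kr φ₀).2)).symm

end SL

section Main

variable {F : Type u} [Field F] {r : ℕ} {T : Type v} [Group T] {ι : Type w} {K : Type w} [Field K] [DecidableEq ι]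
  [Fintype ι] [Fintype K]

/-- **Images of `SL_m(q)`**, `m ≥ 3`: bound `q ^ (m - 1) - 1`. -/
theorem bd_of_sl (hr : r.Prime) (hK : CharP K r) (hrF : (r : F) ≠ 0) (h3 : 3 ≤ Fintype.card ι)
    (f : SpecialLinearGroup ι K →* T) (hf : f.ker ≤ Subgroup.center (SpecialLinearGroup ι K)) :
    Bd F r (Fintype.card K ^ (Fintype.card ι - 1) - 1) T := by
  classical
  have : Nonempty ι := Fintype.card_pos_iff.1 (by omega)
  obtain ⟨i₀⟩ := this
  have : Fact r.Prime := ⟨hr⟩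
  set φ₀ : ι → K := Pi.single i₀ 1 with hφ₀
  have hφ : φ₀ ≠ 0 := by
    intro h
    have := congrFun h i₀
    rw [hφ₀, Pi.single_eq_same] at this
    exact one_ne_zero this
  have hinj : Function.Injective (trHom φ₀) := by
    rw [injective_iff_map_eq_one]
    intro u hu
    by_contra hne
    have h0 : (Multiplicative.toAdd u : kr φ₀).1 ≠ 0 := by
      intro h
      apply hne
      exact congrArg Multiplicative.ofAdd (Subtype.ext h : (Multiplicative.toAdd u : kr φ₀) = 0)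
    exact Tr_ne_one (mem_kr.1 (Multiplicative.toAdd u : kr φ₀).2) h0 hφ hu
  have hcard : Nat.card (trHom φ₀).range = Fintype.card K ^ (Fintype.card ι - 1) := by
    rw [← card_kr hφ]
    exact (Nat.card_congr (MonoidHom.ofInjective hinj).toEquiv).symm
  have h6 : 1 < Fintype.card K := Fintype.one_lt_card
  have h7 : Fintype.card K ^ 2 ≤ Fintype.card K ^ (Fintype.card ι - 1) := Nat.pow_le_pow_right h6.le (by omega)
  have hfin : Finite (trHom φ₀).range := Nat.finite_of_card_ne_zero (by rw [hcard]; positivity)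
  -- a non-zero vector
  obtain ⟨x₀, hx₀, hx₀0⟩ := exists_np_kr h3 hφ hφ
  have hx1 : x₀ ≠ 0 := by
    rintro rfl
    obtain ⟨i, j, hij⟩ := hx₀0
    simp at hij
  rw [← hcard]
  refine bd_of_trans_hom hr hrF f hf (trHom φ₀).range ?_ ?_ (by rw [hcard]; nlinarith)
    (e₀ := trHom φ₀ (Multiplicative.ofAdd ⟨x₀, hx₀⟩)) ⟨_, rfl⟩ ?_ ?_
  · rintro _ ⟨a, rfl⟩ _ ⟨b, rfl⟩
    rw [← map_mul, ← map_mul, mul_comm]
  · rintro ⟨_, a, rfl⟩
    refine ⟨1, Subtype.ext ?_⟩
    change trHom φ₀ a ^ r ^ 1 = 1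
    rw [pow_one, ← map_pow]
    have h1 : a ^ r = 1 := by
      change Multiplicative.ofAdd (r • (Multiplicative.toAdd a)) = 1
      have h2 : r • (Multiplicative.toAdd a : kr φ₀) = 0 := by
        rw [← Nat.cast_smul_eq_nsmul K, CharP.cast_eq_zero, zero_smul]
      rw [h2]; rfl
    rw [h1, map_one]
  · intro h
    have h1 := hinj (h.trans (map_one _).symm)
    have h2 := congrArg (fun z => ((Multiplicative.toAdd z : kr φ₀) : ι → K)) h1
    exact hx1 h2
  · rintro _ ⟨a, rfl⟩ ha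
    have ha0 : (Multiplicative.toAdd a : kr φ₀).1 ≠ 0 := by
      intro h
      apply ha
      have : a = 1 := congrArg Multiplicative.ofAdd (Subtype.ext h : (Multiplicative.toAdd a : kr φ₀) = 0)
      rw [this, map_one]
    obtain ⟨A, hA1, hA2⟩ := exists_sl_fix (φ₀ := φ₀) (kr φ₀) (fun u hu => hu)
      (fun v _ hv => exists_np_kr h3 hφ hv) (Multiplicative.toAdd a : kr φ₀).2 hx₀ ha0 hx1
    have hconj : ∀ b : Multiplicative (kr φ₀), A * trHom φ₀ b * A⁻¹
        = Tr (A.1 *ᵥ (Multiplicative.toAdd b : kr φ₀).1) φ₀ := by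
      intro b
      have h1 := conj_Tr A (mem_kr.1 (Multiplicative.toAdd b : kr φ₀).2)
      rw [hA2] at h1
      exact h1
    refine ⟨A, ?_, ?_⟩
    · rintro _ ⟨b, rfl⟩
      rw [hconj]
      refine ⟨Multiplicative.ofAdd ⟨A.1 *ᵥ (Multiplicative.toAdd b : kr φ₀).1, ?_⟩, rfl⟩
      rw [mem_kr]
      have h1 := inv_dot A φ₀ (Multiplicative.toAdd b : kr φ₀).1
      rw [hA2] at h1
      rw [h1]
      exact (Multiplicative.toAdd b : kr φ₀).2
    · rw [hconj, hA1]
      rfl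

/-- The version for `Fin m`. -/
theorem bd_of_sl_fin (hr : r.Prime) (hrF : (r : F) ≠ 0) {m : ℕ} (h3 : 3 ≤ m) {K : Type} [Field K]
    [Fintype K] (hK : CharP K r)
    (f : SpecialLinearGroup (Fin m) K →* T) (hf : f.ker ≤ Subgroup.center (SpecialLinearGroup (Fin m) K)) :
    Bd F r (Fintype.card K ^ (m - 1) - 1) T := by
  have := bd_of_sl (F := F) hr hK hrF (ι := Fin m) (by rwa [Fintype.card_fin]) f hf
  rwa [Fintype.card_fin] at this

/-- `PSL_m(q)`, `m ≥ 3`: bound `q ^ (m - 1) - 1`. -/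
theorem bd_psl (hr : r.Prime) (hrF : (r : F) ≠ 0) {m : ℕ} (h3 : 3 ≤ m) {K : Type} [Field K]
    [Fintype K] (hK : CharP K r) :
    Bd F r (Fintype.card K ^ (m - 1) - 1) (ProjectiveSpecialLinearGroup (Fin m) K) :=
  bd_of_sl_fin hr hrF h3 hK (QuotientGroup.mk' _) (by rw [QuotientGroup.ker_mk'])

end Main

end Cfsg.Agent.H912.Bd
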