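import Cfsg.Agent.H912.Bd2

/-!
# Special cases of the weight-orbit bound

* `bd_of_prime`: `x` of prime order `r`, `y x y⁻¹ = x ^ k`, the powers `k ^ i`, `i < m`, distinct modulo `r`: bound `m`.
* `bd_of_free`: a set `S` of elements normalising the abelian `r`-subgroup `E ≠ 1` which act differently on every non-trivial
  element of `E`: bound `|S|`.
* `bd_of_frob`: `a` normalises `E`, and `a ^ i` (`0 < i < m`) centralises no non-trivial element of `E`: bound `m`.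
* `bd_ext`: `x` of prime order `r`, `x = [a, b]`, `a ^ r = 1` (or an `r`-element), `a`, `b` commute with `x`,
  `y x y⁻¹ = x ^ k`: bound `m * r`.
-/

set_option autoImplicit false
set_option linter.dupNamespace false

universe u v w

namespace Cfsg.Agent.H912.Bd

variable {F : Type u} [Field F] {r : ℕ} {T : Type v} [Group T]

/-- Elements acting differently. -/
theorem bd_of_free (hr : r.Prime) (hrF : (r : F) ≠ 0) (E : Subgroup T) [Finite E]
    (hE : ∀ a ∈ E, ∀ b ∈ E, a * b = b * a) (hEr : IsPGroup r E) (hE1 : E ≠ ⊥) (S : Finset T)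
    (hS : ∀ s ∈ S, ∀ e ∈ E, s * e * s⁻¹ ∈ E)
    (hSf : ∀ s ∈ S, ∀ t ∈ S, s ≠ t → ∀ e ∈ E, s * e * s⁻¹ = t * e * t⁻¹ → e = 1) : Bd F r S.card T := by
  intro n h
  obtain ⟨e₀, he₀, he₀1⟩ : ∃ e₀ : T, e₀ ∈ E ∧ e₀ ≠ 1 := by
    obtain ⟨x, hx⟩ := Subgroup.ne_bot_iff_exists_ne_one.1 hE1
    exact ⟨x.1, x.2, fun h => hx (Subtype.ext h)⟩
  refine h.bound hr hrF E hE hEr he₀ he₀1 S hS ?_
  intro s hs t ht hst
  let f : E → E := fun e => ⟨(s * e * s⁻¹) * (t * e * t⁻¹)⁻¹, E.mul_mem (hS s hs e e.2) (E.inv_mem (hS t ht e e.2))⟩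
  have hinj : Function.Injective f := by
    intro x y hxy
    have h1 : (s * x * s⁻¹) * (t * x * t⁻¹)⁻¹ = (s * y * s⁻¹) * (t * y * t⁻¹)⁻¹ := congrArg Subtype.val hxy
    have h2 : s * (x * (y : T)⁻¹) * s⁻¹ = t * (x * (y : T)⁻¹) * t⁻¹ := by
      have hsy := hS s hs y y.2
      have htx := hS t ht x x.2
      have hty := hS t ht y y.2
      have hc := hE _ (E.inv_mem hsy) _ htx
      calc s * (x * (y : T)⁻¹) * s⁻¹ = (s * x * s⁻¹) * (s * y * s⁻¹)⁻¹ := by group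
        _ = ((s * x * s⁻¹) * (t * x * t⁻¹)⁻¹) * ((t * x * t⁻¹) * (s * y * s⁻¹)⁻¹) := by group
        _ = ((s * y * s⁻¹) * (t * y * t⁻¹)⁻¹) * ((s * y * s⁻¹)⁻¹ * (t * x * t⁻¹)) := by rw [h1, hc]
        _ = (s * y * s⁻¹) * (((t * y * t⁻¹)⁻¹ * (s * y * s⁻¹)⁻¹) * (t * x * t⁻¹)) := by group
        _ = (s * y * s⁻¹) * (((s * y * s⁻¹)⁻¹ * (t * y * t⁻¹)⁻¹) * (t * x * t⁻¹)) := by
            rw [hE _ (E.inv_mem hty) _ (E.inv_mem hsy)]
        _ = (t * y * t⁻¹)⁻¹ * (t * x * t⁻¹) := by group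
        _ = (t * x * t⁻¹) * (t * y * t⁻¹)⁻¹ := hE _ (E.inv_mem hty) _ htx
        _ = t * (x * (y : T)⁻¹) * t⁻¹ := by group
    have h3 := hSf s hs t ht hst _ (E.mul_mem x.2 (E.inv_mem y.2)) h2
    exact Subtype.ext (mul_inv_eq_one.1 h3)
  obtain ⟨e, he⟩ := Finite.surjective_of_injective hinj ⟨e₀, he₀⟩
  exact ⟨e, e.2, congrArg Subtype.val he⟩

/-- A cyclic group acting freely. -/
theorem bd_of_frob (hr : r.Prime) (hrF : (r : F) ≠ 0) (E : Subgroup T) [Finite E]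
    (hE : ∀ a ∈ E, ∀ b ∈ E, a * b = b * a) (hEr : IsPGroup r E) (hE1 : E ≠ ⊥) (m : ℕ) {a : T}
    (ha : ∀ e ∈ E, a * e * a⁻¹ ∈ E)
    (hf : ∀ i, 0 < i → i < m → ∀ e ∈ E, a ^ i * e = e * a ^ i → e = 1) : Bd F r m T := by
  classical
  have hE1' : ∃ e₀ : T, e₀ ∈ E ∧ e₀ ≠ 1 := by
    obtain ⟨x, hx⟩ := Subgroup.ne_bot_iff_exists_ne_one.1 hE1
    exact ⟨x.1, x.2, fun h => hx (Subtype.ext h)⟩
  obtain ⟨e₀, he₀, he₀1⟩ := hE1'
  have hpow : ∀ i : ℕ, ∀ e ∈ E, a ^ i * e * (a ^ i)⁻¹ ∈ E := by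
    intro i
    induction i with
    | zero => intro e he; simpa using he
    | succ i ih =>
      intro e he
      have : a ^ (i + 1) * e * (a ^ (i + 1))⁻¹ = a * (a ^ i * e * (a ^ i)⁻¹) * a⁻¹ := by
        rw [pow_succ']; group
      rw [this]
      exact ha _ (ih e he)
  have key : ∀ i j : ℕ, i < j → j < m → ∀ e ∈ E, a ^ i * e * (a ^ i)⁻¹ = a ^ j * e * (a ^ j)⁻¹ → e = 1 := by
    intro i j hij hj e he h
    have h1 : a ^ (j - i) * e = e * a ^ (j - i) := by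
      have h2 : a ^ j = a ^ i * a ^ (j - i) := by rw [← pow_add]; congr 1; omega
      rw [h2] at h
      have h3 : e = a ^ (j - i) * e * (a ^ (j - i))⁻¹ := by
        calc e = (a ^ i)⁻¹ * (a ^ i * e * (a ^ i)⁻¹) * a ^ i := by group
          _ = (a ^ i)⁻¹ * (a ^ i * a ^ (j - i) * e * (a ^ i * a ^ (j - i))⁻¹) * a ^ i := by rw [h]
          _ = a ^ (j - i) * e * (a ^ (j - i))⁻¹ := by group
      exact (mul_inv_eq_iff_eq_mul.1 h3.symm)
    exact hf (j - i) (by omega) (by omega) e he h1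
  have hne : ∀ i j : ℕ, i < j → j < m → a ^ i ≠ a ^ j := by
    intro i j hij hj h
    exact he₀1 (key i j hij hj e₀ he₀ (by rw [h]))
  have hinj : Set.InjOn (fun i : ℕ => a ^ i) (Finset.range m : Set ℕ) := by
    intro i hi j hj h
    simp only [Finset.coe_range, Set.mem_Iio] at hi hj
    rcases lt_trichotomy i j with h1 | h1 | h1
    · exact absurd h (hne i j h1 hj)
    · exact h1
    · exact absurd h.symm (hne j i h1 hi)
  have := bd_of_free (F := F) hr hrF E hE hEr hE1 ((Finset.range m).image (fun i => a ^ i)) (by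
    intro s hs e he
    obtain ⟨i, -, rfl⟩ := Finset.mem_image.1 hs
    exact hpow i e he) (by
    intro s hs t ht hst e he h
    obtain ⟨i, hi, rfl⟩ := Finset.mem_image.1 hs
    obtain ⟨j, hj, rfl⟩ := Finset.mem_image.1 ht
    rw [Finset.mem_range] at hi hj
    rcases lt_trichotomy i j with h1 | h1 | h1
    · exact key i j h1 hj e he h
    · exact absurd (by rw [h1]) hst
    · exact key j i h1 hi e he h.symm)
  rwa [Finset.card_image_of_injOn hinj, Finset.card_range] at this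

theorem pow_conj {x y : T} {k : ℕ} (h : y * x * y⁻¹ = x ^ k) (i j : ℕ) :
    y ^ i * x ^ j * (y ^ i)⁻¹ = x ^ (j * k ^ i) := by
  have h1 : ∀ i : ℕ, y ^ i * x * (y ^ i)⁻¹ = x ^ (k ^ i) := by
    intro i
    induction i with
    | zero => simp
    | succ i ih =>
      have : y ^ (i + 1) * x * (y ^ (i + 1))⁻¹ = y * (y ^ i * x * (y ^ i)⁻¹) * y⁻¹ := by
        rw [pow_succ']; group
      rw [this, ih, ← conj_pow, h, ← pow_mul, pow_succ']
  rw [← conj_pow, h1, ← pow_mul, mul_comm]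

/-- **Prime order.** -/
theorem bd_of_prime (hr : r.Prime) (hrF : (r : F) ≠ 0) {x y : T} (hx : orderOf x = r) {k : ℕ}
    (h : y * x * y⁻¹ = x ^ k) (m : ℕ) (hk : ∀ i < m, 0 < i → k ^ i % r ≠ 1 % r) : Bd F r m T := by
  have hfx : IsOfFinOrder x := orderOf_pos_iff.1 (by rw [hx]; exact hr.pos)
  have : Finite (Subgroup.zpowers x) := hfx.finite_zpowers
  have hx1 : x ≠ 1 := by
    rintro rfl
    rw [orderOf_one] at hx
    exact hr.one_lt.ne hx
  have : Fact r.Prime := ⟨hr⟩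
  refine bd_of_frob hr hrF (Subgroup.zpowers x) ?_ ?_ ?_ m (a := y) ?_ ?_
  · rintro _ ⟨i, rfl⟩ _ ⟨j, rfl⟩
    rw [← zpow_add, ← zpow_add, add_comm]
  · exact IsPGroup.of_card (n := 1) (by rw [Nat.card_zpowers, hx, pow_one])
  · intro h0
    rw [Subgroup.zpowers_eq_bot] at h0
    exact hx1 h0
  · intro e he
    obtain ⟨j, rfl⟩ := (hfx.mem_powers_iff_mem_zpowers.2 he)
    have := pow_conj h 1 j
    rw [pow_one, pow_one] at this
    simp only
    rw [this]
    exact Subgroup.pow_mem _ (Subgroup.mem_zpowers x) _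
  · intro i hi him e he hc
    obtain ⟨j, rfl⟩ := (hfx.mem_powers_iff_mem_zpowers.2 he)
    simp only at hc ⊢
    have h1 := pow_conj h i j
    rw [hc, mul_inv_cancel_right] at h1
    have h2 : j * 1 ≡ j * k ^ i [MOD r] := by
      rw [mul_one, ← hx]
      exact pow_eq_pow_iff_modEq.1 h1
    by_contra hne
    have h3 : r.gcd j = 1 := by
      rw [← Nat.coprime_iff_gcd_eq_one]
      refine (Nat.Prime.coprime_iff_not_dvd hr).2 ?_
      intro hd
      apply hne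
      rw [← orderOf_dvd_iff_pow_eq_one, hx]
      exact hd
    have h4 := Nat.ModEq.cancel_left_of_coprime h3 h2
    exact hk i him hi h4.symm

/-- the condition on differences from freeness -/
theorem diff_of_free {E : Subgroup T} [Finite E]
    (hE : ∀ a ∈ E, ∀ b ∈ E, a * b = b * a) {e₀ : T} (he₀ : e₀ ∈ E) {s t : T}
    (hs : ∀ e ∈ E, s * e * s⁻¹ ∈ E) (ht : ∀ e ∈ E, t * e * t⁻¹ ∈ E)
    (hf : ∀ e ∈ E, s * e * s⁻¹ = t * e * t⁻¹ → e = 1) : ∃ e ∈ E, (s * e * s⁻¹) * (t * e * t⁻¹)⁻¹ = e₀ := by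
  let f : E → E := fun e => ⟨(s * e * s⁻¹) * (t * e * t⁻¹)⁻¹, E.mul_mem (hs e e.2) (E.inv_mem (ht e e.2))⟩
  have hinj : Function.Injective f := by
    intro x y hxy
    have h1 : (s * x * s⁻¹) * (t * x * t⁻¹)⁻¹ = (s * y * s⁻¹) * (t * y * t⁻¹)⁻¹ := congrArg Subtype.val hxy
    have h2 : s * (x * (y : T)⁻¹) * s⁻¹ = t * (x * (y : T)⁻¹) * t⁻¹ := by
      have hsy := hs y y.2
      have htx := ht x x.2
      have hty := ht y y.2
      have hc := hE _ (E.inv_mem hsy) _ htx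
      calc s * (x * (y : T)⁻¹) * s⁻¹ = (s * x * s⁻¹) * (s * y * s⁻¹)⁻¹ := by group
        _ = ((s * x * s⁻¹) * (t * x * t⁻¹)⁻¹) * ((t * x * t⁻¹) * (s * y * s⁻¹)⁻¹) := by group
        _ = ((s * y * s⁻¹) * (t * y * t⁻¹)⁻¹) * ((s * y * s⁻¹)⁻¹ * (t * x * t⁻¹)) := by rw [h1, hc]
        _ = (s * y * s⁻¹) * (((t * y * t⁻¹)⁻¹ * (s * y * s⁻¹)⁻¹) * (t * x * t⁻¹)) := by group
        _ = (s * y * s⁻¹) * (((s * y * s⁻¹)⁻¹ * (t * y * t⁻¹)⁻¹) * (t * x * t⁻¹)) := by
            rw [hE _ (E.inv_mem hty) _ (E.inv_mem hsy)]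
        _ = (t * y * t⁻¹)⁻¹ * (t * x * t⁻¹) := by group
        _ = (t * x * t⁻¹) * (t * y * t⁻¹)⁻¹ := hE _ (E.inv_mem hty) _ htx
        _ = t * (x * (y : T)⁻¹) * t⁻¹ := by group
    have h3 := hf _ (E.mul_mem x.2 (E.inv_mem y.2)) h2
    exact Subtype.ext (mul_inv_eq_one.1 h3)
  obtain ⟨e, he⟩ := Finite.surjective_of_injective hinj ⟨e₀, he₀⟩
  exact ⟨e, e.2, congrArg Subtype.val he⟩

/-- **A free action together with a non-abelian centraliser.** -/
theorem bd_of_free_ext (hr : r.Prime) (hrF : (r : F) ≠ 0) (E : Subgroup T) [Finite E]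
    (hE : ∀ a ∈ E, ∀ b ∈ E, a * b = b * a) (hEr : IsPGroup r E) (S : Finset T)
    (hS : ∀ s ∈ S, ∀ e ∈ E, s * e * s⁻¹ ∈ E)
    (hSf : ∀ s ∈ S, ∀ t ∈ S, s ≠ t → ∀ e ∈ E, s * e * s⁻¹ = t * e * t⁻¹ → e = 1)
    {a b : T} (haE : ∀ e ∈ E, a * e = e * a) (hbE : ∀ e ∈ E, b * e = e * b) {k : ℕ} (hak : a ^ r ^ k = 1)
    (hab : a * b * a⁻¹ * b⁻¹ ∈ E) (hab1 : a * b * a⁻¹ * b⁻¹ ≠ 1) (habr : (a * b * a⁻¹ * b⁻¹) ^ r = 1) :
    Bd F r (S.card * r) T := by
  classical
  intro n h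
  set z : T := a * b * a⁻¹ * b⁻¹ with hz
  have haz : a * z = z * a := haE z hab
  have hbz : b * z = z * b := hbE z hab
  have hord : orderOf z = r := by
    have : Fact r.Prime := ⟨hr⟩
    exact orderOf_eq_prime habr hab1
  -- `b a b⁻¹ = z⁻¹ a`
  have hba : b * a * b⁻¹ = z⁻¹ * a := by
    have h1 : a * b = z * b * a := by rw [hz]; group
    have h2 : z⁻¹ * (a * b) = b * a := by rw [h1]; group
    rw [← h2]; group
  have hcomm_az : Commute a z := haz
  -- the subgroup generated by `a` and `z`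
  let E' : Subgroup T := Subgroup.closure {a, z}
  have hE'c : ∀ x ∈ E', ∀ y ∈ E', x * y = y * x := by
    have : IsMulCommutative (Subgroup.closure ({a, z} : Set T)) := by
      apply Subgroup.isMulCommutative_closure
      intro x hx y hy
      rcases hx with rfl | hx <;> rcases hy with rfl | hy
      · rfl
      · rw [Set.mem_singleton_iff.1 hy]; exact haz
      · rw [Set.mem_singleton_iff.1 hx]; exact haz.symm
      · rw [Set.mem_singleton_iff.1 hx, Set.mem_singleton_iff.1 hy]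
    intro x hx y hy
    have h1 := this.is_comm.comm (⟨x, hx⟩ : E') ⟨y, hy⟩
    exact congrArg Subtype.val h1
  have hmem : ∀ x ∈ E', ∃ i j : ℕ, x = a ^ i * z ^ j := by
    have hfa : ∀ i : ℤ, ∃ i' : ℕ, a ^ i = a ^ i' := by
      intro i
      have hfin : IsOfFinOrder a := isOfFinOrder_iff_pow_eq_one.2 ⟨r ^ k, pow_pos hr.pos k, hak⟩
      obtain ⟨i', hi'⟩ := hfin.mem_powers_iff_mem_zpowers.2 ⟨i, rfl⟩
      exact ⟨i', hi'.symm⟩
    have hfz : ∀ i : ℤ, ∃ i' : ℕ, z ^ i = z ^ i' := by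
      intro i
      have hfin : IsOfFinOrder z := isOfFinOrder_iff_pow_eq_one.2 ⟨r, hr.pos, habr⟩
      obtain ⟨i', hi'⟩ := hfin.mem_powers_iff_mem_zpowers.2 ⟨i, rfl⟩
      exact ⟨i', hi'.symm⟩
    intro x hx
    induction hx using Subgroup.closure_induction with
    | mem x hx =>
      rcases hx with rfl | hx
      · exact ⟨1, 0, by simp⟩
      · rw [Set.mem_singleton_iff.1 hx]; exact ⟨0, 1, by simp⟩
    | one => exact ⟨0, 0, by simp⟩
    | mul x y hx hy ihx ihy =>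
      obtain ⟨i, j, rfl⟩ := ihx
      obtain ⟨i', j', rfl⟩ := ihy
      refine ⟨i + i', j + j', ?_⟩
      have h1 : z ^ j * a ^ i' = a ^ i' * z ^ j := ((hcomm_az.pow_pow i' j).eq).symm
      rw [pow_add, pow_add]
      calc a ^ i * z ^ j * (a ^ i' * z ^ j') = a ^ i * (z ^ j * a ^ i') * z ^ j' := by group
        _ = a ^ i * (a ^ i' * z ^ j) * z ^ j' := by rw [h1]
        _ = a ^ i * a ^ i' * (z ^ j * z ^ j') := by group
    | inv x hx ih =>
      obtain ⟨i, j, rfl⟩ := ih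
      obtain ⟨i', hi'⟩ := hfa (-(i : ℤ))
      obtain ⟨j', hj'⟩ := hfz (-(j : ℤ))
      refine ⟨i', j', ?_⟩
      rw [← hi', ← hj', mul_inv_rev, zpow_neg, zpow_natCast, zpow_neg, zpow_natCast]
      exact ((hcomm_az.pow_pow i j).inv_inv.eq).symm
  have hE'r : IsPGroup r E' := by
    rintro ⟨x, hx⟩
    obtain ⟨i, j, rfl⟩ := hmem x hx
    refine ⟨k + 1, Subtype.ext ?_⟩
    change (a ^ i * z ^ j) ^ r ^ (k + 1) = 1
    rw [(hcomm_az.pow_pow i j).mul_pow, ← pow_mul, ← pow_mul, mul_comm i, mul_comm j, pow_mul, pow_mul,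
      pow_succ, pow_mul, hak, one_pow, one_pow, one_mul, mul_comm (r ^ k), pow_mul, habr, one_pow, one_pow]
  have hE'fin : Finite E' := by
    have hsub : (E' : Set T) ⊆ (fun p : ℕ × ℕ => a ^ p.1 * z ^ p.2) ''
        ((Finset.range (r ^ k) ×ˢ Finset.range r : Finset (ℕ × ℕ)) : Set (ℕ × ℕ)) := by
      intro x hx
      obtain ⟨i, j, rfl⟩ := hmem x hx
      refine ⟨(i % r ^ k, j % r), ?_, ?_⟩
      · simp only [Finset.coe_product, Finset.coe_range, Set.mem_prod, Set.mem_Iio]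
        exact ⟨Nat.mod_lt _ (pow_pos hr.pos k), Nat.mod_lt _ hr.pos⟩
      · simp only
        rw [← pow_eq_pow_mod i hak, ← pow_eq_pow_mod j habr]
    exact ((Finset.finite_toSet _).image _).subset hsub
  have hbconj : ∀ i j : ℕ, b * (a ^ i * z ^ j) * b⁻¹ = z⁻¹ ^ i * (a ^ i * z ^ j) := by
    intro i j
    have h1 : b * (a ^ i * z ^ j) * b⁻¹ = (b * a ^ i * b⁻¹) * (b * z ^ j * b⁻¹) := by group
    have h2 : b * z ^ j * b⁻¹ = z ^ j := by
      rw [((show Commute b z from hbz).pow_right j).eq]; group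
    have h3 : b * a ^ i * b⁻¹ = z⁻¹ ^ i * a ^ i := by
      rw [← conj_pow, hba, (show Commute z⁻¹ a from (hcomm_az.symm.inv_left)).mul_pow]
    rw [h1, h2, h3, mul_assoc]
  have hzE' : z ∈ E' := Subgroup.subset_closure (Or.inr rfl)
  have haE' : a ∈ E' := Subgroup.subset_closure (Or.inl rfl)
  have hbE' : ∀ e ∈ E', b * e * b⁻¹ ∈ E' := by
    intro e he
    obtain ⟨i, j, rfl⟩ := hmem e he
    rw [hbconj]
    exact E'.mul_mem (E'.pow_mem (E'.inv_mem hzE') i) he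
  have hbpow : ∀ (l i : ℕ), b ^ l * a ^ i * (b ^ l)⁻¹ = z⁻¹ ^ (l * i) * a ^ i := by
    intro l i
    induction l with
    | zero => simp
    | succ l ih =>
      have h1 : b ^ (l + 1) * a ^ i * (b ^ (l + 1))⁻¹ = b * (b ^ l * a ^ i * (b ^ l)⁻¹) * b⁻¹ := by
        rw [pow_succ']; group
      have h2 : b * z⁻¹ ^ (l * i) * b⁻¹ = z⁻¹ ^ (l * i) := by
        rw [((show Commute b z⁻¹ from (show Commute b z from hbz).inv_right).pow_right (l * i)).eq]; group
      have h3 := hbconj i 0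
      rw [pow_zero, mul_one] at h3
      rw [h1, ih]
      calc b * (z⁻¹ ^ (l * i) * a ^ i) * b⁻¹ = (b * z⁻¹ ^ (l * i) * b⁻¹) * (b * a ^ i * b⁻¹) := by group
        _ = z⁻¹ ^ (l * i) * (z⁻¹ ^ i * a ^ i) := by rw [h2, h3]
        _ = z⁻¹ ^ ((l + 1) * i) * a ^ i := by rw [← mul_assoc, ← pow_add]; congr 2; ring
  have hbpowE' : ∀ l : ℕ, ∀ e ∈ E', b ^ l * e * (b ^ l)⁻¹ ∈ E' := by
    intro l
    induction l with
    | zero => intro e he; simpa using he
    | succ l ih =>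
      intro e he
      have h1 : b ^ (l + 1) * e * (b ^ (l + 1))⁻¹ = b * (b ^ l * e * (b ^ l)⁻¹) * b⁻¹ := by
        rw [pow_succ']; group
      rw [h1]
      exact hbE' _ (ih e he)
  have hzinv : orderOf z⁻¹ = r := by rw [orderOf_inv, hord]
  -- differences
  have hdiff : ∀ i j : ℕ, i < r → j < r → i ≠ j →
      ∃ e ∈ E', (b ^ i * e * (b ^ i)⁻¹) * (b ^ j * e * (b ^ j)⁻¹)⁻¹ = z := by
    intro i j hi hj hij
    -- choose `l` with `z⁻¹ ^ (i l) = z * z⁻¹ ^ (j l)`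
    have hcop : ∃ l : ℕ, z⁻¹ ^ (i * l) = z * z⁻¹ ^ (j * l) := by
      have hne : ((j : ZMod r) - (i : ZMod r)) ≠ 0 := by
        intro h0
        rw [sub_eq_zero] at h0
        have := (ZMod.natCast_eq_natCast_iff' _ _ _).1 h0
        rw [Nat.mod_eq_of_lt hi, Nat.mod_eq_of_lt hj] at this
        exact hij this.symm
      have : Fact r.Prime := ⟨hr⟩
      set u : ZMod r := ((j : ZMod r) - (i : ZMod r))⁻¹ with hu
      refine ⟨u.val, ?_⟩
      have h1 : z = z⁻¹ ^ (r - 1) := by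
        have h3 : z⁻¹ ^ (r - 1) * z⁻¹ = 1 := by
          rw [← pow_succ, Nat.sub_add_cancel hr.one_lt.le, inv_pow, habr, inv_one]
        calc z = (z⁻¹ ^ (r - 1) * z⁻¹) * z := by rw [h3, one_mul]
          _ = z⁻¹ ^ (r - 1) := by group
      have h6 : z * z⁻¹ ^ (j * u.val) = z⁻¹ ^ (r - 1 + j * u.val) := by
        rw [pow_add, ← h1]
      rw [h6]
      apply pow_eq_pow_iff_modEq.2
      rw [hzinv]
      apply (ZMod.natCast_eq_natCast_iff _ _ _).1
      push_cast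
      rw [ZMod.natCast_zmod_val, Nat.cast_sub hr.one_lt.le, ZMod.natCast_self, Nat.cast_one]
      have h4 : ((j : ZMod r) - (i : ZMod r)) * u = 1 := mul_inv_cancel₀ hne
      linear_combination (-1 : ZMod r) * h4
    obtain ⟨l, hl⟩ := hcop
    refine ⟨a ^ l, E'.pow_mem haE' l, ?_⟩
    rw [hbpow, hbpow, hl]
    group
  have hinjb : Set.InjOn (fun i : ℕ => b ^ i) (Finset.range r : Set ℕ) := by
    intro i hi j hj hij
    simp only [Finset.coe_range, Set.mem_Iio] at hi hj hij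
    by_contra hne
    obtain ⟨e, -, he⟩ := hdiff i j hi hj hne
    rw [hij, mul_inv_cancel] at he
    exact hab1 he.symm
  have hle := h.bound_mul hr hrF E hE hEr hab hab1 S hS
    (fun s hs t ht hst => diff_of_free hE hab (hS s hs) (hS t ht) (hSf s hs t ht hst))
    E' hE'c hE'r (by
      intro x hx e he
      obtain ⟨i, j, rfl⟩ := hmem x hx
      have h1 : Commute a e := haE e he
      have h2 : Commute z e := hE z hab e he
      exact ((h1.pow_left i).mul_left (h2.pow_left j)).eq) hzE'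
    ((Finset.range r).image (fun i => b ^ i)) (by
      intro s hs e he
      obtain ⟨i, -, rfl⟩ := Finset.mem_image.1 hs
      exact ((show Commute b e from hbE e he).pow_left i).eq) (by
      intro s hs e he
      obtain ⟨i, -, rfl⟩ := Finset.mem_image.1 hs
      exact hbpowE' i e he) (by
      intro s hs t ht hst
      obtain ⟨i, hi, rfl⟩ := Finset.mem_image.1 hs
      obtain ⟨j, hj, rfl⟩ := Finset.mem_image.1 ht
      exact hdiff i j (Finset.mem_range.1 hi) (Finset.mem_range.1 hj) (fun h => hst (by rw [h])))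
  rwa [Finset.card_image_of_injOn hinjb, Finset.card_range] at hle

end Cfsg.Agent.H912.Bd
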