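import Cfsg.Agent.H912.BdOrth3

/-!
# Orthogonal groups in cross characteristic: bound 13, except `Ω⁺_8(2)` (bound 7)
-/

set_option autoImplicit false

universe u v w

namespace Cfsg.Agent.H912.Bd

variable {F : Type u} [Field F] {r : ℕ} {K : Type} [Field K] [Fintype K]

omit [Field K] in
theorem card_eq_or (h : 2 ≤ Fintype.card K) : Fintype.card K = 2 ∨ 3 ≤ Fintype.card K := by omega

theorem cube_ge {q : ℕ} (h : 3 ≤ q) : 26 ≤ q ^ 3 - 1 := by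
  have : 3 ^ 3 ≤ q ^ 3 := Nat.pow_le_pow_left h 3
  omega

/-- `PΩ_{2m+1}(q)`, `m ≥ 3`, `q` odd. -/
theorem bd_pomega_odd (hr : r.Prime) (hrF : (r : F) ≠ 0) (hK : CharP K r) {m : ℕ} (hm : 3 ≤ m)
    (ho : Odd (Fintype.card K)) : Bd F r 26 (Cfsg.POmega K (Cfsg.quadFormOdd m K)) := by
  refine (bd_pomega_odd_cube hr hrF hK hm).mono (cube_ge ?_)
  have h6 : 1 < Fintype.card K := Fintype.one_lt_card
  obtain ⟨k, hk⟩ := ho
  omega

/-- `PΩ⁺_{2m}(q)`, `m ≥ 4`. -/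
theorem bd_pomega_plus (hr : r.Prime) (hrF : (r : F) ≠ 0) (hK : CharP K r) {m : ℕ} (hm : 4 ≤ m)
    (h : ¬ (m = 4 ∧ Fintype.card K = 2)) : Bd F r 15 (Cfsg.POmega K (Cfsg.quadFormPlus m K)) := by
  have h6 : 1 < Fintype.card K := Fintype.one_lt_card
  rcases card_eq_or h6 with h2 | h3
  · refine (bd_pomega_plus_sl hr hrF hK (by omega)).mono ?_
    rw [h2]
    have : 2 ^ 4 ≤ 2 ^ (m - 1) := Nat.pow_le_pow_right (by norm_num) (by omega)
    omega
  · exact (bd_pomega_plus_cube hr hrF hK (by omega)).mono ((by norm_num : 15 ≤ 26).trans (cube_ge h3))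

/-- `PΩ⁺_8(2)`. -/
theorem bd_pomega_plus_eight (hr : r.Prime) (hrF : (r : F) ≠ 0) (hK : CharP K r) {m : ℕ} (hm : 4 ≤ m) :
    Bd F r 7 (Cfsg.POmega K (Cfsg.quadFormPlus m K)) := by
  have h6 : 1 < Fintype.card K := Fintype.one_lt_card
  refine (bd_pomega_plus_cube hr hrF hK (by omega)).mono ?_
  have : 2 ^ 3 ≤ Fintype.card K ^ 3 := Nat.pow_le_pow_left h6 3
  omega

/-- `PΩ⁻_{2m}(q)`, `m ≥ 4`. -/
theorem bd_pomega_minus (hr : r.Prime) (hrF : (r : F) ≠ 0) (hK : CharP K r) {m : ℕ} (hm : 4 ≤ m) (a b : K)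
    (hab : ∀ z₁ z₂ : K, z₁ ^ 2 + a * z₁ * z₂ + b * z₂ ^ 2 = 0 → z₁ = 0 ∧ z₂ = 0) :
    Bd F r 14 (Cfsg.POmega K (Cfsg.quadFormMinus (m - 1) K a b)) := by
  have h6 : 1 < Fintype.card K := Fintype.one_lt_card
  rcases card_eq_or h6 with h2 | h3
  · have hr2 : r = 2 := by
      have : Fact r.Prime := ⟨hr⟩
      obtain ⟨n, hn, hc⟩ := FiniteField.card K r
      rw [h2] at hc
      have h1 : r ∣ 2 := by rw [hc]; exact dvd_pow_self r n.pos.ne'
      exact (Nat.prime_dvd_prime_iff_eq hr Nat.prime_two).1 h1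
    subst hr2
    exact bd_pomega_minus_two (by exact_mod_cast hrF) h2 (by omega) a b hab
  · exact (bd_pomega_minus_cube hr hrF hK (by omega) a b).mono ((by norm_num : 14 ≤ 26).trans (cube_ge h3))

end Cfsg.Agent.H912.Bd
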