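import Cfsg.Agent.H912.TensForm2

/-!
Tensor decompositions: swap of the factors, change of basis, two equal factors as a tensor-wreath
decomposition, alternating factors in characteristic two.
-/

set_option autoImplicit false

namespace Cfsg.Agent.H912
open Cfsg Cfsg.Geo Matrix Cfsg.Agent.H919
open scoped Kronecker

variable {ι : Type} [Fintype ι] [DecidableEq ι] {F : Type*} [Field F]

/-! ### Membership criterion -/

theorem mem_tensorProductSubgroup_iff {n₁ n₂ : ℕ} {e : ι ≃ Fin n₁ × Fin n₂} {P : GL ι F} {g : GL ι F} :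
    g ∈ tensorProductSubgroup n₁ n₂ e P ↔ ∃ (a : GL (Fin n₁) F) (b : GL (Fin n₂) F),
      (g : Matrix ι ι F) = tens e P (a : Matrix _ _ F) (b : Matrix _ _ F) := by
  constructor
  · rintro ⟨_, ⟨k, ⟨a, b, hk⟩, rfl⟩, rfl⟩
    refine ⟨a, b, ?_⟩
    change (P : Matrix ι ι F) * Matrix.reindexAlgEquiv F F e.symm (k : Matrix _ _ F) *
      ((P⁻¹ : GL ι F) : Matrix ι ι F) = _
    rw [hk]
    rfl
  · rintro ⟨a, b, hg⟩
    let k : GL (Fin n₁ × Fin n₂) F :=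
      { val := (a : Matrix (Fin n₁) (Fin n₁) F) ⊗ₖ (b : Matrix (Fin n₂) (Fin n₂) F)
        inv := ((a⁻¹ : GL (Fin n₁) F) : Matrix (Fin n₁) (Fin n₁) F) ⊗ₖ ((b⁻¹ : GL (Fin n₂) F) : Matrix (Fin n₂) (Fin n₂) F)
        val_inv := by
          rw [← Matrix.mul_kronecker_mul, ← Units.val_mul, ← Units.val_mul, mul_inv_cancel, mul_inv_cancel,
            Units.val_one, Units.val_one, Matrix.one_kronecker_one]
        inv_val := by
          rw [← Matrix.mul_kronecker_mul, ← Units.val_mul, ← Units.val_mul, inv_mul_cancel, inv_mul_cancel,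
            Units.val_one, Units.val_one, Matrix.one_kronecker_one] }
    refine ⟨glReindex e.symm k, ⟨k, ⟨a, b, rfl⟩, rfl⟩, ?_⟩
    apply Units.ext
    rw [hg]
    rfl

/-! ### Swap -/

theorem tens_swap {n₁ n₂ : ℕ} (e : ι ≃ Fin n₁ × Fin n₂) (P : GL ι F) (a : Matrix (Fin n₁) (Fin n₁) F)
    (b : Matrix (Fin n₂) (Fin n₂) F) :
    tens (e.trans (Equiv.prodComm (Fin n₁) (Fin n₂))) P b a = tens e P a b := by
  unfold tens
  congr 2
  ext i j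
  simp only [coe_reindexAlgEquiv, reindex_apply, submatrix_apply, Equiv.symm_symm, kroneckerMap_apply,
    Equiv.trans_apply, Equiv.prodComm_apply, Prod.fst_swap, Prod.snd_swap]
  ring

theorem tensorProductSubgroup_swap {n₁ n₂ : ℕ} (e : ι ≃ Fin n₁ × Fin n₂) (P : GL ι F) :
    tensorProductSubgroup n₂ n₁ (e.trans (Equiv.prodComm (Fin n₁) (Fin n₂))) P =
      tensorProductSubgroup n₁ n₂ e P := by
  ext g
  rw [mem_tensorProductSubgroup_iff, mem_tensorProductSubgroup_iff]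
  constructor
  · rintro ⟨b, a, h⟩
    exact ⟨a, b, by rw [h, tens_swap]⟩
  · rintro ⟨a, b, h⟩
    exact ⟨b, a, by rw [h, tens_swap]⟩

theorem isTensorFormStructure_swap {σ : F → F} {f : (ι → F) → (ι → F) → F} {n₁ n₂ : ℕ}
    {f₁ : (Fin n₁ → F) → (Fin n₁ → F) → F} {f₂ : (Fin n₂ → F) → (Fin n₂ → F) → F}
    {e : ι ≃ Fin n₁ × Fin n₂} {P : GL ι F} (h : IsTensorFormStructure σ f f₁ f₂ e P) :
    IsTensorFormStructure σ f f₂ f₁ (e.trans (Equiv.prodComm (Fin n₁) (Fin n₂))) P := by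
  obtain ⟨c, hc, h⟩ := h
  refine ⟨c, hc, fun x y => ?_⟩
  have h1 := h (x ∘ Prod.swap) (y ∘ Prod.swap)
  have e1 : (x ∘ (e.trans (Equiv.prodComm (Fin n₁) (Fin n₂))) : ι → F) = (x ∘ Prod.swap) ∘ e := rfl
  have e2 : (y ∘ (e.trans (Equiv.prodComm (Fin n₁) (Fin n₂))) : ι → F) = (y ∘ Prod.swap) ∘ e := rfl
  rw [e1, e2, h1]
  congr 1
  unfold formOfGram
  rw [← (Equiv.prodComm (Fin n₁) (Fin n₂)).sum_comp]
  refine Finset.sum_congr rfl fun a _ => ?_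
  rw [← (Equiv.prodComm (Fin n₁) (Fin n₂)).sum_comp]
  refine Finset.sum_congr rfl fun b _ => ?_
  simp only [Function.comp_apply, kroneckerMap_apply, Equiv.prodComm_apply, Prod.fst_swap, Prod.snd_swap]
  ring

/-! ### Change of basis in the factors -/

/-- The invertible matrix `P (R₁ ⊗ R₂)` (in the coordinates given by `e`). -/
def chBasis {n₁ n₂ : ℕ} (e : ι ≃ Fin n₁ × Fin n₂) (P : GL ι F) (R₁ : GL (Fin n₁) F) (R₂ : GL (Fin n₂) F) :
    GL ι F where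
  val := (P : Matrix ι ι F) * Matrix.reindexAlgEquiv F F e.symm ((R₁ : Matrix _ _ F) ⊗ₖ (R₂ : Matrix _ _ F))
  inv := Matrix.reindexAlgEquiv F F e.symm (((R₁⁻¹ : GL (Fin n₁) F) : Matrix _ _ F) ⊗ₖ ((R₂⁻¹ : GL (Fin n₂) F) : Matrix _ _ F)) *
    ((P⁻¹ : GL ι F) : Matrix ι ι F)
  val_inv := by
    calc _ = (P : Matrix ι ι F) * (Matrix.reindexAlgEquiv F F e.symm ((R₁ : Matrix _ _ F) ⊗ₖ (R₂ : Matrix _ _ F)) *
          Matrix.reindexAlgEquiv F F e.symm (((R₁⁻¹ : GL (Fin n₁) F) : Matrix _ _ F) ⊗ₖ ((R₂⁻¹ : GL (Fin n₂) F) : Matrix _ _ F))) *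
          ((P⁻¹ : GL ι F) : Matrix ι ι F) := by simp only [mul_assoc]
      _ = 1 := by
        rw [← map_mul, ← Matrix.mul_kronecker_mul, ← Units.val_mul, ← Units.val_mul, mul_inv_cancel,
          mul_inv_cancel, Units.val_one, Units.val_one, Matrix.one_kronecker_one, map_one, mul_one,
          ← Units.val_mul, mul_inv_cancel, Units.val_one]
  inv_val := by
    calc _ = Matrix.reindexAlgEquiv F F e.symm (((R₁⁻¹ : GL (Fin n₁) F) : Matrix _ _ F) ⊗ₖ ((R₂⁻¹ : GL (Fin n₂) F) : Matrix _ _ F)) *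
          (((P⁻¹ : GL ι F) : Matrix ι ι F) * (P : Matrix ι ι F)) *
          Matrix.reindexAlgEquiv F F e.symm ((R₁ : Matrix _ _ F) ⊗ₖ (R₂ : Matrix _ _ F)) := by simp only [mul_assoc]
      _ = 1 := by
        rw [← Units.val_mul, inv_mul_cancel, Units.val_one, mul_one, ← map_mul, ← Matrix.mul_kronecker_mul,
          ← Units.val_mul, ← Units.val_mul, inv_mul_cancel, inv_mul_cancel, Units.val_one, Units.val_one,
          Matrix.one_kronecker_one, map_one]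

theorem chBasis_mulVec {n₁ n₂ : ℕ} (e : ι ≃ Fin n₁ × Fin n₂) (P : GL ι F) (R₁ : GL (Fin n₁) F)
    (R₂ : GL (Fin n₂) F) (x : Fin n₁ × Fin n₂ → F) :
    (chBasis e P R₁ R₂ : Matrix ι ι F) *ᵥ (x ∘ e) =
      (P : Matrix ι ι F) *ᵥ ((((R₁ : Matrix _ _ F) ⊗ₖ (R₂ : Matrix _ _ F)) *ᵥ x) ∘ e) := by
  change ((P : Matrix ι ι F) * Matrix.reindexAlgEquiv F F e.symm ((R₁ : Matrix _ _ F) ⊗ₖ (R₂ : Matrix _ _ F))) *ᵥ _ = _
  rw [← mulVec_mulVec]
  congr 1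
  funext l
  simp only [mulVec, dotProduct, coe_reindexAlgEquiv, reindex_apply, submatrix_apply, Equiv.symm_symm,
    Function.comp_apply]
  exact e.sum_comp (fun p => ((R₁ : Matrix _ _ F) ⊗ₖ (R₂ : Matrix _ _ F)) (e l) p * x p)

theorem tens_chBasis {n₁ n₂ : ℕ} (e : ι ≃ Fin n₁ × Fin n₂) (P : GL ι F) (R₁ : GL (Fin n₁) F)
    (R₂ : GL (Fin n₂) F) (a : Matrix (Fin n₁) (Fin n₁) F) (b : Matrix (Fin n₂) (Fin n₂) F) :
    tens e (chBasis e P R₁ R₂) a b = tens e P ((R₁ : Matrix (Fin n₁) (Fin n₁) F) * a * ((R₁⁻¹ : GL (Fin n₁) F) : Matrix (Fin n₁) (Fin n₁) F))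
      ((R₂ : Matrix (Fin n₂) (Fin n₂) F) * b * ((R₂⁻¹ : GL (Fin n₂) F) : Matrix (Fin n₂) (Fin n₂) F)) := by
  unfold tens
  change ((P : Matrix ι ι F) * Matrix.reindexAlgEquiv F F e.symm ((R₁ : Matrix (Fin n₁) (Fin n₁) F) ⊗ₖ (R₂ : Matrix (Fin n₂) (Fin n₂) F))) * _ *
    (Matrix.reindexAlgEquiv F F e.symm (((R₁⁻¹ : GL (Fin n₁) F) : Matrix (Fin n₁) (Fin n₁) F) ⊗ₖ ((R₂⁻¹ : GL (Fin n₂) F) : Matrix (Fin n₂) (Fin n₂) F)) *
    ((P⁻¹ : GL ι F) : Matrix ι ι F)) = _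
  rw [Matrix.mul_kronecker_mul, Matrix.mul_kronecker_mul, map_mul, map_mul]
  simp only [mul_assoc]

theorem tensorProductSubgroup_chBasis {n₁ n₂ : ℕ} (e : ι ≃ Fin n₁ × Fin n₂) (P : GL ι F) (R₁ : GL (Fin n₁) F)
    (R₂ : GL (Fin n₂) F) :
    tensorProductSubgroup n₁ n₂ e (chBasis e P R₁ R₂) = tensorProductSubgroup n₁ n₂ e P := by
  ext g
  rw [mem_tensorProductSubgroup_iff, mem_tensorProductSubgroup_iff]
  constructor
  · rintro ⟨a, b, h⟩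
    refine ⟨R₁ * a * R₁⁻¹, R₂ * b * R₂⁻¹, ?_⟩
    rw [h, tens_chBasis]
    rfl
  · rintro ⟨a, b, h⟩
    refine ⟨R₁⁻¹ * a * R₁, R₂⁻¹ * b * R₂, ?_⟩
    rw [h, tens_chBasis]
    have e1 : (R₁ : Matrix (Fin n₁) (Fin n₁) F) * ((R₁⁻¹ * a * R₁ : GL (Fin n₁) F) : Matrix (Fin n₁) (Fin n₁) F) * ((R₁⁻¹ : GL (Fin n₁) F) : Matrix (Fin n₁) (Fin n₁) F) = a := by
      rw [← Units.val_mul, ← Units.val_mul]
      congr 1
      group
    have e2 : (R₂ : Matrix (Fin n₂) (Fin n₂) F) * ((R₂⁻¹ * b * R₂ : GL (Fin n₂) F) : Matrix (Fin n₂) (Fin n₂) F) * ((R₂⁻¹ : GL (Fin n₂) F) : Matrix (Fin n₂) (Fin n₂) F) = b := by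
      rw [← Units.val_mul, ← Units.val_mul]
      congr 1
      group
    rw [e1, e2]

/-- Changing the bases of the factors changes the factor forms accordingly. -/
theorem isTensorFormStructure_chBasis {σ : F ≃+* F} {f : (ι → F) → (ι → F) → F} {n₁ n₂ : ℕ}
    {f₁ : (Fin n₁ → F) → (Fin n₁ → F) → F} {f₂ : (Fin n₂ → F) → (Fin n₂ → F) → F}
    {f₁' : (Fin n₁ → F) → (Fin n₁ → F) → F} {f₂' : (Fin n₂ → F) → (Fin n₂ → F) → F}
    {e : ι ≃ Fin n₁ × Fin n₂} {P : GL ι F} (h : IsTensorFormStructure σ f f₁ f₂ e P)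
    (R₁ : GL (Fin n₁) F) (R₂ : GL (Fin n₂) F)
    (h1 : (R₁ : Matrix (Fin n₁) (Fin n₁) F)ᵀ * gramMatrix f₁ * (R₁ : Matrix (Fin n₁) (Fin n₁) F).map σ = gramMatrix f₁')
    (h2 : (R₂ : Matrix (Fin n₂) (Fin n₂) F)ᵀ * gramMatrix f₂ * (R₂ : Matrix (Fin n₂) (Fin n₂) F).map σ = gramMatrix f₂') :
    IsTensorFormStructure σ f f₁' f₂' e (chBasis e P R₁ R₂) := by
  obtain ⟨c, hc, h⟩ := h
  refine ⟨c, hc, fun x y => ?_⟩
  rw [chBasis_mulVec, chBasis_mulVec, h, formOfGram_eq_dotProduct, formOfGram_eq_dotProduct, ← h1, ← h2]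
  congr 1
  have hK : ((R₁ : Matrix (Fin n₁) (Fin n₁) F)ᵀ * gramMatrix f₁ * (R₁ : Matrix (Fin n₁) (Fin n₁) F).map σ) ⊗ₖ
      ((R₂ : Matrix (Fin n₂) (Fin n₂) F)ᵀ * gramMatrix f₂ * (R₂ : Matrix (Fin n₂) (Fin n₂) F).map σ) =
      ((R₁ : Matrix (Fin n₁) (Fin n₁) F) ⊗ₖ (R₂ : Matrix (Fin n₂) (Fin n₂) F))ᵀ * (gramMatrix f₁ ⊗ₖ gramMatrix f₂) *
        (((R₁ : Matrix (Fin n₁) (Fin n₁) F) ⊗ₖ (R₂ : Matrix (Fin n₂) (Fin n₂) F)).map σ) := by
    rw [Matrix.mul_kronecker_mul, Matrix.mul_kronecker_mul]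
    congr 1
    ext i j
    simp [kroneckerMap_apply]
  rw [hK, ← mulVec_mulVec, ← mulVec_mulVec, Matrix.dotProduct_mulVec _ (_ᵀ), Matrix.vecMul_transpose]
  congr 2
  funext i
  simp only [mulVec, dotProduct, map_sum, map_mul, map_apply]

/-! ### Two equal factors -/

/-- The bijection `ι ≃ (Fin 2 → Fin k)` attached to `e : ι ≃ Fin k × Fin k`. -/
def twoEquiv {k : ℕ} (e : ι ≃ Fin k × Fin k) : ι ≃ (Fin 2 → Fin k) :=
  e.trans (finTwoArrowEquiv (Fin k)).symm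

theorem twoEquiv_apply {k : ℕ} (e : ι ≃ Fin k × Fin k) (l : ι) :
    twoEquiv e l = ![(e l).1, (e l).2] := rfl

theorem tensorProductSubgroup_le_tensorWreathSubgroup {k : ℕ} (e : ι ≃ Fin k × Fin k) (P : GL ι F) :
    tensorProductSubgroup k k e P ≤ tensorWreathSubgroup k 2 (twoEquiv e) P := by
  intro g hg
  obtain ⟨_, ⟨u, ⟨a, b, hu⟩, rfl⟩, rfl⟩ := hg
  -- the corresponding element on functions
  let u' : GL (Fin 2 → Fin k) F := glReindex (finTwoArrowEquiv (Fin k)).symm u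
  refine ⟨glReindex (twoEquiv e).symm u', ⟨u', ?_, rfl⟩, ?_⟩
  · apply Subgroup.subset_closure
    left
    refine ⟨![a, b], fun x y => ?_⟩
    change (u : Matrix (Fin k × Fin k) (Fin k × Fin k) F) ((finTwoArrowEquiv (Fin k)) x) ((finTwoArrowEquiv (Fin k)) y) = _
    rw [hu, Fin.prod_univ_two]
    rfl
  · congr 1

theorem isTensorPowerFormStructure_two {σ : F → F} {f : (ι → F) → (ι → F) → F} {k : ℕ}
    {f₁ : (Fin k → F) → (Fin k → F) → F} {e : ι ≃ Fin k × Fin k} {P : GL ι F}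
    (h : IsTensorFormStructure σ f f₁ f₁ e P) : IsTensorPowerFormStructure σ f f₁ (twoEquiv e) P := by
  obtain ⟨c, hc, h⟩ := h
  refine ⟨c, hc, fun x y => ?_⟩
  have h1 := h (x ∘ (finTwoArrowEquiv (Fin k)).symm) (y ∘ (finTwoArrowEquiv (Fin k)).symm)
  have e1 : (x ∘ (twoEquiv e) : ι → F) = (x ∘ (finTwoArrowEquiv (Fin k)).symm) ∘ e := rfl
  have e2 : (y ∘ (twoEquiv e) : ι → F) = (y ∘ (finTwoArrowEquiv (Fin k)).symm) ∘ e := rfl
  rw [e1, e2, h1]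
  congr 1
  unfold formOfGram
  rw [← (finTwoArrowEquiv (Fin k)).sum_comp]
  refine Finset.sum_congr rfl fun a _ => ?_
  rw [← (finTwoArrowEquiv (Fin k)).sum_comp]
  refine Finset.sum_congr rfl fun b _ => ?_
  rw [Fin.prod_univ_two]
  simp only [Function.comp_apply, kroneckerMap_apply, Equiv.symm_apply_apply]
  rfl

end Cfsg.Agent.H912
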