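import Cfsg.Agent.H912.TensForm

/-!
Tensor decompositions compatible with a form, second part: the two factor forms.
-/

set_option autoImplicit false

namespace Cfsg.Agent.H912
open Cfsg Cfsg.Geo Matrix Cfsg.Agent.H919
open scoped Kronecker

variable {ι : Type} [Fintype ι] [DecidableEq ι] {F : Type*} [Field F]

/-- A `λ`-hermitian invertible Gram matrix gives a `HermForm`. -/
theorem hermForm_formOfGram {κ : Type} [Fintype κ] [DecidableEq κ] {σ : F ≃+* F}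
    (hσ : ∀ a, σ (σ a) = a) {G : Matrix κ κ F} (hG : IsUnit G.det) {c : F} (hc : c * σ c = 1)
    (hherm : ∀ i j, G i j = c * σ (G j i)) : HermForm σ c (formOfGram σ G) := by
  have herm : ∀ v w, formOfGram σ G v w = c * σ (formOfGram σ G w v) := by
    intro v w
    unfold formOfGram
    rw [map_sum, Finset.mul_sum, Finset.sum_comm]
    refine Finset.sum_congr rfl fun b _ => ?_
    rw [map_sum, Finset.mul_sum]
    refine Finset.sum_congr rfl fun a _ => ?_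
    rw [map_mul, map_mul, hσ, hherm a b]
    ring
  have hc0 : c ≠ 0 := by
    rintro rfl
    rw [zero_mul] at hc
    exact zero_ne_one hc
  have nd : ∀ v : κ → F, v ≠ 0 → ∃ x, formOfGram σ G x v ≠ 0 := by
    intro v hv
    by_contra hcon
    push Not at hcon
    apply hv
    have h1 : G *ᵥ (fun b => σ (v b)) = 0 := by
      funext a
      have h2 := hcon (Pi.single a 1)
      rw [formOfGram_eq_dotProduct, single_one_dotProduct] at h2
      exact h2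
    have h2 : (fun b => σ (v b)) = 0 := by
      by_contra hne
      exact (isUnit_iff_ne_zero.mp hG) (Matrix.exists_mulVec_eq_zero_iff.mp ⟨_, hne, h1⟩)
    funext b
    have h3 := congrFun h2 b
    simpa using h3
  refine ⟨?_, ?_, hσ, hc, herm, ?_⟩
  · intro x y v
    unfold formOfGram
    rw [← Finset.sum_add_distrib]
    refine Finset.sum_congr rfl fun a _ => ?_
    rw [← Finset.sum_add_distrib]
    refine Finset.sum_congr rfl fun b _ => ?_
    rw [Pi.add_apply]; ring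
  · intro r x v
    unfold formOfGram
    rw [Finset.mul_sum]
    refine Finset.sum_congr rfl fun a _ => ?_
    rw [Finset.mul_sum]
    refine Finset.sum_congr rfl fun b _ => ?_
    rw [Pi.smul_apply, smul_eq_mul]; ring
  · intro v hv
    refine ⟨nd v hv, ?_⟩
    obtain ⟨x, hx⟩ := nd v hv
    refine ⟨x, fun h => hx ?_⟩
    rw [herm, h, map_zero, mul_zero]

theorem gramMatrix_formOfGram {κ : Type} [Fintype κ] [DecidableEq κ] (σ : F ≃+* F) (G : Matrix κ κ F) :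
    gramMatrix (formOfGram σ G) = G := by
  ext a b
  exact formOfGram_single σ G a b

theorem gramPe_herm {σ : F ≃+* F} {ε : F} {f : (ι → F) → (ι → F) → F} (hf : HermForm σ ε f)
    {κ : Type} [Fintype κ] [DecidableEq κ] (e : ι ≃ κ) (P : GL ι F) (a b : κ) :
    gramPe f e P a b = ε * σ (gramPe f e P b a) := hf.herm _ _

/-- **B3**: the two factor forms. -/
theorem exists_factorForms {σ : F ≃+* F} {ε : F} {f : (ι → F) → (ι → F) → F} (hf : HermForm σ ε f)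
    {n₁ n₂ : ℕ} (hn : 0 < n₁) (hn2 : 0 < n₂) {e : ι ≃ Fin n₁ × Fin n₂} {P : GL ι F}
    {A : Subalgebra F (Matrix ι ι F)} (hA : ∀ x, x ∈ A ↔ ∃ a : Matrix (Fin n₁) (Fin n₁) F, x = tens e P a 1)
    (hadj : IsAdjointClosedFor f A) :
    ∃ (ε₁ ε₂ : F) (f₁ : (Fin n₁ → F) → (Fin n₁ → F) → F) (f₂ : (Fin n₂ → F) → (Fin n₂ → F) → F),
      HermForm σ ε₁ f₁ ∧ HermForm σ ε₂ f₂ ∧ ε₁ * ε₂ = ε ∧
      ∀ x y : Fin n₁ × Fin n₂ → F, f ((P : Matrix ι ι F) *ᵥ (x ∘ e)) ((P : Matrix ι ι F) *ᵥ (y ∘ e)) =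
        formOfGram σ (gramMatrix f₁ ⊗ₖ gramMatrix f₂) x y := by
  obtain ⟨G₁, G₂, hG⟩ := gramPe_kronecker hf hn hn2 hA hadj
  have hσ := hf.sigma_sq
  have heq : ∀ i j k l, (G₁ : Matrix (Fin n₁) (Fin n₁) F) i j * (G₂ : Matrix (Fin n₂) (Fin n₂) F) k l =
      ε * (σ ((G₁ : Matrix (Fin n₁) (Fin n₁) F) j i) * σ ((G₂ : Matrix (Fin n₂) (Fin n₂) F) l k)) := by
    intro i j k l
    have h1 := gramPe_herm hf e P (i, k) (j, l)
    rw [hG] at h1
    rw [kroneckerMap_apply, kroneckerMap_apply, map_mul] at h1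
    exact h1
  have hd1 : IsUnit (G₁ : Matrix (Fin n₁) (Fin n₁) F).det := (Matrix.isUnit_iff_isUnit_det _).mp G₁.isUnit
  have hd2 : IsUnit (G₂ : Matrix (Fin n₂) (Fin n₂) F).det := (Matrix.isUnit_iff_isUnit_det _).mp G₂.isUnit
  have hne1 : ∃ i j, (G₁ : Matrix (Fin n₁) (Fin n₁) F) i j ≠ 0 := by
    by_contra hcon
    push Not at hcon
    have h0 : (G₁ : Matrix (Fin n₁) (Fin n₁) F) = 0 := by ext i j; exact hcon i j
    have : Nonempty (Fin n₁) := ⟨⟨0, hn⟩⟩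
    rw [h0, Matrix.det_zero] at hd1
    exact not_isUnit_zero hd1
  have hne2 : ∃ k l, (G₂ : Matrix (Fin n₂) (Fin n₂) F) k l ≠ 0 := by
    by_contra hcon
    push Not at hcon
    have h0 : (G₂ : Matrix (Fin n₂) (Fin n₂) F) = 0 := by ext i j; exact hcon i j
    have : Nonempty (Fin n₂) := ⟨⟨0, hn2⟩⟩
    rw [h0, Matrix.det_zero] at hd2
    exact not_isUnit_zero hd2
  obtain ⟨i₀, j₀, hij⟩ := hne1
  obtain ⟨k₀, l₀, hkl⟩ := hne2
  obtain ⟨c, hc⟩ : ∃ c : F, c = ε * σ ((G₂ : Matrix (Fin n₂) (Fin n₂) F) l₀ k₀) / (G₂ : Matrix (Fin n₂) (Fin n₂) F) k₀ l₀ := ⟨_, rfl⟩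
  have h1 : ∀ i j, (G₁ : Matrix (Fin n₁) (Fin n₁) F) i j = c * σ ((G₁ : Matrix (Fin n₁) (Fin n₁) F) j i) := by
    intro i j
    have h2 := heq i j k₀ l₀
    rw [hc]
    field_simp
    rw [h2]
    ring
  have hcc : c * σ c = 1 := by
    have h2 := h1 i₀ j₀
    rw [h1 j₀ i₀, map_mul, hσ] at h2
    have h3 : (c * σ c - 1) * (G₁ : Matrix (Fin n₁) (Fin n₁) F) i₀ j₀ = 0 := by
      linear_combination - h2
    rcases mul_eq_zero.mp h3 with h4 | h4
    · exact sub_eq_zero.mp h4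
    · exact absurd h4 hij
  have hc0 : c ≠ 0 := by
    rintro rfl
    rw [zero_mul] at hcc
    exact zero_ne_one hcc
  have hji : (G₁ : Matrix (Fin n₁) (Fin n₁) F) j₀ i₀ ≠ 0 := by
    intro h
    apply hij
    rw [h1 i₀ j₀, h, map_zero, mul_zero]
  have h2 : ∀ k l, (G₂ : Matrix (Fin n₂) (Fin n₂) F) k l = (ε * c⁻¹) * σ ((G₂ : Matrix (Fin n₂) (Fin n₂) F) l k) := by
    intro k l
    have h3 := heq i₀ j₀ k l
    rw [h1 i₀ j₀] at h3
    have h4 : σ ((G₁ : Matrix (Fin n₁) (Fin n₁) F) j₀ i₀) ≠ 0 := by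
      simpa using hji
    field_simp
    have h5 : σ ((G₁ : Matrix (Fin n₁) (Fin n₁) F) j₀ i₀) * (c * (G₂ : Matrix (Fin n₂) (Fin n₂) F) k l - ε * σ ((G₂ : Matrix (Fin n₂) (Fin n₂) F) l k)) = 0 := by
      linear_combination h3
    rcases mul_eq_zero.mp h5 with h6 | h6
    · exact absurd h6 h4
    · rw [sub_eq_zero] at h6
      first
        | exact h6
        | (rw [← h6]; ring)
  have hcc2 : (ε * c⁻¹) * σ (ε * c⁻¹) = 1 := by
    have h3 : σ c⁻¹ = (σ c)⁻¹ := map_inv₀ σ c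
    rw [map_mul, h3]
    have h4 : σ c = c⁻¹ := eq_inv_of_mul_eq_one_right hcc
    rw [h4, inv_inv]
    have := hf.eps
    field_simp
    rw [← this]
  refine ⟨c, ε * c⁻¹, formOfGram σ (G₁ : Matrix (Fin n₁) (Fin n₁) F), formOfGram σ (G₂ : Matrix (Fin n₂) (Fin n₂) F),
    hermForm_formOfGram hσ hd1 hcc h1, hermForm_formOfGram hσ hd2 hcc2 h2, ?_, ?_⟩
  · field_simp
  · intro x y
    rw [gramMatrix_formOfGram, gramMatrix_formOfGram, form_eq_formOfGram hf, hG]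

/-- Hilbert 90 for an automorphism of order two. -/
theorem hilbert90 {σ : F ≃+* F} (hσ : ∀ a, σ (σ a) = a) (hne : σ ≠ RingEquiv.refl F) {c : F}
    (hc : c * σ c = 1) : ∃ ν : F, ν ≠ 0 ∧ σ ν = c * ν := by
  have hc0 : c ≠ 0 := by
    rintro rfl
    rw [zero_mul] at hc
    exact zero_ne_one hc
  have hcinv : σ c = c⁻¹ := eq_inv_of_mul_eq_one_right hc
  have hex : ∃ x : F, x + c⁻¹ * σ x ≠ 0 := by
    by_contra hcon
    push Not at hcon
    have h1 := hcon 1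
    rw [map_one, mul_one] at h1
    apply hne
    ext x
    have h2 := hcon x
    have h3 : c⁻¹ = -1 := by linear_combination h1
    rw [h3] at h2
    change σ x = x
    linear_combination - h2
  obtain ⟨x, hx⟩ := hex
  refine ⟨x + c⁻¹ * σ x, hx, ?_⟩
  rw [map_add, map_mul, hσ, map_inv₀, hcinv, inv_inv]
  field_simp
  ring

theorem HermForm_smul {κ : Type} {σ : F ≃+* F} {ε : F} {f : (κ → F) → (κ → F) → F} (hf : HermForm σ ε f)
    {ν : F} (hν : ν ≠ 0) : HermForm σ (ε * ν * (σ ν)⁻¹) (fun v w => ν * f v w) where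
  add_left x y v := by rw [hf.add_left]; ring
  smul_left c x v := by rw [hf.smul_left]; ring
  sigma_sq := hf.sigma_sq
  eps := by
    have h0 : σ ν ≠ 0 := by simpa using hν
    rw [map_mul, map_mul, map_inv₀, hf.sigma_sq]
    have := hf.eps
    field_simp
    rw [← this]
  herm v w := by
    have h0 : σ ν ≠ 0 := by simpa using hν
    rw [hf.herm v w, map_mul]
    field_simp
  nondegenerate v hv := by
    obtain ⟨⟨x, hx⟩, ⟨y, hy⟩⟩ := hf.nondegenerate v hv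
    exact ⟨⟨x, mul_ne_zero hν hx⟩, ⟨y, mul_ne_zero hν hy⟩⟩

theorem isTensorFormStructure_smul {σ : F → F} {f : (ι → F) → (ι → F) → F} {n₁ n₂ : ℕ}
    {f₁ : (Fin n₁ → F) → (Fin n₁ → F) → F} {f₂ : (Fin n₂ → F) → (Fin n₂ → F) → F}
    {e : ι ≃ Fin n₁ × Fin n₂} {P : GL ι F} (h : IsTensorFormStructure σ f f₁ f₂ e P) {ν μ : F}
    (hν : ν ≠ 0) (hμ : μ ≠ 0) :
    IsTensorFormStructure σ f (fun v w => ν * f₁ v w) (fun v w => μ * f₂ v w) e P := by
  obtain ⟨c, hc, h⟩ := h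
  refine ⟨c * ν⁻¹ * μ⁻¹, by positivity, fun x y => ?_⟩
  rw [h]
  unfold formOfGram
  rw [Finset.mul_sum, Finset.mul_sum]
  refine Finset.sum_congr rfl fun a _ => ?_
  rw [Finset.mul_sum, Finset.mul_sum]
  refine Finset.sum_congr rfl fun b _ => ?_
  simp only [kroneckerMap_apply, gramMatrix]
  field_simp

/-- **B3**, as a tensor form structure. -/
theorem exists_isTensorFormStructure {σ : F ≃+* F} {ε : F} {f : (ι → F) → (ι → F) → F} (hf : HermForm σ ε f)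
    {n₁ n₂ : ℕ} (hn : 0 < n₁) (hn2 : 0 < n₂) {e : ι ≃ Fin n₁ × Fin n₂} {P : GL ι F}
    {A : Subalgebra F (Matrix ι ι F)} (hA : ∀ x, x ∈ A ↔ ∃ a : Matrix (Fin n₁) (Fin n₁) F, x = tens e P a 1)
    (hadj : IsAdjointClosedFor f A) :
    ∃ (ε₁ ε₂ : F) (f₁ : (Fin n₁ → F) → (Fin n₁ → F) → F) (f₂ : (Fin n₂ → F) → (Fin n₂ → F) → F),
      HermForm σ ε₁ f₁ ∧ HermForm σ ε₂ f₂ ∧ ε₁ * ε₂ = ε ∧ IsTensorFormStructure σ f f₁ f₂ e P := by
  obtain ⟨ε₁, ε₂, f₁, f₂, h1, h2, h3, h4⟩ := exists_factorForms hf hn hn2 hA hadj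
  exact ⟨ε₁, ε₂, f₁, f₂, h1, h2, h3, 1, one_ne_zero, fun x y => by rw [h4, one_mul]⟩

/-- **B3**, unitary version: both factors are unitary with `ε = 1`. -/
theorem exists_isTensorFormStructure_unitary {σ : F ≃+* F} {f : (ι → F) → (ι → F) → F} (hf : HermForm σ 1 f)
    (hne : σ ≠ RingEquiv.refl F)
    {n₁ n₂ : ℕ} (hn : 0 < n₁) (hn2 : 0 < n₂) {e : ι ≃ Fin n₁ × Fin n₂} {P : GL ι F}
    {A : Subalgebra F (Matrix ι ι F)} (hA : ∀ x, x ∈ A ↔ ∃ a : Matrix (Fin n₁) (Fin n₁) F, x = tens e P a 1)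
    (hadj : IsAdjointClosedFor f A) :
    ∃ (f₁ : (Fin n₁ → F) → (Fin n₁ → F) → F) (f₂ : (Fin n₂ → F) → (Fin n₂ → F) → F),
      HermForm σ 1 f₁ ∧ HermForm σ 1 f₂ ∧ IsTensorFormStructure σ f f₁ f₂ e P := by
  obtain ⟨ε₁, ε₂, f₁, f₂, h1, h2, h3, h4⟩ := exists_isTensorFormStructure hf hn hn2 hA hadj
  obtain ⟨ν, hν, hν1⟩ := hilbert90 hf.sigma_sq hne h1.eps
  obtain ⟨μ, hμ, hμ1⟩ := hilbert90 hf.sigma_sq hne h2.eps
  have e1 := HermForm_smul h1 hν
  have e2 := HermForm_smul h2 hμ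
  have hε1 : ε₁ ≠ 0 := h1.eps_ne_zero
  have hε2 : ε₂ ≠ 0 := h2.eps_ne_zero
  have c1 : ε₁ * ν * (σ ν)⁻¹ = 1 := by rw [hν1]; field_simp
  have c2 : ε₂ * μ * (σ μ)⁻¹ = 1 := by rw [hμ1]; field_simp
  rw [c1] at e1
  rw [c2] at e2
  exact ⟨_, _, e1, e2, isTensorFormStructure_smul h4 hν hμ⟩

end Cfsg.Agent.H912
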