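import Cfsg.Agent.H912.Bd4

/-!
# Transitive actions

`bd_of_trans` : `E` an abelian `r`-subgroup of `T` such that `N_T(E)` is transitive on `E \ 1`: bound `|E| - 1`.
-/

set_option autoImplicit false
set_option linter.dupNamespace false

universe u v w

namespace Cfsg.Agent.H912.Bd

open Module

section Rep

variable {K : Type*} [Field K] [IsAlgClosed K] {V : Type*} [AddCommGroup V] [Module K V] {L : Type*} [Group L]
  [FiniteDimensional K V] (ρ : L →* Module.End K V) {A : Subgroup L}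
  (hA : ∀ a ∈ A, ∀ b ∈ A, a * b = b * a)

include hA in
theorem card_sub_one_le [Finite A] (hAK : (Nat.card A : K) ≠ 0) {c : L} (hcA : c ∈ A) (hc : ρ c ≠ 1)
    (htr : ∀ a ∈ A, a ≠ 1 → ∃ g : L, (∀ x ∈ A, g * x * g⁻¹ ∈ A) ∧ g * a * g⁻¹ = c) :
    Nat.card A - 1 ≤ finrank K V := by
  classical
  have hAN : ∀ a ∈ A, a ^ Nat.card A = 1 := fun a ha =>
    congrArg Subtype.val (pow_card_eq_one' (x := (⟨a, ha⟩ : A)))
  let instC : CommGroup A := { (inferInstance : Group A) with
    mul_comm := fun a b => Subtype.ext (hA a a.2 b b.2) }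
  have : Fintype A := Fintype.ofFinite A
  have hroots : HasEnoughRootsOfUnity K (Monoid.exponent A) := by
    have : NeZero ((Monoid.exponent A : ℕ) : K) := ⟨by
      intro h0
      apply hAK
      obtain ⟨d, hd⟩ := Group.exponent_dvd_nat_card (G := A)
      rw [hd, Nat.cast_mul, h0, zero_mul]⟩
    infer_instance
  have hcardX : Nat.card (A →* Kˣ) = Nat.card A := CommGroup.card_monoidHom_of_hasEnoughRootsOfUnity A K
  have hfinX : Finite (A →* Kˣ) := Nat.finite_of_card_ne_zero (by rw [hcardX]; exact Nat.card_pos.ne')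
  have : Fintype (A →* Kˣ) := Fintype.ofFinite _
  let wX : (A →* Kˣ) → Submodule K V := fun χ => wt ρ A (fun a => ((χ a : Kˣ) : K))
  -- weights give homomorphisms
  have hhom : ∀ χ : A → K, wt ρ A χ ≠ ⊥ → ∃ ψ : A →* Kˣ, ∀ a, ((ψ a : Kˣ) : K) = χ a := by
    intro χ hχ
    have h0 : ∀ a, χ a * χ a⁻¹ = 1 := by
      intro a
      rw [← wt_mul ρ hχ, mul_inv_cancel, wt_one ρ hχ]
    refine ⟨MonoidHom.mk' (fun a => ⟨χ a, χ a⁻¹, h0 a, by rw [mul_comm]; exact h0 a⟩) (fun a b => ?_), fun a => rfl⟩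
    exact Units.ext (wt_mul ρ hχ a b)
  let W : Finset (A →* Kˣ) := Finset.univ.filter (fun χ => χ ≠ 1 ∧ wX χ ≠ ⊥)
  have hW : ∀ χ, χ ∈ W ↔ χ ≠ 1 ∧ wX χ ≠ ⊥ := fun χ => by simp [W]
  obtain ⟨χ₀, hχ₀⟩ : ∃ χ₀, χ₀ ∈ W := by
    obtain ⟨χ, hχ, hχc⟩ := exists_wt ρ hA hAK hAN (c := ⟨c, hcA⟩) hc
    obtain ⟨ψ, hψ⟩ := hhom χ hχ
    refine ⟨ψ, (hW ψ).2 ⟨?_, ?_⟩⟩
    · rintro rfl
      apply hχc
      rw [← hψ]
      rfl
    · have h1 : (fun a => ((ψ a : Kˣ) : K)) = χ := funext hψ
      change wt ρ A (fun a => ((ψ a : Kˣ) : K)) ≠ ⊥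
      rw [h1]; exact hχ
  let f : A → K := fun a => ∑ χ ∈ W, ((χ a : Kˣ) : K)
  have hf : ∀ a, f a = ∑ χ ∈ W, ((χ a : Kˣ) : K) := fun a => rfl
  -- invariance
  have hinv : ∀ g : L, (∀ x ∈ A, g * x * g⁻¹ ∈ A) → ∀ (a : A) (h : g * a * g⁻¹ ∈ A), f ⟨g * a * g⁻¹, h⟩ = f a := by
    intro g hg a h
    let cg : A →* A :=
      { toFun := fun x => ⟨g * x * g⁻¹, hg x x.2⟩
        map_one' := Subtype.ext (by simp)
        map_mul' := fun x y => Subtype.ext (by
          change g * (x * y) * g⁻¹ = g * x * g⁻¹ * (g * y * g⁻¹)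
          group) }
    have hcg : Function.Injective cg := by
      intro x y hxy
      have h1 : g * x * g⁻¹ = g * y * g⁻¹ := congrArg Subtype.val hxy
      exact Subtype.ext (mul_left_cancel (mul_right_cancel h1))
    have hcgs : Function.Surjective cg := Finite.surjective_of_injective hcg
    let Φ : (A →* Kˣ) → (A →* Kˣ) := fun χ => χ.comp cg
    have hΦ : Function.Injective Φ := by
      intro χ ψ hχψ
      ext x
      obtain ⟨y, rfl⟩ := hcgs x
      exact congrArg Units.val (DFunLike.congr_fun hχψ y)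
    have himg : W.image Φ = W := by
      apply Finset.eq_of_subset_of_card_le
      · intro ψ hψ
        obtain ⟨χ, hχ, rfl⟩ := Finset.mem_image.1 hψ
        rw [hW] at hχ ⊢
        refine ⟨?_, ?_⟩
        · intro h1
          apply hχ.1
          apply hΦ
          rw [h1]
          rfl
        · intro h1
          have h2 := map_wt_le ρ (χ := fun a => ((χ a : Kˣ) : K)) (s := g) (fun a ha => hg a ha)
          have h3 : wt ρ A (fun a => (fun a => ((χ a : Kˣ) : K)) ⟨g * a * g⁻¹, hg a a.2⟩) = wX (Φ χ) := rfl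
          rw [h3, h1, le_bot_iff] at h2
          apply hχ.2
          rw [eq_bot_iff]
          intro v hv
          have h5 : ρ g⁻¹ v ∈ (wt ρ A fun a => ((χ a : Kˣ) : K)).map (ρ g⁻¹) := ⟨v, hv, rfl⟩
          rw [h2, Submodule.mem_bot] at h5
          rw [Submodule.mem_bot]
          apply rho_injective ρ g⁻¹
          rw [h5, map_zero]
      · rw [Finset.card_image_of_injective _ hΦ]
    calc f ⟨g * a * g⁻¹, h⟩ = ∑ χ ∈ W, ((Φ χ a : Kˣ) : K) := rfl
      _ = ∑ χ ∈ W.image Φ, ((χ a : Kˣ) : K) := by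
          rw [Finset.sum_image (fun x _ y _ hxy => hΦ hxy)]
      _ = f a := by rw [himg]
  have hconst : ∀ a : A, a ≠ 1 → f a = f ⟨c, hcA⟩ := by
    intro a ha
    obtain ⟨g, hg, hgc⟩ := htr a a.2 (fun h => ha (Subtype.ext h))
    have h1 := hinv g hg a (by rw [hgc]; exact hcA)
    rw [← h1]
    congr 1
    exact Subtype.ext hgc
  -- orthogonality
  have horth : ∀ ψ : A →* Kˣ, ψ ≠ 1 → ∑ a : A, ((ψ a : Kˣ) : K) = 0 := by
    intro ψ hψ
    have h1 : ((Units.coeHom K).comp ψ) ≠ 1 := by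
      intro h
      apply hψ
      ext a
      exact DFunLike.congr_fun h a
    exact sum_hom_units_eq_zero ((Units.coeHom K).comp ψ) h1
  have key : ∀ ψ : A →* Kˣ, ψ ≠ 1 → (if ψ ∈ W then (Nat.card A : K) else 0) = W.card - f ⟨c, hcA⟩ := by
    intro ψ hψ
    have h1 : ∑ a : A, f a * ((ψ⁻¹ a : Kˣ) : K) = if ψ ∈ W then (Nat.card A : K) else 0 := by
      simp only [hf, Finset.sum_mul]
      rw [Finset.sum_comm]
      have h2 : ∀ χ ∈ W, ∑ a : A, ((χ a : Kˣ) : K) * ((ψ⁻¹ a : Kˣ) : K)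
          = if ψ = χ then (Nat.card A : K) else 0 := by
        intro χ _
        split_ifs with h
        · rw [← h]
          have h3 : ∀ a : A, ((ψ a : Kˣ) : K) * ((ψ⁻¹ a : Kˣ) : K) = 1 := by
            intro a
            rw [← Units.val_mul, MonoidHom.inv_apply, mul_inv_cancel, Units.val_one]
          simp only [h3]
          rw [Finset.sum_const, Finset.card_univ, nsmul_eq_mul, mul_one, Nat.card_eq_fintype_card]
        · have h3 := horth (χ * ψ⁻¹) (by
            intro h4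
            exact h (mul_inv_eq_one.1 h4).symm)
          rw [← h3]
          refine Finset.sum_congr rfl fun a _ => ?_
          rw [← Units.val_mul]
          rfl
      rw [Finset.sum_congr rfl h2, Finset.sum_ite_eq]
    rw [← h1]
    have h4 : ∀ a : A, f a * ((ψ⁻¹ a : Kˣ) : K) = f ⟨c, hcA⟩ * ((ψ⁻¹ a : Kˣ) : K) +
        if a = 1 then (W.card - f ⟨c, hcA⟩) else 0 := by
      intro a
      split_ifs with h
      · subst h
        have h5 : f 1 = W.card := by
          simp only [hf, map_one, Units.val_one]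
          rw [Finset.sum_const, nsmul_eq_mul, mul_one]
        rw [h5, map_one, Units.val_one]
        ring
      · rw [hconst a h, add_zero]
    simp only [h4]
    rw [Finset.sum_add_distrib, ← Finset.mul_sum, horth ψ⁻¹ (fun h => hψ (by
      ext a
      have h6 : (ψ a)⁻¹ = 1 := DFunLike.congr_fun h a
      rw [inv_eq_one] at h6
      rw [h6]; rfl)), mul_zero, zero_add,
      Finset.sum_ite_eq']
    simp
  have hall : ∀ ψ : A →* Kˣ, ψ ≠ 1 → ψ ∈ W := by
    intro ψ hψ
    by_contra hn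
    have h1 := key ψ hψ
    have h2 := key χ₀ ((hW χ₀).1 hχ₀).1
    rw [if_neg hn] at h1
    rw [if_pos hχ₀, ← h1] at h2
    exact hAK h2
  have hWcard : W.card = Nat.card A - 1 := by
    have h1 : W = Finset.univ.erase 1 := by
      ext ψ
      rw [Finset.mem_erase]
      constructor
      · intro h; exact ⟨((hW ψ).1 h).1, Finset.mem_univ _⟩
      · intro h; exact hall ψ h.1
    rw [h1, Finset.card_erase_of_mem (Finset.mem_univ _), Finset.card_univ, ← Nat.card_eq_fintype_card, hcardX]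
  have hinj : Function.Injective (fun ψ : W => (fun a => (((ψ : A →* Kˣ) a : Kˣ) : K))) := by
    intro ψ φ h
    apply Subtype.ext
    ext a
    exact congrFun h a
  have hind : iSupIndep (fun ψ : W => wX ψ) := (indep_wt ρ hA hAK hAN).comp hinj
  calc Nat.card A - 1 = W.card := hWcard.symm
    _ = ∑ _ψ : W, 1 := by rw [Finset.sum_const, Finset.card_univ, Fintype.card_coe, smul_eq_mul, mul_one]
    _ ≤ ∑ ψ : W, finrank K (wX ψ) := by
        refine Finset.sum_le_sum fun ψ _ => ?_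
        have : Nontrivial (wX ψ) := Submodule.nontrivial_iff_ne_bot.2 ((hW ψ).1 ψ.2).2
        exact finrank_pos
    _ ≤ finrank K V := sum_finrank_le hind

end Rep

section Main

variable {F : Type u} [Field F] {n r : ℕ} {T : Type v} [Group T]

/-- **Transitive action**: bound `|E| - 1`. -/
theorem bd_of_trans (hr : r.Prime) (hrF : (r : F) ≠ 0) (E : Subgroup T) [Finite E]
    (hE : ∀ a ∈ E, ∀ b ∈ E, a * b = b * a) (hEr : IsPGroup r E) {e₀ : T} (he₀ : e₀ ∈ E) (he₀1 : e₀ ≠ 1)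
    (htr : ∀ e ∈ E, e ≠ 1 → ∃ s : T, (∀ x ∈ E, s * x * s⁻¹ ∈ E) ∧ s * e * s⁻¹ = e₀) :
    Bd F r (Nat.card E - 1) T := by
  rintro n ⟨L, _, π, ρ, hπ, hc, hcop, hρ⟩
  obtain ⟨A, hA, hAc, ⟨N, hN, hAN⟩, hlift, hnorm⟩ := exists_data (F := F) hπ hc hcop hr hrF hE hEr
  obtain ⟨c, hcA, hce⟩ := hlift e₀ he₀
  have hck : repK ρ c ≠ 1 := by
    intro h1
    have h2 : c ∈ ρ.ker := eq_one_of_repK h1
    have h3 := hρ h2
    rw [MonoidHom.mem_ker, hce] at h3
    exact he₀1 h3
  have hinj : Function.Injective (fun a : A => (⟨π a, ((hA a).1 a.2).1⟩ : E)) := by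
    intro a b hab
    have h1 : π a = π b := congrArg Subtype.val hab
    obtain ⟨-, k, hk⟩ := (hA a).1 a.2
    obtain ⟨-, l, hl⟩ := (hA b).1 b.2
    exact Subtype.ext (lift_unique hc hcop h1 hk hl)
  have hsurj : Function.Surjective (fun a : A => (⟨π a, ((hA a).1 a.2).1⟩ : E)) := by
    rintro ⟨e, he⟩
    obtain ⟨a, ha, hae⟩ := hlift e he
    exact ⟨⟨a, ha⟩, Subtype.ext hae⟩
  have hfin : Finite A := Finite.of_injective _ hinj
  have hcard : Nat.card A = Nat.card E := Nat.card_congr (Equiv.ofBijective _ ⟨hinj, hsurj⟩)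
  have hAK : (Nat.card A : AlgebraicClosure F) ≠ 0 := by
    have : Fact r.Prime := ⟨hr⟩
    obtain ⟨m, hm⟩ := IsPGroup.iff_card.1 hEr
    rw [hcard, hm, Nat.cast_pow]
    apply pow_ne_zero
    intro h0
    apply hrF
    apply (algebraMap F (AlgebraicClosure F)).injective
    rw [map_natCast, map_zero, h0]
  have hle := card_sub_one_le (repK ρ) hAc hAK hcA hck (by
    intro a ha ha1
    obtain ⟨h1, k, hk⟩ := (hA a).1 ha
    have h2 : π a ≠ 1 := by
      intro h0
      apply ha1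
      exact lift_unique hc hcop (x := a) (y := 1) (by rw [h0, map_one]) hk (l := 0) (by simp)
    obtain ⟨s, hs, hse⟩ := htr _ h1 h2
    obtain ⟨g, rfl⟩ := hπ s
    refine ⟨g, hnorm g hs, ?_⟩
    obtain ⟨-, l, hl⟩ := (hA c).1 hcA
    refine lift_unique hc hcop (k := k) ?_ ?_ hl
    · rw [map_mul, map_mul, map_inv, hse, hce]
    · rw [conj_pow, hk]; group)
  rwa [hcard, Module.finrank_fintype_fun_eq_card, Fintype.card_fin] at hle

end Main

end Cfsg.Agent.H912.Bd
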