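import Cfsg.Agent.H912.Bd4
import Mathlib.GroupTheory.SpecificGroups.Alternating

/-!
# Degrees of projective representations of alternating groups: bounds from Frobenius subgroups

* `bd_affine` : subgroups of `Perm V` containing the translations and a set of linear maps with invertible differences;
* `exists_alt_hom`, `exists_perm_hom` : `A_α → A_β`, `S_α → A_β` (`|α| + 2 ≤ |β|`);
* `bd_alt_two` : `Bd F 2 7 (A_n)`, `n ≥ 8` (from `2^3:7`);
* `bd_alt_three` : `Bd F 3 8 (A_n)`, `n ≥ 9` (from `3^2:Q_8`);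
* `bd_alt_prime` : `Bd F p (p - 1) (A_n)`, `n ≥ p + 2` (from `p:(p-1)`).
-/

set_option autoImplicit false
set_option linter.dupNamespace false

universe u v w

namespace Cfsg.Agent.H912.Bd

open Equiv

variable {F : Type u} [Field F]

/-- Affine groups. -/
theorem bd_affine {V : Type v} [AddCommGroup V] [Finite V] [Nontrivial V] {r : ℕ} (hr : r.Prime)
    (hrF : (r : F) ≠ 0) (hV : ∀ v : V, r • v = 0) (S : Finset (V ≃+ V))
    (hS : ∀ s ∈ S, ∀ t ∈ S, s ≠ t → ∀ v, s v = t v → v = 0) (T : Subgroup (Perm V))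
    (htr : ∀ v : V, Equiv.addRight v ∈ T) (hST : ∀ s ∈ S, (s : V ≃+ V).toEquiv ∈ T) : Bd F r S.card T := by
  classical
  let tr : V → T := fun v => ⟨Equiv.addRight v, htr v⟩
  have htr_apply : ∀ v w : V, (tr v : Perm V) w = w + v := fun v w => rfl
  have htr_inj : Function.Injective tr := by
    intro v w h
    have h1 := congrArg (fun x : T => (x : Perm V) 0) h
    simpa [htr_apply] using h1
  have htr_mul : ∀ v w, tr v * tr w = tr (v + w) := by
    intro v w
    apply Subtype.ext
    apply Equiv.ext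
    intro x
    change (x + w) + v = x + (v + w)
    abel
  have htr_zero : tr 0 = 1 := by
    apply Subtype.ext
    apply Equiv.ext
    intro x
    change x + 0 = x
    abel
  let E : Subgroup T :=
    { carrier := Set.range tr
      mul_mem' := by
        rintro _ _ ⟨v, rfl⟩ ⟨w, rfl⟩
        exact ⟨v + w, (htr_mul v w).symm⟩
      one_mem' := ⟨0, htr_zero⟩
      inv_mem' := by
        rintro _ ⟨v, rfl⟩
        refine ⟨-v, ?_⟩
        rw [eq_inv_iff_mul_eq_one, htr_mul, neg_add_cancel, htr_zero] }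
  let li : S → T := fun s => ⟨s.1.toEquiv, hST s.1 s.2⟩
  have hli_apply : ∀ (s : S) (v : V), (li s : Perm V) v = s.1 v := fun s v => rfl
  have hconj : ∀ (s : S) (v : V), li s * tr v * (li s)⁻¹ = tr (s.1 v) := by
    intro s v
    rw [mul_inv_eq_iff_eq_mul]
    apply Subtype.ext
    apply Equiv.ext
    intro x
    change s.1 (x + v) = s.1 x + s.1 v
    exact map_add _ _ _
  have hli_inj : Function.Injective li := by
    intro s t h
    apply Subtype.ext
    ext v
    rw [← hli_apply, ← hli_apply, h]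
  have hfinE : Finite E := by
    have : Finite (Set.range tr) := Set.finite_range tr
    exact this
  have key := bd_of_free (F := F) (T := T) hr hrF E ?_ ?_ ?_ (Finset.univ.image li) ?_ ?_
  · rwa [Finset.card_image_of_injective _ hli_inj, Finset.card_univ, Fintype.card_coe] at key
  · rintro _ ⟨v, rfl⟩ _ ⟨w, rfl⟩
    rw [htr_mul, htr_mul, add_comm]
  · rintro ⟨_, v, rfl⟩
    refine ⟨1, Subtype.ext ?_⟩
    change tr v ^ r ^ 1 = 1
    have h1 : ∀ k : ℕ, tr v ^ k = tr (k • v) := by
      intro k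
      induction k with
      | zero => rw [pow_zero, zero_smul, htr_zero]
      | succ k ih => rw [pow_succ, ih, htr_mul, succ_nsmul]
    rw [pow_one, h1, hV, htr_zero]
  · intro h0
    obtain ⟨v, hv⟩ := exists_ne (0 : V)
    have h1 : tr v ∈ E := ⟨v, rfl⟩
    rw [h0, Subgroup.mem_bot, ← htr_zero] at h1
    exact hv (htr_inj h1)
  · intro s hs e he
    obtain ⟨s, -, rfl⟩ := Finset.mem_image.1 hs
    obtain ⟨v, rfl⟩ := he
    rw [hconj]
    exact ⟨_, rfl⟩
  · intro s hs t ht hst e he h
    obtain ⟨s, -, rfl⟩ := Finset.mem_image.1 hs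
    obtain ⟨t, -, rfl⟩ := Finset.mem_image.1 ht
    obtain ⟨v, rfl⟩ := he
    rw [hconj, hconj] at h
    have h1 := htr_inj h
    have h2 : v = 0 := hS s.1 s.2 t.1 t.2 (fun h => hst (by rw [Subtype.ext h])) v h1
    rw [h2, htr_zero]

/-- The embedding of alternating groups. -/
theorem exists_alt_hom {α : Type v} {β : Type w} [Fintype α] [DecidableEq α] [Fintype β] [DecidableEq β] (e : α ↪ β) :
    ∃ f : alternatingGroup α →* alternatingGroup β, Function.Injective f := by
  classical
  let g : α ≃ {x : β // x ∈ Set.range e} := Equiv.ofInjective e e.injective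
  let f0 : Perm α →* Perm β := Equiv.Perm.extendDomainHom g
  have hf0 : Function.Injective f0 := Equiv.Perm.extendDomainHom_injective g
  refine ⟨(f0.comp (alternatingGroup α).subtype).codRestrict _ ?_, ?_⟩
  · intro x
    change Equiv.Perm.extendDomain (x : Perm α) g ∈ alternatingGroup β
    rw [Equiv.Perm.mem_alternatingGroup, Equiv.Perm.sign_extendDomain]
    exact Equiv.Perm.mem_alternatingGroup.1 x.2
  · intro x y hxy
    have h1 := congrArg Subtype.val hxy
    exact Subtype.ext (hf0 h1)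

/-- `{±1} → S_2` -/
def sgn2 : ℤˣ →* Perm (Fin 2) where
  toFun u := if u = 1 then 1 else Equiv.swap 0 1
  map_one' := by simp
  map_mul' := by decide

theorem sign_sgn2 : ∀ u : ℤˣ, Perm.sign (sgn2 u) = u := by decide

/-- The embedding of `S_α` in `A_β`, `|α| + 2 ≤ |β|`. -/
theorem exists_perm_hom {α : Type v} {β : Type w} [Fintype α] [DecidableEq α] [Fintype β] [DecidableEq β]
    (h : Fintype.card α + 2 ≤ Fintype.card β) :
    ∃ f : Perm α →* alternatingGroup β, Function.Injective f := by
  classical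
  obtain ⟨e⟩ : Nonempty (α ⊕ Fin 2 ↪ β) := by
    apply Function.Embedding.nonempty_of_card_le
    rw [Fintype.card_sum, Fintype.card_fin]
    exact h
  obtain ⟨g, hg⟩ := exists_alt_hom e
  let f1 : Perm α →* Perm (α ⊕ Fin 2) :=
    (Equiv.Perm.sumCongrHom α (Fin 2)).comp ((MonoidHom.id _).prod (sgn2.comp Perm.sign))
  have hf1 : ∀ σ : Perm α, f1 σ = Equiv.Perm.sumCongr σ (sgn2 (Perm.sign σ)) := fun σ => rfl
  let f2 : Perm α →* alternatingGroup (α ⊕ Fin 2) := f1.codRestrict _ (by
    intro σ
    rw [Equiv.Perm.mem_alternatingGroup, hf1, Equiv.Perm.sign_sumCongr, sign_sgn2]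
    exact Int.units_mul_self _)
  refine ⟨g.comp f2, hg.comp ?_⟩
  intro σ τ hst
  have h1 : f1 σ = f1 τ := congrArg Subtype.val hst
  ext x
  have h2 := congrArg (fun p : Perm (α ⊕ Fin 2) => p (Sum.inl x)) h1
  simp only [hf1, Equiv.Perm.sumCongr_apply, Sum.map_inl] at h2
  exact Sum.inl.inj h2

theorem card_image_units (p : ℕ) [Fact p.Prime] : ∃ S : Finset (ZMod p ≃+ ZMod p), S.card = p - 1 ∧
    ∀ s ∈ S, ∀ t ∈ S, s ≠ t → ∀ v, s v = t v → v = 0 := by
  classical
  let f : (ZMod p)ˣ → (ZMod p ≃+ ZMod p) := fun u =>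
    { toFun := fun x => u * x
      invFun := fun x => (↑u⁻¹ : ZMod p) * x
      left_inv := fun x => Units.inv_mul_cancel_left u x
      right_inv := fun x => Units.mul_inv_cancel_left u x
      map_add' := fun x y => mul_add _ _ _ }
  have hf : ∀ u x, f u x = (u : ZMod p) * x := fun u x => rfl
  have hinj : Function.Injective f := by
    intro u v h
    have h1 := congrArg (fun g : ZMod p ≃+ ZMod p => g 1) h
    simp only [hf, mul_one] at h1
    exact Units.ext h1
  refine ⟨Finset.univ.image f, ?_, ?_⟩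
  · rw [Finset.card_image_of_injective _ hinj, Finset.card_univ, ZMod.card_units]
  · intro s hs t ht hst v hv
    obtain ⟨a, -, rfl⟩ := Finset.mem_image.1 hs
    obtain ⟨b, -, rfl⟩ := Finset.mem_image.1 ht
    rw [hf, hf, ← sub_eq_zero, ← sub_mul, mul_eq_zero, sub_eq_zero] at hv
    rcases hv with h | h
    · exact absurd (by rw [Units.ext h]) hst
    · exact h

/-- Symmetric groups: `p:(p-1)`. -/
theorem bd_perm_prime {p : ℕ} (hp : p.Prime) (hpF : (p : F) ≠ 0) : Bd F p (p - 1) (Perm (ZMod p)) := by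
  have : Fact p.Prime := ⟨hp⟩
  obtain ⟨S, hSc, hS⟩ := card_image_units p
  have h1 := bd_affine (F := F) (V := ZMod p) hp hpF (fun v => by rw [nsmul_eq_mul, ZMod.natCast_self, zero_mul]) S hS ⊤
    (fun _ => Subgroup.mem_top _) (fun _ _ => Subgroup.mem_top _)
  rw [hSc] at h1
  exact h1.of_sub (⊤ : Subgroup (Perm (ZMod p))).subtype (Subgroup.subtype_injective _)

/-- Alternating groups: `p:(p-1)`. -/
theorem bd_alt_prime {p : ℕ} (hp : p.Prime) (hpF : (p : F) ≠ 0) {n : ℕ} (hn : p + 2 ≤ n) :
    Bd F p (p - 1) (alternatingGroup (Fin n)) := by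
  have : Fact p.Prime := ⟨hp⟩
  obtain ⟨f, hf⟩ := exists_perm_hom (α := ZMod p) (β := Fin n) (by rw [ZMod.card, Fintype.card_fin]; exact hn)
  exact (bd_perm_prime hp hpF).of_sub f hf

/-! ### `2^3:7` -/

/-- the additive group of order 8 -/
abbrev V8 := ZMod 2 × ZMod 2 × ZMod 2

/-- multiplication by a primitive element of the field of order 8 -/
def a8 : V8 ≃+ V8 where
  toFun x := (x.2.2, x.1 + x.2.2, x.2.1)
  invFun x := (x.2.1 + x.1, x.2.2, x.1)
  left_inv := by decide
  right_inv := by decide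
  map_add' := by decide

/-- the powers -/
def pw8 : ℕ → (V8 ≃+ V8)
  | 0 => AddEquiv.refl _
  | n + 1 => (pw8 n).trans a8

/-- the powers -/
def p8 (i : Fin 7) : V8 ≃+ V8 := pw8 i

theorem p8_free : ∀ i j : Fin 7, i ≠ j → ∀ v, p8 i v = p8 j v → v = 0 := by decide +kernel

theorem bd_alt_V8 (h2 : (2 : F) ≠ 0) : Bd F 2 7 (alternatingGroup V8) := by
  classical
  have hinj : Function.Injective p8 := by
    intro i j h
    by_contra hne
    have := p8_free i j hne (1, 0, 0) (by rw [h])
    exact absurd this (by decide)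
  have ha : Perm.sign (a8 : V8 ≃+ V8).toEquiv = 1 := by
    have h1 : ((a8 : V8 ≃+ V8).toEquiv : Perm V8) ^ 7 = 1 := by decide +kernel
    have h2 := congrArg Perm.sign h1
    rw [map_pow, map_one] at h2
    rcases Int.units_eq_one_or (Perm.sign (a8 : V8 ≃+ V8).toEquiv) with h | h
    · exact h
    · rw [h] at h2; exact absurd h2 (by decide)
  have hpow' : ∀ i : ℕ, (pw8 i).toEquiv = ((a8 : V8 ≃+ V8).toEquiv : Perm V8) ^ i := by
    intro i
    induction i with
    | zero => rfl
    | succ i ih =>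
      rw [pow_succ', ← ih]
      rfl
  have hpow : ∀ i : Fin 7, (p8 i).toEquiv = ((a8 : V8 ≃+ V8).toEquiv : Perm V8) ^ (i : ℕ) := fun i => hpow' i
  have h1 := bd_affine (F := F) (V := V8) Nat.prime_two (by exact_mod_cast h2) (by decide) (Finset.univ.image p8)
    (by
      intro s hs t ht hst v hv
      obtain ⟨i, -, rfl⟩ := Finset.mem_image.1 hs
      obtain ⟨j, -, rfl⟩ := Finset.mem_image.1 ht
      exact p8_free i j (fun h => hst (by rw [h])) v hv) (alternatingGroup V8)
    (by
      intro v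
      obtain ⟨u, hu⟩ : ∃ u : V8, a8 u - u = v := by
        revert v; decide +kernel
      have h3 : (Equiv.addRight v : Perm V8) = (a8 : V8 ≃+ V8).toEquiv * Equiv.addRight u *
          ((a8 : V8 ≃+ V8).toEquiv : Perm V8)⁻¹ * (Equiv.addRight u : Perm V8)⁻¹ := by
        rw [eq_mul_inv_iff_mul_eq, eq_mul_inv_iff_mul_eq]
        apply Equiv.ext
        intro x
        change (a8 x + u) + v = a8 (x + u)
        rw [map_add, ← hu]
        abel
      rw [h3, Equiv.Perm.mem_alternatingGroup, map_mul, map_mul, map_mul, map_inv, map_inv,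
        mul_comm (Perm.sign _) (Perm.sign (Equiv.addRight u)), mul_inv_cancel_right, mul_inv_cancel])
    (by
      intro s hs
      obtain ⟨i, -, rfl⟩ := Finset.mem_image.1 hs
      rw [hpow, Equiv.Perm.mem_alternatingGroup, map_pow, ha, one_pow])
  rwa [Finset.card_image_of_injective _ hinj, Finset.card_univ, Fintype.card_fin] at h1

/-- `2^3:7` in `A_n`, `n ≥ 8`. -/
theorem bd_alt_two (h2 : (2 : F) ≠ 0) {n : ℕ} (hn : 8 ≤ n) : Bd F 2 7 (alternatingGroup (Fin n)) := by
  classical
  obtain ⟨e⟩ : Nonempty (V8 ↪ Fin n) := by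
    apply Function.Embedding.nonempty_of_card_le
    have : Fintype.card V8 = 8 := by decide
    rw [this, Fintype.card_fin]
    exact hn
  obtain ⟨f, hf⟩ := exists_alt_hom e
  exact (bd_alt_V8 h2).of_sub f hf

/-! ### `3^2:Q_8` -/

/-- the additive group of order 9 -/
abbrev V9 := ZMod 3 × ZMod 3

/-- the elements of the quaternion group in `SL_2(3)` -/
def m9 (i : Fin 8) : (ZMod 3 × ZMod 3) × (ZMod 3 × ZMod 3) :=
  ![((1, 0), (0, 1)), ((2, 0), (0, 2)), ((0, 2), (1, 0)), ((0, 1), (2, 0)), ((1, 1), (1, 2)), ((2, 2), (2, 1)),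
    ((2, 1), (1, 1)), ((1, 2), (2, 2))] i

/-- the elements of the quaternion group as additive automorphisms -/
def q9 (i : Fin 8) : V9 ≃+ V9 where
  toFun x := ((m9 i).1.1 * x.1 + (m9 i).1.2 * x.2, (m9 i).2.1 * x.1 + (m9 i).2.2 * x.2)
  invFun x := ((m9 i).2.2 * x.1 - (m9 i).1.2 * x.2, - (m9 i).2.1 * x.1 + (m9 i).1.1 * x.2)
  left_inv := by revert i; decide +kernel
  right_inv := by revert i; decide +kernel
  map_add' := by revert i; decide +kernel

theorem q9_free : ∀ i j : Fin 8, i ≠ j → ∀ v, q9 i v = q9 j v → v = 0 := by decide +kernel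

theorem bd_alt_V9 (h3 : (3 : F) ≠ 0) : Bd F 3 8 (alternatingGroup V9) := by
  classical
  have hinj : Function.Injective q9 := by
    intro i j h
    by_contra hne
    have := q9_free i j hne (1, 0) (by rw [h])
    exact absurd this (by decide)
  have hodd : ∀ x : Perm V9, x ^ 3 = 1 → Perm.sign x = 1 := by
    intro x hx
    have h2 := congrArg Perm.sign hx
    rw [map_pow, map_one] at h2
    rcases Int.units_eq_one_or (Perm.sign x) with h | h
    · exact h
    · rw [h] at h2; exact absurd h2 (by decide)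
  have hsign : ∀ i : Fin 8, Perm.sign (q9 i).toEquiv = 1 := by decide +kernel
  have h1 := bd_affine (F := F) (V := V9) Nat.prime_three (by exact_mod_cast h3) (by decide) (Finset.univ.image q9)
    (by
      intro s hs t ht hst v hv
      obtain ⟨i, -, rfl⟩ := Finset.mem_image.1 hs
      obtain ⟨j, -, rfl⟩ := Finset.mem_image.1 ht
      exact q9_free i j (fun h => hst (by rw [h])) v hv) (alternatingGroup V9)
    (by
      intro v
      rw [Equiv.Perm.mem_alternatingGroup]
      apply hodd
      revert v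
      decide +kernel)
    (by
      intro s hs
      obtain ⟨i, -, rfl⟩ := Finset.mem_image.1 hs
      rw [Equiv.Perm.mem_alternatingGroup, hsign])
  rwa [Finset.card_image_of_injective _ hinj, Finset.card_univ, Fintype.card_fin] at h1

/-- `3^2:Q_8` in `A_n`, `n ≥ 9`. -/
theorem bd_alt_three (h3 : (3 : F) ≠ 0) {n : ℕ} (hn : 9 ≤ n) : Bd F 3 8 (alternatingGroup (Fin n)) := by
  classical
  obtain ⟨e⟩ : Nonempty (V9 ↪ Fin n) := by
    apply Function.Embedding.nonempty_of_card_le
    have : Fintype.card V9 = 9 := by decide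
    rw [this, Fintype.card_fin]
    exact hn
  obtain ⟨f, hf⟩ := exists_alt_hom e
  exact (bd_alt_V9 h3).of_sub f hf

end Cfsg.Agent.H912.Bd
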