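import Cfsg.Agent.H912.BdOrth
import Cfsg.Agent.H175.BdSU
import Cfsg.Agent.H175.BdSp
import Cfsg.Agent.H203.BdSL2
import Cfsg.Prelude.Def_LieTypeChar

/-!
# Classical groups in cross characteristic with a projective representation of degree at most 12

`ClSmall n T` is the list; `cross_classical` : `T` classical in characteristic `r ≠ char F`, `PR F n r T`, `n ≤ 12` ⟹
`ClSmall n T`.
-/

set_option autoImplicit false

universe u v w

namespace Cfsg.Agent.H912.Bd

/-- `PSL_m(q)` -/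
def IsL (m q : ℕ) (T : Type v) [Group T] : Prop :=
  ∃ (K : Type) (_ : Field K) (_ : Fintype K), Fintype.card K = q ∧
    Nonempty (T ≃* Matrix.ProjectiveSpecialLinearGroup (Fin m) K)

/-- `PSU_m(q)` -/
def IsU (m q : ℕ) (T : Type v) [Group T] : Prop :=
  ∃ (K : Type) (_ : Field K) (_ : Fintype K), Fintype.card K = q ^ 2 ∧ Nonempty (T ≃* Cfsg.PSU m K q)

/-- `PSp_2m(q)` -/
def IsS (m q : ℕ) (T : Type v) [Group T] : Prop :=
  ∃ (K : Type) (_ : Field K) (_ : Fintype K), Fintype.card K = q ∧ Nonempty (T ≃* Cfsg.PSp m K)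

/-- `PΩ⁺_2m(q)` -/
def IsOP (m q : ℕ) (T : Type v) [Group T] : Prop :=
  ∃ (K : Type) (_ : Field K) (_ : Fintype K), Fintype.card K = q ∧
    Nonempty (T ≃* Cfsg.POmega K (Cfsg.quadFormPlus m K))

/-- The classical groups `T` and degrees `n ≤ 12` allowed by the bounds in cross characteristic. -/
def ClSmall (n : ℕ) (T : Type v) [Group T] : Prop :=
  (∃ q, 4 ≤ q ∧ (q - 1) / Nat.gcd 2 (q - 1) ≤ n ∧ IsL 2 q T) ∨
  (3 ≤ n ∧ IsL 3 2 T) ∨ (8 ≤ n ∧ IsL 3 3 T) ∨ (7 ≤ n ∧ IsL 4 2 T) ∨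
  (6 ≤ n ∧ IsU 3 3 T) ∨ (12 ≤ n ∧ IsU 3 4 T) ∨ (4 ≤ n ∧ IsU 4 2 T) ∨ (8 ≤ n ∧ IsU 5 2 T) ∨
  (4 ≤ n ∧ IsS 2 3 T) ∨ (12 ≤ n ∧ IsS 2 5 T) ∨ (7 ≤ n ∧ IsS 3 2 T) ∨ (7 ≤ n ∧ IsOP 4 2 T)

variable {F : Type u} [Field F] {n r : ℕ} {T : Type v} [Group T]

theorem cross_psl (hr : r.Prime) (hrF : (r : F) ≠ 0) (h : PR F n r T) (hn : n ≤ 12) (hT : Cfsg.IsPSLChar r T) :
    ClSmall n T := by
  obtain ⟨K, _, _, _, m, hm, hm2, ⟨e⟩⟩ := hT
  have hq : 2 ≤ Fintype.card K := Fintype.one_lt_card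
  by_cases h2 : m = 2
  · subst h2
    left
    refine ⟨Fintype.card K, hm2 rfl, ?_, K, inferInstance, inferInstance, rfl, ⟨e⟩⟩
    refine H203.BdSL2.bd_of_sl2 hr rfl hrF (e.symm.toMonoidHom.comp (QuotientGroup.mk' _)) ?_ n h
    intro x hx
    have h1 : e.symm (QuotientGroup.mk' _ x) = 1 := hx
    rw [MulEquiv.map_eq_one_iff, QuotientGroup.mk'_apply, QuotientGroup.eq_one_iff] at h1
    exact h1
  · have hm3 : 3 ≤ m := by omega
    have hle : Fintype.card K ^ (m - 1) - 1 ≤ n := (bd_psl (F := F) hr hrF hm3 inferInstance).congr e n h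
    set q := Fintype.card K with hqdef
    have h4 : m ≤ 4 := by
      by_contra hcon
      have h1 : 2 ^ 4 ≤ q ^ (m - 1) := (Nat.pow_le_pow_left hq 4).trans (Nat.pow_le_pow_right (by omega) (by omega))
      omega
    have h5 : m = 3 ∨ m = 4 := by omega
    rcases h5 with rfl | rfl
    · have h6 : q ≤ 3 := by
        by_contra hcon
        have h1 : 4 ^ 2 ≤ q ^ (3 - 1) := Nat.pow_le_pow_left (by omega) 2
        omega
      have h7 : q = 2 ∨ q = 3 := by omega
      rcases h7 with h7 | h7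
      · right; left
        rw [h7] at hle
        exact ⟨by simpa using hle, K, inferInstance, inferInstance, h7, ⟨e⟩⟩
      · right; right; left
        rw [h7] at hle
        exact ⟨by simpa using hle, K, inferInstance, inferInstance, h7, ⟨e⟩⟩
    · have h6 : q ≤ 2 := by
        by_contra hcon
        have h1 : 3 ^ 3 ≤ q ^ (4 - 1) := Nat.pow_le_pow_left (by omega) 3
        omega
      have h7 : q = 2 := by omega
      right; right; right; left
      rw [h7] at hle
      exact ⟨by simpa using hle, K, inferInstance, inferInstance, h7, ⟨e⟩⟩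

theorem cross_psu (hr : r.Prime) (hrF : (r : F) ≠ 0) (h : PR F n r T) (hn : n ≤ 12) (hT : Cfsg.IsPSUChar r T) :
    ClSmall n T := by
  obtain ⟨K, _, _, _, m, q, hq, hm, hmq, ⟨e⟩⟩ := hT
  have hq2 : 2 ≤ q := by
    have h1 : 1 < Fintype.card K := Fintype.one_lt_card
    rw [hq] at h1
    by_contra hcon
    interval_cases q <;> simp at h1
  have hle : (q - 1) * q ^ (m - 2) ≤ n := H175.BdSU.bd_psu (F := F) hr hq hm hrF e n h
  have hK : IsU m q T := ⟨K, inferInstance, inferInstance, hq, ⟨e⟩⟩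
  have h5 : m ≤ 5 := by
    by_contra hcon
    have h1 : 2 ^ 4 ≤ q ^ (m - 2) := (Nat.pow_le_pow_left hq2 4).trans (Nat.pow_le_pow_right (by omega) (by omega))
    have h2 : 1 * 2 ^ 4 ≤ (q - 1) * q ^ (m - 2) := Nat.mul_le_mul (by omega) h1
    omega
  have hqle : q ≤ 4 := by
    by_contra hcon
    have h1 : 5 ^ 1 ≤ q ^ (m - 2) := (Nat.pow_le_pow_left (by omega) 1).trans (Nat.pow_le_pow_right (by omega) (by omega))
    have h2 : 4 * 5 ^ 1 ≤ (q - 1) * q ^ (m - 2) := Nat.mul_le_mul (by omega) h1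
    omega
  unfold ClSmall
  interval_cases m <;> interval_cases q <;> simp at hle hmq <;>
    first
    | (exfalso; omega)
    | (have hh := hK; simp only [hh, and_true]; omega)

theorem cross_psp (hr : r.Prime) (hrF : (r : F) ≠ 0) (h : PR F n r T) (hn : n ≤ 12) (hT : Cfsg.IsPSpChar r T) :
    ClSmall n T := by
  obtain ⟨K, _, _, _, m, hm, hm2, ⟨e⟩⟩ := hT
  have hq2 : 2 ≤ Fintype.card K := Fintype.one_lt_card
  have hK : IsS m (Fintype.card K) T := ⟨K, inferInstance, inferInstance, rfl, ⟨e⟩⟩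
  have hle : (Fintype.card K ^ m - 1) / 2 ≤ n := H175.BdSp.bd_psp (F := F) hr rfl (by omega) hrF e n h
  have hle2 : r = 2 → Fintype.card K ^ m - 1 ≤ n := by
    rintro rfl
    exact H175.BdSp.bd_psp_even (F := F) rfl (by omega) (by exact_mod_cast hrF) e n h
  have hpow : ∃ k, 0 < k ∧ Fintype.card K = r ^ k := by
    have : Fact r.Prime := ⟨hr⟩
    obtain ⟨k, -, hk⟩ := FiniteField.card K r
    exact ⟨k, k.pos, hk⟩
  set q := Fintype.card K with hqdef
  have h4 : m ≤ 4 := by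
    by_contra hcon
    have h1 : 2 ^ 5 ≤ q ^ m := (Nat.pow_le_pow_left hq2 5).trans (Nat.pow_le_pow_right (by omega) (by omega))
    omega
  have hqle : q ≤ 5 := by
    by_contra hcon
    have h1 : 6 ^ 2 ≤ q ^ m := (Nat.pow_le_pow_left (by omega) 2).trans (Nat.pow_le_pow_right (by omega) (by omega))
    omega
  obtain ⟨k, hk0, hk⟩ := hpow
  have heven : q = 2 ∨ q = 4 → r = 2 := by
    intro h
    have h1 : r ∣ q := by rw [hk]; exact dvd_pow_self r hk0.ne'
    have h2 : r ∣ 2 := by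
      rcases h with h | h
      · rwa [h] at h1
      · rw [h] at h1
        exact hr.dvd_of_dvd_pow (show r ∣ 2 ^ 2 from h1)
    exact (Nat.prime_dvd_prime_iff_eq hr Nat.prime_two).1 h2
  unfold ClSmall
  clear_value q
  clear hk hqdef
  interval_cases m <;> interval_cases q <;>
    first
    | (exfalso; have := hm2 rfl; omega)
    | (exfalso; norm_num at hle; omega)
    | (exfalso; have h9 := hle2 (heven (Or.inl rfl)); norm_num at h9; omega)
    | (exfalso; have h9 := hle2 (heven (Or.inr rfl)); norm_num at h9; omega)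
    | (have h9 := hle2 (heven (Or.inl rfl)); norm_num at h9; have hh := hK; simp only [hh, and_true]; omega)
    | (norm_num at hle; have hh := hK; simp only [hh, and_true]; omega)

theorem cross_orth (hr : r.Prime) (hrF : (r : F) ≠ 0) (h : PR F n r T) (hn : n ≤ 12)
    (hT : Cfsg.IsPOmegaOddChar r T ∨ Cfsg.IsPOmegaPlusChar r T ∨ Cfsg.IsPOmegaMinusChar r T) : ClSmall n T := by
  rcases hT with ⟨K, _, _, hc, m, hm, ho, ⟨e⟩⟩ | ⟨K, _, _, hc, m, hm, ⟨e⟩⟩ | ⟨K, _, _, hc, m, a, b, hm, hab, ⟨e⟩⟩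
  · have := (bd_pomega_odd (F := F) hr hrF hc hm ho).congr e n h
    omega
  · by_cases h4 : m = 4 ∧ Fintype.card K = 2
    · obtain ⟨rfl, h2⟩ := h4
      have := (bd_pomega_plus_eight (F := F) hr hrF hc hm).congr e n h
      unfold ClSmall
      have hK : IsOP 4 2 T := ⟨K, inferInstance, inferInstance, h2, ⟨e⟩⟩
      simp only [hK, and_true]
      omega
    · have := (bd_pomega_plus (F := F) hr hrF hc hm h4).congr e n h
      omega
  · have := (bd_pomega_minus (F := F) hr hrF hc hm a b hab).congr e n h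
    omega

/-- **Classical groups in cross characteristic, degree at most 12.** -/
theorem cross_classical (hr : r.Prime) (hrF : (r : F) ≠ 0) (h : PR F n r T) (hn : n ≤ 12)
    (hT : Cfsg.IsPSLChar r T ∨ Cfsg.IsPSpChar r T ∨ Cfsg.IsPSUChar r T ∨ Cfsg.IsPOmegaOddChar r T ∨
      Cfsg.IsPOmegaPlusChar r T ∨ Cfsg.IsPOmegaMinusChar r T) : ClSmall n T := by
  rcases hT with hT | hT | hT | hT | hT | hT
  · exact cross_psl hr hrF h hn hT
  · exact cross_psp hr hrF h hn hT
  · exact cross_psu hr hrF h hn hT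
  · exact cross_orth hr hrF h hn (Or.inl hT)
  · exact cross_orth hr hrF h hn (Or.inr (Or.inl hT))
  · exact cross_orth hr hrF h hn (Or.inr (Or.inr hT))

end Cfsg.Agent.H912.Bd
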