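import Cfsg.Prelude.Def_GeometricClasses

/-!
Clifford theory for subalgebras of the matrix algebra normalised by an irreducible linear group.
-/

set_option autoImplicit false

namespace Cfsg.Agent.H912
open Cfsg Cfsg.Geo Matrix

variable {ι : Type} [Fintype ι] [DecidableEq ι] {F : Type*} [Field F]

instance instFiniteDimSub (A : Subalgebra F (Matrix ι ι F)) : Module.Finite A (ι → F) :=
  Module.Finite.of_restrictScalars_finite F A (ι → F)

instance instNoethSub (A : Subalgebra F (Matrix ι ι F)) : IsNoetherian A (ι → F) :=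
  isNoetherian_of_tower F inferInstance

instance instArtSub (A : Subalgebra F (Matrix ι ι F)) : IsArtinian A (ι → F) :=
  isArtinian_of_tower F inferInstance

instance instFiniteSubAlg (A : Subalgebra F (Matrix ι ι F)) : Module.Finite F A :=
  FiniteDimensional.finiteDimensional_subalgebra A

instance instArtRingSub (A : Subalgebra F (Matrix ι ι F)) : IsArtinianRing A :=
  isArtinian_of_tower F inferInstance

/-- The subgroup `H` of `GL` normalises the subalgebra `A` of the matrix algebra. -/
def NormAlg (H : Subgroup (GL ι F)) (A : Subalgebra F (Matrix ι ι F)) : Prop :=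
  ∀ h ∈ H, ∀ a ∈ A, (h : Matrix ι ι F) * a * ((h⁻¹ : GL ι F) : Matrix ι ι F) ∈ A

/-- The subgroup `H` normalises the subgroup `N`. -/
def NormGrp (H N : Subgroup (GL ι F)) : Prop := ∀ h ∈ H, ∀ x ∈ N, h * x * h⁻¹ ∈ N

/-- The enveloping algebra of a linear group. -/
def env (N : Subgroup (GL ι F)) : Subalgebra F (Matrix ι ι F) := Algebra.adjoin F (matrixSet N)

theorem mem_env {N : Subgroup (GL ι F)} {g : GL ι F} (hg : g ∈ N) : (g : Matrix ι ι F) ∈ env N :=
  Algebra.subset_adjoin ⟨g, hg, rfl⟩

/-- conjugation by an invertible matrix as an algebra automorphism -/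
def conjAlg (h : GL ι F) : Matrix ι ι F ≃ₐ[F] Matrix ι ι F :=
  AlgEquiv.ofAlgHom
    { toFun := fun a => (h : Matrix ι ι F) * a * ((h⁻¹ : GL ι F) : Matrix ι ι F)
      map_one' := by rw [mul_one, ← Units.val_mul, mul_inv_cancel, Units.val_one]
      map_mul' := fun a b => by
        calc (h : Matrix ι ι F) * (a * b) * ((h⁻¹ : GL ι F) : Matrix ι ι F)
            = (h : Matrix ι ι F) * a * 1 * b * ((h⁻¹ : GL ι F) : Matrix ι ι F) := by
              simp only [mul_one, mul_assoc]
          _ = (h : Matrix ι ι F) * a * (((h⁻¹ : GL ι F) : Matrix ι ι F) * (h : Matrix ι ι F)) * b *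
                ((h⁻¹ : GL ι F) : Matrix ι ι F) := by
              rw [← Units.val_mul, inv_mul_cancel, Units.val_one]
          _ = _ := by simp only [mul_assoc]
      map_zero' := by simp
      map_add' := fun a b => by rw [mul_add, add_mul]
      commutes' := fun r => by
        rw [Algebra.algebraMap_eq_smul_one, Matrix.mul_smul, Matrix.smul_mul, mul_one,
          ← Units.val_mul, mul_inv_cancel, Units.val_one] }
    { toFun := fun a => ((h⁻¹ : GL ι F) : Matrix ι ι F) * a * (h : Matrix ι ι F)
      map_one' := by rw [mul_one, ← Units.val_mul, inv_mul_cancel, Units.val_one]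
      map_mul' := fun a b => by
        calc ((h⁻¹ : GL ι F) : Matrix ι ι F) * (a * b) * (h : Matrix ι ι F)
            = ((h⁻¹ : GL ι F) : Matrix ι ι F) * a * 1 * b * (h : Matrix ι ι F) := by
              simp only [mul_one, mul_assoc]
          _ = ((h⁻¹ : GL ι F) : Matrix ι ι F) * a * ((h : Matrix ι ι F) * ((h⁻¹ : GL ι F) : Matrix ι ι F)) * b *
                (h : Matrix ι ι F) := by
              rw [← Units.val_mul, mul_inv_cancel, Units.val_one]
          _ = _ := by simp only [mul_assoc]
      map_zero' := by simp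
      map_add' := fun a b => by rw [mul_add, add_mul]
      commutes' := fun r => by
        rw [Algebra.algebraMap_eq_smul_one, Matrix.mul_smul, Matrix.smul_mul, mul_one,
          ← Units.val_mul, inv_mul_cancel, Units.val_one] }
    (by
      ext1 a
      change (h : Matrix ι ι F) * (((h⁻¹ : GL ι F) : Matrix ι ι F) * a * (h : Matrix ι ι F)) *
        ((h⁻¹ : GL ι F) : Matrix ι ι F) = a
      rw [← mul_assoc, ← mul_assoc, ← Units.val_mul, mul_inv_cancel, Units.val_one, one_mul,
        mul_assoc, ← Units.val_mul, mul_inv_cancel, Units.val_one, mul_one])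
    (by
      ext1 a
      change ((h⁻¹ : GL ι F) : Matrix ι ι F) * ((h : Matrix ι ι F) * a * ((h⁻¹ : GL ι F) : Matrix ι ι F)) *
        (h : Matrix ι ι F) = a
      rw [← mul_assoc, ← mul_assoc, ← Units.val_mul, inv_mul_cancel, Units.val_one, one_mul,
        mul_assoc, ← Units.val_mul, inv_mul_cancel, Units.val_one, mul_one])

theorem conjAlg_apply (h : GL ι F) (a : Matrix ι ι F) :
    conjAlg h a = (h : Matrix ι ι F) * a * ((h⁻¹ : GL ι F) : Matrix ι ι F) := rfl

theorem NormGrp.normAlg {H N : Subgroup (GL ι F)} (hN : NormGrp H N) : NormAlg H (env N) := by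
  intro h hh a ha
  have h1 : (env N).map (conjAlg h : Matrix ι ι F →ₐ[F] Matrix ι ι F) ≤ env N := by
    unfold env
    rw [AlgHom.map_adjoin]
    apply Algebra.adjoin_mono
    rintro _ ⟨_, ⟨g, hg, rfl⟩, rfl⟩
    refine ⟨h * g * h⁻¹, hN h hh g hg, ?_⟩
    simp [conjAlg_apply]
  exact h1 ⟨a, ha, rfl⟩

theorem NormAlg.inv_mem {H : Subgroup (GL ι F)} {A : Subalgebra F (Matrix ι ι F)} (hA : NormAlg H A)
    {h : GL ι F} (hh : h ∈ H) {a : Matrix ι ι F} (ha : a ∈ A) :
    ((h⁻¹ : GL ι F) : Matrix ι ι F) * a * (h : Matrix ι ι F) ∈ A := by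
  have := hA h⁻¹ (H.inv_mem hh) a ha
  rwa [inv_inv] at this

theorem NormAlg.le_normalizer {H : Subgroup (GL ι F)} {A : Subalgebra F (Matrix ι ι F)}
    (hA : NormAlg H A) : H ≤ subalgebraNormalizer A := by
  intro h hh k
  refine ⟨fun hk => hA h hh k hk, fun hk => ?_⟩
  have := hA.inv_mem hh hk
  rw [← mul_assoc, ← mul_assoc, ← Units.val_mul, inv_mul_cancel, Units.val_one, one_mul,
        mul_assoc, ← Units.val_mul, inv_mul_cancel, Units.val_one, mul_one] at this
  exact this

/-- The translate of an `A`-submodule of `F^ι` by an element normalising `A`. -/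
def translate {A : Subalgebra F (Matrix ι ι F)} (h : GL ι F)
    (hA : ∀ a ∈ A, ((h⁻¹ : GL ι F) : Matrix ι ι F) * a * (h : Matrix ι ι F) ∈ A)
    (S : Submodule A (ι → F)) : Submodule A (ι → F) where
  carrier := {v | ((h⁻¹ : GL ι F) : Matrix ι ι F) *ᵥ v ∈ S}
  add_mem' {v w} hv hw := by
    change _ *ᵥ (v + w) ∈ S
    rw [mulVec_add]
    exact S.add_mem hv hw
  zero_mem' := by
    change _ *ᵥ (0 : ι → F) ∈ S
    rw [mulVec_zero]
    exact S.zero_mem
  smul_mem' a v hv := by
    change ((h⁻¹ : GL ι F) : Matrix ι ι F) *ᵥ ((a : Matrix ι ι F) *ᵥ v) ∈ S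
    have h1 : ((h⁻¹ : GL ι F) : Matrix ι ι F) *ᵥ ((a : Matrix ι ι F) *ᵥ v) =
        (((h⁻¹ : GL ι F) : Matrix ι ι F) * (a : Matrix ι ι F) * (h : Matrix ι ι F)) *ᵥ (((h⁻¹ : GL ι F) : Matrix ι ι F) *ᵥ v) := by
      rw [mulVec_mulVec, mulVec_mulVec, mul_assoc _ (h : Matrix ι ι F), ← Units.val_mul, mul_inv_cancel,
        Units.val_one, mul_one]
    rw [h1]
    exact S.smul_mem ⟨_, hA a a.2⟩ hv

theorem mem_translate {A : Subalgebra F (Matrix ι ι F)} {h : GL ι F}
    {hA : ∀ a ∈ A, ((h⁻¹ : GL ι F) : Matrix ι ι F) * a * (h : Matrix ι ι F) ∈ A}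
    {S : Submodule A (ι → F)} {v : ι → F} :
    v ∈ translate h hA S ↔ ((h⁻¹ : GL ι F) : Matrix ι ι F) *ᵥ v ∈ S := Iff.rfl

/-- The order isomorphism of `A`-submodules given by an element of a group normalising `A`. -/
def translateIso {H : Subgroup (GL ι F)} {A : Subalgebra F (Matrix ι ι F)} (hA : NormAlg H A)
    (h : H) : Submodule A (ι → F) ≃o Submodule A (ι → F) where
  toFun S := translate (h : GL ι F) (fun _ ha => hA.inv_mem h.2 ha) S
  invFun S := translate (h : GL ι F)⁻¹ (fun a ha => by rw [inv_inv]; exact hA h h.2 a ha) S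
  left_inv S := by
    ext v
    rw [mem_translate, mem_translate, inv_inv, mulVec_mulVec, ← Units.val_mul, inv_mul_cancel,
      Units.val_one, one_mulVec]
  right_inv S := by
    ext v
    rw [mem_translate, mem_translate, inv_inv, mulVec_mulVec, ← Units.val_mul, mul_inv_cancel,
      Units.val_one, one_mulVec]
  map_rel_iff' {S T} := by
    constructor
    · intro hST v hv
      have h1 : ((h : GL ι F) : Matrix ι ι F) *ᵥ v ∈ translate (h : GL ι F) (fun _ ha => hA.inv_mem h.2 ha) S := by
        rw [mem_translate, mulVec_mulVec, ← Units.val_mul, inv_mul_cancel, Units.val_one, one_mulVec]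
        exact hv
      have h2 := hST h1
      change _ ∈ translate (h : GL ι F) (fun _ ha => hA.inv_mem h.2 ha) T at h2
      rw [mem_translate, mulVec_mulVec, ← Units.val_mul, inv_mul_cancel, Units.val_one, one_mulVec] at h2
      exact h2
    · intro hST v hv
      exact hST hv

theorem mem_translateIso {H : Subgroup (GL ι F)} {A : Subalgebra F (Matrix ι ι F)} {hA : NormAlg H A}
    {h : H} {S : Submodule A (ι → F)} {v : ι → F} :
    v ∈ translateIso hA h S ↔ (((h : GL ι F)⁻¹ : GL ι F) : Matrix ι ι F) *ᵥ v ∈ S := Iff.rfl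

/-- An `H`-invariant `A`-submodule of an irreducible `F H`-module is trivial. -/
theorem eq_bot_or_top_of_invariant {H : Subgroup (GL ι F)} (hirr : ActsIrreducibly (matrixSet H))
    {A : Subalgebra F (Matrix ι ι F)} (S : Submodule A (ι → F))
    (hS : ∀ h ∈ H, ∀ v ∈ S, (h : Matrix ι ι F) *ᵥ v ∈ S) : S = ⊥ ∨ S = ⊤ := by
  have h1 := hirr (S.restrictScalars F) (by
    rintro _ ⟨h, hh, rfl⟩
    rw [Submodule.map_le_iff_le_comap]
    intro v hv
    rw [Submodule.mem_comap, toLin'_apply]
    exact hS h hh v hv)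
  rcases h1 with h1 | h1
  · left
    rwa [Submodule.restrictScalars_eq_bot_iff] at h1
  · right
    rwa [Submodule.restrictScalars_eq_top_iff] at h1

/-- **Clifford's theorem**: a subalgebra normalised by an irreducible group acts semisimply. -/
theorem semisimple_of_norm {H : Subgroup (GL ι F)} (hirr : ActsIrreducibly (matrixSet H))
    {A : Subalgebra F (Matrix ι ι F)} (hA : NormAlg H A) : IsSemisimpleModule A (ι → F) := by
  rcases isEmpty_or_nonempty ι with he | hne
  · have : Subsingleton (ι → F) := inferInstance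
    infer_instance
  have : Nontrivial (ι → F) := inferInstance
  obtain ⟨S, hS⟩ := IsAtomic.exists_atom (Submodule A (ι → F))
  let T : Submodule A (ι → F) := ⨆ h : H, translateIso hA h S
  have hT : T = ⊤ := by
    refine (eq_bot_or_top_of_invariant hirr T ?_).resolve_left ?_
    · intro h hh v hv
      have hmul : ∀ g : H, (translateIso hA ⟨h, hh⟩ (translateIso hA g S)) =
          translateIso hA (⟨h, hh⟩ * g) S := by
        intro g
        ext v
        rw [mem_translateIso, mem_translateIso, mem_translateIso, mulVec_mulVec, ← Units.val_mul,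
          ← _root_.mul_inv_rev]
        rfl
      have hle : T ≤ (translateIso hA ⟨h, hh⟩).symm T := by
        rw [OrderIso.le_symm_apply, (translateIso hA ⟨h, hh⟩).map_iSup]
        refine iSup_le fun g => ?_
        rw [hmul]
        exact le_iSup (fun k : H => translateIso hA k S) _
      have h2 := hle hv
      change _ ∈ translate (h : GL ι F)⁻¹ (fun a ha => by rw [inv_inv]; exact hA h hh a ha) T at h2
      rw [mem_translate, inv_inv] at h2
      exact h2
    · intro hbot
      have h1 : translateIso hA 1 S ≤ T := le_iSup (fun k : H => translateIso hA k S) 1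
      rw [hbot, le_bot_iff] at h1
      exact ((translateIso hA 1).isAtom_iff S |>.mpr hS).1 h1
  refine isSemisimpleModule_of_isSemisimpleModule_submodule' (p := fun h : H => translateIso hA h S)
    (fun h => ?_) hT
  have : IsSimpleModule A (translateIso hA h S) := by
    rw [isSimpleModule_iff_isAtom]
    exact ((translateIso hA h).isAtom_iff S).mpr hS
  infer_instance

end Cfsg.Agent.H912
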