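import Cfsg.Agent.H912.FiveFinal
import Cfsg.Agent.H929.UThreeMain

/-!
# Row 5797, given the classification and the non-existence of `PSU_4` in degree five in its own characteristic
-/

set_option autoImplicit false
set_option linter.unusedSectionVars false

universe u v

namespace Cfsg.Agent.H912.Five

open Cfsg Cfsg.Geo Matrix Cfsg.Agent.H915.LD
open scoped MatrixGroups

variable {F : Type u} [Field F] [Fintype F] {H P : Subgroup (GL (Fin 5) F)}

/-- Row 5797. -/
theorem row5797 (hk : ∀ (T : Type u) [Group T] [Finite T] [IsSimpleGroup T], IsKnownSimple' T)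
    (h4 : ∀ (p : ℕ) [Fact p.Prime] [CharP F p] (P : Subgroup (GL (Fin 5) F)) (K : Type) [Field K] [Fintype K] [CharP K p]
      (r : ℕ), Core P → Fintype.card K = r ^ 2 → (Soc P ≃* PSU 4 K r) → False)
    (q : ℕ) (hF : Fintype.card F = q ^ 2)
    (hH : IsMaximalIn (GU 5 F q ⊓ specialLinear (Fin 5) F) H) (hS : InUnitaryResidualClass H) :
    ∃ P : Subgroup (GL (Fin 5) F), IsResidualCore H P ∧ q.Prime ∧
    ((Nonempty ((P ⧸ (scalars (Fin 5) F).subgroupOf P) ≃* ProjectiveSpecialLinearGroup (Fin 2) (ZMod 11)) ∧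
        (q % 11 = 2 ∨ q % 11 = 6 ∨ q % 11 = 7 ∨ q % 11 = 8 ∨ q % 11 = 10)) ∨
      (IsU42 (P ⧸ (scalars (Fin 5) F).subgroupOf P) ∧ q % 6 = 5)) := by
  obtain ⟨P, hc, hQ, hA⟩ := hS
  obtain ⟨p, hp, hFp⟩ := exists_char F
  have := Fact.mk hp
  have := hc.simple
  have hC := core_of_residual hc
  obtain ⟨h1, h2⟩ := five_unitary hF hH hc hQ hA p (list5 hc p (hk _)) (by
    intro K iK iKf iKp N r hK hN h32 e
    rcases hN with rfl | rfl
    · have hr : 3 ≤ r := by
        have h5 := H48.NatSU.two_le_of_sq hK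
        by_contra h6
        exact h32 ⟨rfl, by omega⟩
      rcases H929.U3.core_psu3 p hC hr hK e (by simp) with h | ⟨-, h | ⟨h, -⟩ | ⟨h, -⟩ | ⟨h, -⟩⟩
      · rcases H905.Md.quad_or_symp (by rw [Fintype.card_fin]; norm_num) hc.absIrred h with h3 | h3
        · exact hQ h3
        · exact hA h3
      · simp at h
      · simp at h
      · simp at h
      · simp at h
    · exact h4 p P K r hC hK e)
  subst h1
  exact ⟨P, hc, hp, h2⟩

end Cfsg.Agent.H912.Five
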