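import Cfsg.Agent.H912.Bd5

/-!
# Bounds through homomorphisms with central kernel

`f : X →* T` with kernel in the centre of `X` (e.g. `X = SL_n(q)`, `T = PSL_n(q)`); the configurations are given in `X`.
-/

set_option autoImplicit false
set_option linter.dupNamespace false

universe u v w

namespace Cfsg.Agent.H912.Bd

variable {F : Type u} [Field F] {r : ℕ} {T : Type v} [Group T] {X : Type w} [Group X]

/-- `bd_of_trans` through a homomorphism with central kernel. -/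
theorem bd_of_trans_hom (hr : r.Prime) (hrF : (r : F) ≠ 0) (f : X →* T) (hf : f.ker ≤ Subgroup.center X)
    (E : Subgroup X) [Finite E]
    (hE : ∀ a ∈ E, ∀ b ∈ E, a * b = b * a) (hEr : IsPGroup r E) (hE2 : 2 < Nat.card E) {e₀ : X} (he₀ : e₀ ∈ E)
    (he₀1 : e₀ ≠ 1)
    (htr : ∀ e ∈ E, e ≠ 1 → ∃ s : X, (∀ x ∈ E, s * x * s⁻¹ ∈ E) ∧ s * e * s⁻¹ = e₀) :
    Bd F r (Nat.card E - 1) T := by
  have hinj : ∀ e ∈ E, f e = 1 → e = 1 := by
    intro e he hfe
    by_contra h1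
    have hec : ∀ x, x * e = e * x := Subgroup.mem_center_iff.1 (hf hfe)
    obtain ⟨s, -, hs⟩ := htr e he h1
    have h2 : e = e₀ := by rw [← hs, hec s, mul_inv_cancel_right]
    have h3 : ∀ x ∈ E, x = 1 ∨ x = e := by
      intro x hx
      by_cases hx1 : x = 1
      · exact Or.inl hx1
      · right
        obtain ⟨t, -, ht⟩ := htr x hx hx1
        rw [← h2] at ht
        have h4 : x = t⁻¹ * e * t := by rw [← ht]; group
        rw [h4, hec t⁻¹, inv_mul_cancel_right]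
    have h5 : Nat.card E ≤ 2 := by
      classical
      have h6 : (E : Set X) ⊆ ({1, e} : Finset X) := by
        intro x hx
        rcases h3 x hx with rfl | rfl <;> simp
      have h7 := Set.ncard_le_ncard h6 (Finset.finite_toSet _)
      rw [Set.ncard_coe_finset] at h7
      exact (show Nat.card E = (E : Set X).ncard from rfl) ▸ (h7.trans Finset.card_le_two)
    omega
  have hinj2 : ∀ x ∈ E, ∀ y ∈ E, f x = f y → x = y := by
    intro x hx y hy h
    have := hinj (x * y⁻¹) (E.mul_mem hx (E.inv_mem hy)) (by rw [map_mul, map_inv, h, mul_inv_cancel])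
    exact mul_inv_eq_one.1 this
  have hcard : Nat.card (E.map f) = Nat.card E := by
    apply (Nat.card_congr (Equiv.ofBijective (fun x : E => (⟨f x, x, x.2, rfl⟩ : E.map f)) ⟨?_, ?_⟩)).symm
    · intro x y h
      exact Subtype.ext (hinj2 x x.2 y y.2 (congrArg Subtype.val h))
    · rintro ⟨_, x, hx, rfl⟩
      exact ⟨⟨x, hx⟩, rfl⟩
  have hfin : Finite (E.map f) := Nat.finite_of_card_ne_zero (by rw [hcard]; omega)
  rw [← hcard]
  refine bd_of_trans hr hrF (E.map f) ?_ (hEr.map f) ⟨e₀, he₀, rfl⟩ (fun h => he₀1 (hinj e₀ he₀ h)) ?_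
  · rintro _ ⟨x, hx, rfl⟩ _ ⟨y, hy, rfl⟩
    rw [← map_mul, ← map_mul, hE x hx y hy]
  · rintro _ ⟨e, he, rfl⟩ he1
    obtain ⟨s, hs, hse⟩ := htr e he (by rintro rfl; exact he1 (map_one f))
    refine ⟨f s, ?_, ?_⟩
    · rintro _ ⟨x, hx, rfl⟩
      exact ⟨s * x * s⁻¹, hs x hx, by rw [map_mul, map_mul, map_inv]⟩
    · rw [← map_inv, ← map_mul, ← map_mul, hse]

/-- `bd_of_free` through a homomorphism with central kernel. -/
theorem bd_of_free_hom (hr : r.Prime) (hrF : (r : F) ≠ 0) (f : X →* T) (hf : f.ker ≤ Subgroup.center X)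
    (E : Subgroup X) [Finite E]
    (hE : ∀ a ∈ E, ∀ b ∈ E, a * b = b * a) (hEr : IsPGroup r E) (hE1 : E ≠ ⊥) (S : Finset X) (hS2 : 2 ≤ S.card)
    (hS : ∀ s ∈ S, ∀ e ∈ E, s * e * s⁻¹ ∈ E)
    (hSf : ∀ s ∈ S, ∀ t ∈ S, s ≠ t → ∀ e ∈ E, s * e * s⁻¹ = t * e * t⁻¹ → e = 1) : Bd F r S.card T := by
  classical
  obtain ⟨s₀, hs₀, t₀, ht₀, hst₀⟩ := Finset.one_lt_card.1 hS2
  have hinj : ∀ e ∈ E, f e = 1 → e = 1 := by
    intro e he hfe
    have hec : ∀ x, x * e = e * x := Subgroup.mem_center_iff.1 (hf hfe)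
    refine hSf s₀ hs₀ t₀ ht₀ hst₀ e he ?_
    rw [hec, hec, mul_inv_cancel_right, mul_inv_cancel_right]
  have hinj2 : ∀ x ∈ E, ∀ y ∈ E, f x = f y → x = y := by
    intro x hx y hy h
    have := hinj (x * y⁻¹) (E.mul_mem hx (E.inv_mem hy)) (by rw [map_mul, map_inv, h, mul_inv_cancel])
    exact mul_inv_eq_one.1 this
  have hfin : Finite (E.map f) := by
    have : (E.map f : Set T) = f '' (E : Set X) := rfl
    exact (Set.Finite.image f (Set.toFinite (E : Set X))).to_subtype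
  have hSinj : Set.InjOn f (S : Set X) := by
    intro s hs t ht hst
    by_contra hne
    obtain ⟨x, hx⟩ := Subgroup.ne_bot_iff_exists_ne_one.1 hE1
    apply hx
    apply Subtype.ext
    refine hSf s hs t ht hne x x.2 ?_
    have h1 : t⁻¹ * s ∈ Subgroup.center X := hf (by
      rw [MonoidHom.mem_ker, map_mul, map_inv, hst, inv_mul_cancel])
    have h2 := Subgroup.mem_center_iff.1 h1 x
    have h3 : s = t * (t⁻¹ * s) := by group
    have h4 : s * x * s⁻¹ = t * ((t⁻¹ * s) * x) * s⁻¹ := by group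
    rw [h4, ← h2]
    group
  have key := bd_of_free (F := F) hr hrF (E.map f) ?_ (hEr.map f) ?_ (S.image f) ?_ ?_
  · rwa [Finset.card_image_of_injOn hSinj] at key
  · rintro _ ⟨x, hx, rfl⟩ _ ⟨y, hy, rfl⟩
    rw [← map_mul, ← map_mul, hE x hx y hy]
  · intro h0
    apply hE1
    rw [eq_bot_iff]
    intro x hx
    rw [Subgroup.mem_bot]
    apply hinj x hx
    have : f x ∈ E.map f := ⟨x, hx, rfl⟩
    rwa [h0, Subgroup.mem_bot] at this
  · rintro s' hs' _ ⟨x, hx, rfl⟩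
    obtain ⟨s, hs, rfl⟩ := Finset.mem_image.1 hs'
    exact ⟨s * x * s⁻¹, hS s hs x hx, by rw [map_mul, map_mul, map_inv]⟩
  · rintro s' hs' t' ht' hst _ ⟨x, hx, rfl⟩ h
    obtain ⟨s, hs, rfl⟩ := Finset.mem_image.1 hs'
    obtain ⟨t, ht, rfl⟩ := Finset.mem_image.1 ht'
    rw [← map_inv, ← map_inv, ← map_mul, ← map_mul, ← map_mul, ← map_mul] at h
    have h1 := hinj2 _ (hS s hs x hx) _ (hS t ht x hx) h
    rw [hSf s hs t ht (fun h => hst (by rw [h])) x hx h1, map_one]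

/-- `bd_of_free_ext` through a homomorphism with central kernel. -/
theorem bd_of_free_ext_hom (hr : r.Prime) (hrF : (r : F) ≠ 0) (f : X →* T) (hf : f.ker ≤ Subgroup.center X)
    (E : Subgroup X) [Finite E]
    (hE : ∀ a ∈ E, ∀ b ∈ E, a * b = b * a) (hEr : IsPGroup r E) (S : Finset X) (hS2 : 2 ≤ S.card)
    (hS : ∀ s ∈ S, ∀ e ∈ E, s * e * s⁻¹ ∈ E)
    (hSf : ∀ s ∈ S, ∀ t ∈ S, s ≠ t → ∀ e ∈ E, s * e * s⁻¹ = t * e * t⁻¹ → e = 1)
    {a b : X} (haE : ∀ e ∈ E, a * e = e * a) (hbE : ∀ e ∈ E, b * e = e * b) {k : ℕ} (hak : a ^ r ^ k = 1)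
    (hab : a * b * a⁻¹ * b⁻¹ ∈ E) (hab1 : a * b * a⁻¹ * b⁻¹ ≠ 1) (habr : (a * b * a⁻¹ * b⁻¹) ^ r = 1) :
    Bd F r (S.card * r) T := by
  classical
  obtain ⟨s₀, hs₀, t₀, ht₀, hst₀⟩ := Finset.one_lt_card.1 hS2
  have hinj : ∀ e ∈ E, f e = 1 → e = 1 := by
    intro e he hfe
    have hec : ∀ x, x * e = e * x := Subgroup.mem_center_iff.1 (hf hfe)
    refine hSf s₀ hs₀ t₀ ht₀ hst₀ e he ?_
    rw [hec, hec, mul_inv_cancel_right, mul_inv_cancel_right]
  have hinj2 : ∀ x ∈ E, ∀ y ∈ E, f x = f y → x = y := by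
    intro x hx y hy h
    have := hinj (x * y⁻¹) (E.mul_mem hx (E.inv_mem hy)) (by rw [map_mul, map_inv, h, mul_inv_cancel])
    exact mul_inv_eq_one.1 this
  have hfin : Finite (E.map f) := by
    exact (Set.Finite.image f (Set.toFinite (E : Set X))).to_subtype
  have hSinj : Set.InjOn f (S : Set X) := by
    intro s hs t ht hst
    by_contra hne
    apply hab1
    refine hSf s hs t ht hne _ hab ?_
    have h1 : t⁻¹ * s ∈ Subgroup.center X := hf (by
      rw [MonoidHom.mem_ker, map_mul, map_inv, hst, inv_mul_cancel])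
    have h2 := Subgroup.mem_center_iff.1 h1 (a * b * a⁻¹ * b⁻¹)
    have h4 : s * (a * b * a⁻¹ * b⁻¹) * s⁻¹ = t * ((t⁻¹ * s) * (a * b * a⁻¹ * b⁻¹)) * s⁻¹ := by group
    rw [h4, ← h2]
    group
  have hcomm : f a * f b * (f a)⁻¹ * (f b)⁻¹ = f (a * b * a⁻¹ * b⁻¹) := by simp only [map_mul, map_inv]
  have key := bd_of_free_ext (F := F) hr hrF (E.map f) ?_ (hEr.map f) (S.image f) ?_ ?_ (a := f a) (b := f b)
    ?_ ?_ (k := k) ?_ ?_ ?_ ?_
  · rwa [Finset.card_image_of_injOn hSinj] at key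
  · rintro _ ⟨x, hx, rfl⟩ _ ⟨y, hy, rfl⟩
    rw [← map_mul, ← map_mul, hE x hx y hy]
  · rintro s' hs' _ ⟨x, hx, rfl⟩
    obtain ⟨s, hs, rfl⟩ := Finset.mem_image.1 hs'
    exact ⟨s * x * s⁻¹, hS s hs x hx, by rw [map_mul, map_mul, map_inv]⟩
  · rintro s' hs' t' ht' hst _ ⟨x, hx, rfl⟩ h
    obtain ⟨s, hs, rfl⟩ := Finset.mem_image.1 hs'
    obtain ⟨t, ht, rfl⟩ := Finset.mem_image.1 ht'
    rw [← map_inv, ← map_inv, ← map_mul, ← map_mul, ← map_mul, ← map_mul] at h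
    have h1 := hinj2 _ (hS s hs x hx) _ (hS t ht x hx) h
    rw [hSf s hs t ht (fun h => hst (by rw [h])) x hx h1, map_one]
  · rintro _ ⟨x, hx, rfl⟩
    rw [← map_mul, ← map_mul, haE x hx]
  · rintro _ ⟨x, hx, rfl⟩
    rw [← map_mul, ← map_mul, hbE x hx]
  · rw [← map_pow, hak, map_one]
  · rw [hcomm]; exact ⟨_, hab, rfl⟩
  · rw [hcomm]; exact fun h => hab1 (hinj _ hab h)
  · rw [hcomm, ← map_pow, habr, map_one]

end Cfsg.Agent.H912.Bd
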