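import Cfsg.Agent.H912.ExcList
import Cfsg.Agent.H912.BdChev
import Cfsg.Agent.H936.F42Light

/-!
# The list in degree five: the exceptional groups in cross characteristic do not occur
-/

set_option autoImplicit false

universe u v

namespace Cfsg.Agent.H912.Five

open Cfsg Cfsg.Agent.H912.Bd

theorem five_list₁ {F : Type u} [Field F] [Finite F] {p : ℕ} [CharP F p] [hp : Fact p.Prime]
    (P : Subgroup (Matrix.GeneralLinearGroup (Fin 5) F)) (hP : ⁅P, P⁆ = P) {T : Type v} [Group T] (hk : IsKnownSimple' T)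
    (hT : ¬ IsMulCommutative T)
    (e : (P ⧸ (Cfsg.Geo.scalars (Fin 5) F).subgroupOf P) ≃* T) :
    Small5 p T ∨ IsLieTypeChar p T ∨ Lie.IsoTits T ∨ IsSporadicGroup T := by
  rcases five_list₀ (p := p) P hP hk hT e with h | h | ⟨r, hr, hrp, h, hPR⟩ | h | h
  · exact Or.inl h
  · exact Or.inr (Or.inl h)
  · exfalso
    have hrF : (r : F) ≠ 0 := by
      intro h0
      exact hrp ((Nat.prime_dvd_prime_iff_eq hp.out hr).1 ((CharP.cast_eq_zero_iff F p r).1 h0)).symm
    have : Nontrivial T := by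
      by_contra hcon
      rw [not_nontrivial_iff_subsingleton] at hcon
      exact hT ⟨⟨fun a b => Subsingleton.elim _ _⟩⟩
    rcases exc_cross hr hrF P hP e (by norm_num) h with ⟨-, h6, -⟩ | ⟨rfl, h1⟩ | ⟨rfl, h1⟩ | ⟨-, h7, -⟩
    · omega
    · obtain ⟨K, i1, i2, hK, ⟨e'⟩⟩ := h1
      have : Fact (Nat.Prime 2) := ⟨Nat.prime_two⟩
      have : CharP K 2 := charP_of_card_eq_prime_pow (f := 2) hK
      have h15 := bd_g2 (K := K) (F := F) Nat.prime_two hrF 5 (hPR.sub e'.symm.toMonoidHom e'.symm.injective)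
      rw [Nat.card_eq_fintype_card, hK] at h15
      omega
    · obtain ⟨K, i1, i2, hK, ⟨e'⟩⟩ := h1
      have h16 := le_of_ls (Cfsg.Agent.H203.LS.LS.congr e'.symm (Cfsg.Agent.H936.F42.ls_f4_two hK)) hrF P hP e
      omega
    · omega
  · exact Or.inr (Or.inr (Or.inl h))
  · exact Or.inr (Or.inr (Or.inr h))

end Cfsg.Agent.H912.Five
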