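import Cfsg.Agent.H912.FiveMain
import Cfsg.Agent.H912.FiveList2
import Cfsg.Agent.H921.SporCore

/-!
# Degree five: the statements, given the classification as a hypothesis
-/

set_option autoImplicit false
set_option linter.unusedSectionVars false

universe u v

namespace Cfsg.Agent.H912.Five

open Cfsg Cfsg.Geo Matrix
open scoped MatrixGroups

variable {F : Type u} [Field F] [Fintype F] {H P : Subgroup (GL (Fin 5) F)}

/-- **The list of socles in degree five.** -/
theorem list5 (hc : IsResidualCore H P) (p : ℕ) [hp : Fact p.Prime] [CharP F p]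
    (hk : IsKnownSimple' (P ⧸ (scalars (Fin 5) F).subgroupOf P)) :
    List5 p (P ⧸ (scalars (Fin 5) F).subgroupOf P) := by
  have hS : Lie.IsoTits (P ⧸ (scalars (Fin 5) F).subgroupOf P) ∨
      IsSporadicGroup (P ⧸ (scalars (Fin 5) F).subgroupOf P) →
      p = 3 ∧ Spor.IsoM11 (P ⧸ (scalars (Fin 5) F).subgroupOf P) := by
    intro h
    obtain ⟨h1, h2⟩ := H921.Spor.core_five (H915.LD.core_of_residual hc) h.symm
    refine ⟨?_, h1⟩
    have h3 : p ∣ 3 := (CharP.cast_eq_zero_iff F p 3).1 (by exact_mod_cast h2)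
    exact (Nat.prime_dvd_prime_iff_eq hp.out Nat.prime_three).1 h3
  rcases five_list₁ (p := p) P hc.perfect hk hc.nonabelian (MulEquiv.refl _) with h | h | h | h
  · exact Or.inl h
  · exact Or.inr (Or.inl h)
  · exact Or.inr (Or.inr (hS (Or.inl h)))
  · exact Or.inr (Or.inr (hS (Or.inr h)))

theorem exists_char (F : Type u) [Field F] [Fintype F] : ∃ p : ℕ, p.Prime ∧ CharP F p := by
  obtain ⟨p, hp⟩ := CharP.exists F
  exact ⟨p, CharP.char_is_prime F p, hp⟩

/-- Row 5794. -/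
theorem row5794 (hk : ∀ (T : Type u) [Group T] [Finite T] [IsSimpleGroup T], IsKnownSimple' T)
    (hH : IsMaximalIn (specialLinear (Fin 5) F) H) (hS : InLinearResidualClass H) :
    ∃ (P : Subgroup (GL (Fin 5) F)) (p : ℕ), IsResidualCore H P ∧ p.Prime ∧ Fintype.card F = p ∧
    ((Nonempty ((P ⧸ (scalars (Fin 5) F).subgroupOf P) ≃* ProjectiveSpecialLinearGroup (Fin 2) (ZMod 11)) ∧
        p ≠ 3 ∧ (p % 11 = 1 ∨ p % 11 = 3 ∨ p % 11 = 4 ∨ p % 11 = 5 ∨ p % 11 = 9)) ∨
      (Spor.IsoM11 (P ⧸ (scalars (Fin 5) F).subgroupOf P) ∧ p = 3) ∨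
      (IsU42 (P ⧸ (scalars (Fin 5) F).subgroupOf P) ∧ p % 6 = 1)) := by
  obtain ⟨P, hc, hQ, hA, hU⟩ := hS
  obtain ⟨p, hp, hFp⟩ := exists_char F
  have := Fact.mk hp
  have := hc.simple
  obtain ⟨h1, h2⟩ := five_linear hH hc hQ hA hU p (list5 hc p (hk _))
  exact ⟨P, p, hc, hp, h1, h2⟩

end Cfsg.Agent.H912.Five
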