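import Cfsg.Agent.H918.UWrap
import Cfsg.Agent.H912.SUFive

/-!
# Maximal subgroups of `SU_5(q)`: bookkeeping
-/

set_option autoImplicit false

namespace Cfsg.Agent.H912

open Cfsg Cfsg.Agent.H918
open scoped Matrix MatrixGroups

/-- The minimal field containing the fifth roots of unity. -/
theorem five_minimal {F : Type*} [Field F] [Fintype F] {q p e : ℕ} (hF : Fintype.card F = q ^ 2)
    (h : Geo.IsMinimalFieldFor 5 p e F) :
    p.Prime ∧ CharP F p ∧ ((q = p ∧ p % 5 = 4) ∨ (q = p ^ 2 ∧ (p % 5 = 2 ∨ p % 5 = 3))) := by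
  obtain ⟨hp, hch, hc, h5, hd⟩ := h
  refine ⟨hp, hch, ?_⟩
  have hp2 := hp.two_le
  have hq0 : q ≠ 0 := by
    rintro rfl
    rw [hF] at hc
    have := pow_pos hp.pos e
    norm_num at hc
    omega
  -- `e` is even
  obtain ⟨m, hm⟩ : ∃ m, e = 2 * m := by
    rw [hF] at hc
    have h1 : (q ^ 2).factorization p = (p ^ e).factorization p := by rw [hc]
    rw [Nat.factorization_pow, hp.factorization_pow] at h1
    simp at h1
    exact ⟨_, h1.symm⟩
  have hqm : q = p ^ m := by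
    rw [hF, hm, mul_comm, pow_mul] at hc
    exact Nat.pow_left_injective two_ne_zero hc
  have hm0 : m ≠ 0 := by
    rintro rfl
    rw [pow_zero] at hqm
    subst hqm
    have : 1 < Fintype.card F := Fintype.one_lt_card
    omega
  -- `5 ∣ p ^ 4 - 1`
  have hmod : ∀ k, p ^ k % 5 = (p % 5) ^ k % 5 := fun k => Nat.pow_mod p k 5
  have hdvd : ∀ k, 5 ∣ p ^ k - 1 ↔ p ^ k % 5 = 1 := by
    intro k
    have := pow_pos hp.pos k
    omega
  have hp5 : p % 5 ≠ 0 := by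
    intro h0
    have h1 := (hdvd e).1 h5
    rw [hmod, h0, zero_pow (by omega)] at h1
    omega
  have hlt : p % 5 < 5 := Nat.mod_lt _ (by norm_num)
  have h1 : ¬ p % 5 = 1 := by
    intro h1
    exact hd 1 one_pos (by omega) ((hdvd 1).2 (by rw [hmod, h1]; norm_num))
  have hcase : p % 5 = 4 ∨ p % 5 = 2 ∨ p % 5 = 3 := by omega
  rcases hcase with h4 | h4
  · left
    have hm1 : m = 1 := by
      by_contra hne
      exact hd 2 two_pos (by omega) ((hdvd 2).2 (by rw [hmod, h4]; norm_num))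
    rw [hm1, pow_one] at hqm
    exact ⟨hqm, h4⟩
  · right
    have hm2 : m ≤ 2 := by
      by_contra hne
      exact hd 4 (by norm_num) (by omega) ((hdvd 4).2 (by rcases h4 with h4 | h4 <;> rw [hmod, h4] <;> norm_num))
    have hm1 : m ≠ 1 := by
      rintro rfl
      have h6 := (hdvd e).1 h5
      rw [hm, hmod] at h6
      rcases h4 with h4 | h4 <;> rw [h4] at h6 <;> norm_num at h6
    have : m = 2 := by omega
    rw [this] at hqm
    exact ⟨hqm, h4⟩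

theorem five_ne_pow {k t : ℕ} (ht : 2 ≤ t) : k ^ t ≠ 5 := by
  intro h
  have hk : k ≤ 2 := by
    by_contra hk
    have h1 : 3 ^ t ≤ k ^ t := Nat.pow_le_pow_left (by omega) t
    have h2 : 3 ^ 2 ≤ 3 ^ t := Nat.pow_le_pow_right (by norm_num) ht
    omega
  interval_cases k
  · rw [zero_pow (by omega)] at h
    omega
  · rw [one_pow] at h
    omega
  · have ht' : t = 2 ∨ 3 ≤ t := by omega
    rcases ht' with rfl | h1
    · omega
    · have : 2 ^ 3 ≤ 2 ^ t := Nat.pow_le_pow_right (by norm_num) h1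
      omega

theorem su_five_cases {F : Type*} [Field F] [Fintype F] (q : ℕ) (hF : Fintype.card F = q ^ 2)
    (H : Subgroup (Matrix.GeneralLinearGroup (Fin 5) F))
    (hH : Cfsg.Geo.IsMaximalIn (Cfsg.GU 5 F q ⊓ Cfsg.Geo.specialLinear (Fin 5) F) H)
    (h : (∃ M : Subgroup (Matrix.GeneralLinearGroup (Fin 5) F), Geo.InUnitaryClass 5 F q M ∧ H ≤ M) ∨
      Geo.InUnitaryResidualClass H) :
    (∃ W : Submodule F (Fin 5 → F), W ≠ ⊥ ∧ Cfsg.Geo.IsTotallySingularFor (Cfsg.hermForm 5 F q) W ∧ H = Cfsg.Geo.subspaceStabilizer W ⊓ (Cfsg.GU 5 F q ⊓ Cfsg.Geo.specialLinear (Fin 5) F)) ∨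
    (∃ W : Submodule F (Fin 5 → F), W ≠ ⊥ ∧ Cfsg.Geo.IsNondegenerateOn (Cfsg.hermForm 5 F q) W ∧ 2 * Module.finrank F W < 5 ∧ H = Cfsg.Geo.subspaceStabilizer W ⊓ (Cfsg.GU 5 F q ⊓ Cfsg.Geo.specialLinear (Fin 5) F)) ∨
    (∃ D : Fin 5 → Submodule F (Fin 5 → F), Cfsg.Geo.IsNondegenerateMDecomposition (Cfsg.hermForm 5 F q) 1 D ∧ H = Cfsg.Geo.decompositionStabilizer D ⊓ (Cfsg.GU 5 F q ⊓ Cfsg.Geo.specialLinear (Fin 5) F)) ∨
    (3 ≤ q ∧ ∃ K : Subalgebra F (Matrix (Fin 5) (Fin 5) F), Cfsg.Geo.IsFieldSubalgebra 5 K ∧ Cfsg.Geo.IsAdjointClosedFor (Cfsg.hermForm 5 F q) K ∧ H = Cfsg.Geo.subalgebraNormalizer K ⊓ (Cfsg.GU 5 F q ⊓ Cfsg.Geo.specialLinear (Fin 5) F)) ∨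
    (∃ (F₀ : Subfield F) (r : ℕ) (P : Matrix.GeneralLinearGroup (Fin 5) F), r.Prime ∧ Odd r ∧ Fintype.card F = Nat.card F₀ ^ r ∧ Cfsg.Geo.IsFormRationalStructure (Cfsg.hermForm 5 F q) F₀ 1 P ∧ H = Cfsg.Geo.subfieldSubgroup F₀ P ⊓ (Cfsg.GU 5 F q ⊓ Cfsg.Geo.specialLinear (Fin 5) F)) ∨
    (Odd q ∧ ∃ (F₀ : Subfield F) (P : Matrix.GeneralLinearGroup (Fin 5) F), Fintype.card F = Nat.card F₀ ^ 2 ∧ Cfsg.Geo.IsFormRationalStructure (Cfsg.hermForm 5 F q) F₀ 1 P ∧ H = Cfsg.Geo.subfieldSubgroup F₀ P ⊓ (Cfsg.GU 5 F q ⊓ Cfsg.Geo.specialLinear (Fin 5) F)) ∨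
    (∃ (p : ℕ) (R : Subgroup (Matrix.GeneralLinearGroup (Fin 5) F)), p.Prime ∧ CharP F p ∧ ((q = p ∧ p % 5 = 4) ∨ (q = p ^ 2 ∧ (p % 5 = 2 ∨ p % 5 = 3))) ∧ Cfsg.Geo.IsSymplecticTypeGroup 5 R ∧ Cfsg.Geo.ActsAbsolutelyIrreducibly (Cfsg.Geo.matrixSet R) ∧ R ≤ Cfsg.Geo.similarityGroup (Cfsg.hermForm 5 F q) ∧ Nat.card R = 125 ∧ Nat.card (Subgroup.center R) = 5 ∧ H = Cfsg.Geo.subgroupNormalizer R ⊓ (Cfsg.GU 5 F q ⊓ Cfsg.Geo.specialLinear (Fin 5) F)) ∨
    Cfsg.Geo.InUnitaryResidualClass H := by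
  have h32 : ¬ (5 = 3 ∧ q = 2) := by omega
  have hq2 : 2 ≤ q := by
    have h1 : 1 < Fintype.card F := Fintype.one_lt_card
    by_contra hq
    have : q = 0 ∨ q = 1 := by omega
    rcases this with rfl | rfl <;> simp [hF] at h1
  have hq : q = 2 ∨ 3 ≤ q := by omega
  have h' := unitary_maximal_cases hF (by norm_num) h32 hH
    (fun k t e P hk ht hkt _ => five_ne_pow ht hkt) h
  rcases h' with h | h | ⟨t, k, D, htk, ht, hD, h⟩ | ⟨k, D, hk, -⟩ | h | h |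
    ⟨F₀, P, ζ, hev, -⟩ | ⟨r, R, p, e, k, hR, habs, hRs, hrp, hmin, hro, hz, hk1, hcR, hn8, h⟩ |
    ⟨R, p, k, hp, hqp, hp4, hR, habs, hRs, hz, hcR, hn8, h⟩ |
    ⟨r, K, hr, hro, hrn, hK, hKa, h⟩ | ⟨n₁, n₂, e, P, f₁, f₂, hnn, hn1, hlt, -⟩ |
    ⟨k, t, e, P, f₁, hkt, hk3, ht2, -⟩ | h
  · exact Or.inl h
  · exact Or.inr (Or.inl h)
  · have h1 : t ∣ 5 := ⟨k, htk.symm⟩
    have h2 : t = 5 := ((Nat.dvd_prime (by norm_num)).1 h1).resolve_left (by omega)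
    subst h2
    have h3 : k = 1 := by omega
    subst h3
    exact Or.inr (Or.inr (Or.inl ⟨D, hD, h⟩))
  · omega
  · iterate 4 right
    left
    exact h
  · obtain ⟨F₀, P, hq, h⟩ := h
    iterate 5 right
    left
    exact ⟨hq, F₀, P, h⟩
  · exact absurd hev (by decide)
  · have h1 : r ∣ 5 := by
      rw [hn8]; exact dvd_pow_self r (by omega)
    have h2 : r = 5 := ((Nat.dvd_prime (by norm_num)).1 h1).resolve_left hR.prime.one_lt.ne'
    subst h2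
    have hk : k = 1 := by
      have : 5 ^ k = 5 ^ 1 := by rw [← hn8, pow_one]
      exact Nat.pow_right_injective (by norm_num) this
    subst hk
    rw [hz] at hmin
    obtain ⟨hp, hch, hc⟩ := five_minimal hF hmin
    iterate 6 right
    left
    exact ⟨p, R, hp, hch, hc, hR, habs, hRs, by rw [hcR]; norm_num, hz, h⟩
  · exfalso
    have h1 : 5 = 2 ^ k := hn8
    rcases Nat.eq_zero_or_pos k with rfl | hk
    · norm_num at h1
    · have : 2 ∣ 5 := by rw [h1]; exact dvd_pow_self 2 (by omega)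
      omega
  · have h2 : r = 5 := ((Nat.dvd_prime (by norm_num)).1 hrn).resolve_left hr.one_lt.ne'
    subst h2
    rcases hq with hq | hq
    · subst hq
      exact absurd (h ▸ hH) (SUFive.not_maximal hF hK hKa)
    · iterate 3 right
      left
      exact ⟨hq, K, hK, hKa, h⟩
  · exfalso
    have h1 : n₁ ∣ 5 := ⟨n₂, hnn.symm⟩
    have h2 : n₁ = 5 := ((Nat.dvd_prime (by norm_num)).1 h1).resolve_left (by omega)
    subst h2
    omega
  · exact absurd hkt (five_ne_pow ht2)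
  · iterate 7 right
    exact h

end Cfsg.Agent.H912
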