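import Cfsg.Agent.H912.LSUse
import Cfsg.Agent.H912.FiveList
import Cfsg.Agent.H203.LSG2
import Cfsg.Agent.H203.LSF4odd
import Cfsg.Agent.H203.LSF4even
import Cfsg.Agent.H203.LSE6
import Cfsg.Agent.H203.LSE7
import Cfsg.Agent.H203.LSE8
import Cfsg.Agent.H203.LSTwE6
import Cfsg.Agent.H203.LSTwD4
import Cfsg.Agent.H203.LSTwF4
import Cfsg.Agent.H203.LSSz

/-!
# Exceptional groups of Lie type in cross characteristic, degree at most 12

`exc_cross`: only `G₂(3)`, `G₂(4)`, `F₄(2)` and `Sz(8)` are left by the bounds of helper203.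
-/

set_option autoImplicit false

universe u v

namespace Cfsg.Agent.H912.Five

open Cfsg Cfsg.Agent.H912.Bd Cfsg.Agent.H203.LS

theorem mul_pow_lb {q a : ℕ} (hq : 2 ≤ q) (ha : 4 ≤ a) : 13 ≤ (q - 1) * q ^ a := by
  have h1 : 2 ^ 4 ≤ q ^ a := (Nat.pow_le_pow_left hq 4).trans (Nat.pow_le_pow_right (by omega) ha)
  have h2 : 1 * 2 ^ 4 ≤ (q - 1) * q ^ a := Nat.mul_le_mul (by omega) h1
  omega

/-- **Exceptional groups in cross characteristic.** -/
theorem exc_cross {F : Type u} [Field F] [Finite F] {n r : ℕ} (hr : r.Prime) (hrF : (r : F) ≠ 0)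
    (P : Subgroup (Matrix.GeneralLinearGroup (Fin n) F)) (hP : ⁅P, P⁆ = P) {T : Type v} [Group T] [Nontrivial T]
    (e : (P ⧸ (Cfsg.Geo.scalars (Fin n) F).subgroupOf P) ≃* T) (hn : n ≤ 12) (h : ExcL r T) :
    (r = 3 ∧ 6 ≤ n ∧ Bd.IsG2 3 T) ∨ (r = 2 ∧ Bd.IsG2 4 T) ∨ (r = 2 ∧ Bd.IsF4 2 T) ∨ (r = 2 ∧ 7 ≤ n ∧ Bd.IsSz8 T) := by
  have key : ∀ {d : ℕ} {T' : Type} [Group T'], LS.{0, u, u} r d T' → (T ≃* T') → d ≤ n := by
    intro d T' _ hls e'
    exact le_of_ls (LS.congr e'.symm hls) hrF P hP e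
  rcases h with ⟨K, _, _, _, h⟩ | ⟨K, _, _, _, q, hq, h⟩ | ⟨rfl, K, _, _, m, hm, hK, ⟨e'⟩⟩ |
    ⟨rfl, K, _, _, m, hm, hK, ⟨e'⟩⟩ | ⟨rfl, K, _, _, m, hm, hK, ⟨e'⟩⟩
  · have : Fact r.Prime := ⟨hr⟩
    have hd : r ∣ Fintype.card K := char_dvd_card K
    have hq2 : 2 ≤ Nat.card K := by
      rw [Nat.card_eq_fintype_card]
      exact Fintype.one_lt_card
    rcases h with ⟨h3, ⟨e'⟩⟩ | ⟨⟨e'⟩⟩ | ⟨⟨e'⟩⟩ | ⟨⟨e'⟩⟩ | ⟨⟨e'⟩⟩
    · by_cases h4 : Fintype.card K = 4
      · have hr2 : r = 2 := eq_of_dvd_prime_pow hr Nat.prime_two (k := 2) (by rw [h4] at hd; exact hd)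
        exact Or.inr (Or.inl ⟨hr2, K, inferInstance, inferInstance, h4, ⟨e'⟩⟩)
      · have h1 := key (G2.ls K (by rw [Nat.card_eq_fintype_card]; omega)
          (by rw [Nat.card_eq_fintype_card]; exact h4)) e'
        rw [Nat.card_eq_fintype_card] at h1
        have h5 : Fintype.card K < 5 := by
          by_contra hcon
          have h6 : 4 * 5 ≤ (Fintype.card K - 1) * Fintype.card K := Nat.mul_le_mul (by omega) (by omega)
          omega
        have h6 : Fintype.card K = 3 := by omega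
        rw [h6] at h1
        have hr3 : r = 3 := eq_of_dvd_prime_pow hr Nat.prime_three (k := 1) (by rw [h6] at hd; exact hd)
        exact Or.inl ⟨hr3, by omega, K, inferInstance, inferInstance, h6, ⟨e'⟩⟩
    · by_cases h2 : (2 : K) = 0
      · by_cases h3 : 2 < Nat.card K
        · have h1 := key (F4even.ls_even K h2 h3) e'
          have := mul_pow_lb hq2 (le_refl 4)
          omega
        · have h4 : Fintype.card K = 2 := by rw [← Nat.card_eq_fintype_card]; omega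
          have hr2 : r = 2 := eq_of_dvd_prime_pow hr Nat.prime_two (k := 1) (by rw [h4] at hd; exact hd)
          exact Or.inr (Or.inr (Or.inl ⟨hr2, K, inferInstance, inferInstance, h4, ⟨e'⟩⟩))
      · have h1 := key (F4odd.ls_odd K h2) e'
        have := mul_pow_lb hq2 (le_refl 4)
        omega
    · have h1 := key (E6.ls K) e'
      have := mul_pow_lb hq2 (show 4 ≤ 10 by norm_num)
      omega
    · have h1 := key (E7.ls K) e'
      have := mul_pow_lb hq2 (show 4 ≤ 16 by norm_num)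
      omega
    · have h1 := key (E8.ls K) e'
      have := mul_pow_lb hq2 (show 4 ≤ 28 by norm_num)
      omega
  · exfalso
    have hq2 : 2 ≤ q := hq.two_le
    rcases h with ⟨hK, ⟨e'⟩⟩ | ⟨hK, ⟨e'⟩⟩
    · have h1 := key (TwE6.ls hq hK) e'
      have := mul_pow_lb hq2 (show 4 ≤ 6 by norm_num)
      omega
    · have h1 := key (TwD4.ls hq hK) e'
      have := mul_pow_lb hq2 (le_refl 4)
      omega
  · have h1 := key (LS.sz hm hK) e'
    rw [Nat.card_eq_fintype_card, hK] at h1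
    have h2 : m < 2 := by
      by_contra hcon
      have : 2 ^ 5 ≤ 2 ^ (2 * m + 1) := Nat.pow_le_pow_right (by norm_num) (by omega)
      omega
    have h3 : m = 1 := by omega
    subst h3
    exact Or.inr (Or.inr (Or.inr ⟨rfl, by simpa using h1, K, inferInstance, inferInstance, hK, ⟨e'⟩⟩))
  · exfalso
    have h1 := key (TwF4.ls hm hK) e'
    rw [Nat.card_eq_fintype_card, hK] at h1
    have h2 : 2 ^ 3 ≤ 2 ^ (2 * m + 1) := Nat.pow_le_pow_right (by norm_num) (by omega)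
    have h3 : 7 * 8 ^ 2 ≤ (2 ^ (2 * m + 1) - 1) * (2 ^ (2 * m + 1)) ^ 2 :=
      Nat.mul_le_mul (by omega) (Nat.pow_le_pow_left (by omega) 2)
    omega
  · exfalso
    have h1 := key (LS.ree hm hK) e'
    rw [Nat.card_eq_fintype_card, hK] at h1
    have h2 : 3 ^ 3 ≤ 3 ^ (2 * m + 1) := Nat.pow_le_pow_right (by norm_num) (by omega)
    omega

end Cfsg.Agent.H912.Five
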