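import Cfsg.Agent.H912.TensForm3

/-!
Tensor decompositions: pure tensors, isometries, alternating factors.
-/

set_option autoImplicit false

namespace Cfsg.Agent.H912
open Cfsg Cfsg.Geo Matrix Cfsg.Agent.H919
open scoped Kronecker

variable {ι : Type} [Fintype ι] [DecidableEq ι] {F : Type*} [Field F]

/-- The pure tensor `v ⊗ w`. -/
def pt {n₁ n₂ : ℕ} (v : Fin n₁ → F) (w : Fin n₂ → F) : Fin n₁ × Fin n₂ → F := fun a => v a.1 * w a.2

theorem kronecker_mulVec_pt {n₁ n₂ : ℕ} (a : Matrix (Fin n₁) (Fin n₁) F) (b : Matrix (Fin n₂) (Fin n₂) F)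
    (v : Fin n₁ → F) (w : Fin n₂ → F) : (a ⊗ₖ b) *ᵥ (pt v w) = pt (a *ᵥ v) (b *ᵥ w) := by
  funext p
  simp only [mulVec, dotProduct, pt, kroneckerMap_apply, Fintype.sum_prod_type, Finset.sum_mul_sum]
  refine Finset.sum_congr rfl fun i _ => Finset.sum_congr rfl fun j _ => ?_
  ring

theorem formOfGram_pt {σ : F ≃+* F} {n₁ n₂ : ℕ} (G₁ : Matrix (Fin n₁) (Fin n₁) F)
    (G₂ : Matrix (Fin n₂) (Fin n₂) F) (v v' : Fin n₁ → F) (w w' : Fin n₂ → F) :
    formOfGram σ (G₁ ⊗ₖ G₂) (pt v w) (pt v' w') = formOfGram σ G₁ v v' * formOfGram σ G₂ w w' := by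
  unfold formOfGram
  simp only [pt, kroneckerMap_apply, Fintype.sum_prod_type, map_mul]
  rw [Finset.sum_mul_sum]
  refine Finset.sum_congr rfl fun i _ => Finset.sum_congr rfl fun j _ => ?_
  rw [Finset.sum_mul_sum]
  refine Finset.sum_congr rfl fun i' _ => Finset.sum_congr rfl fun j' _ => ?_
  ring

theorem formOfGram_gramMatrix {κ : Type} [Fintype κ] [DecidableEq κ] {σ : F ≃+* F} {ε : F}
    {f : (κ → F) → (κ → F) → F} (hf : HermForm σ ε f) : formOfGram σ (gramMatrix f) = f := by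
  funext x y
  have h1 := form_eq_formOfGram hf (Equiv.refl κ) 1 x y
  have h2 : gramPe f (Equiv.refl κ) 1 = gramMatrix f := by
    ext a b
    unfold gramPe gramMatrix
    rw [Units.val_one, one_mulVec, one_mulVec]
    rfl
  rw [h2, Units.val_one, one_mulVec, one_mulVec] at h1
  exact h1.symm

theorem form_pt {σ : F ≃+* F} {f : (ι → F) → (ι → F) → F} {n₁ n₂ : ℕ} {ε₁ ε₂ : F}
    {f₁ : (Fin n₁ → F) → (Fin n₁ → F) → F} {f₂ : (Fin n₂ → F) → (Fin n₂ → F) → F}
    (h1 : HermForm σ ε₁ f₁) (h2 : HermForm σ ε₂ f₂)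
    {e : ι ≃ Fin n₁ × Fin n₂} {P : GL ι F} (h : IsTensorFormStructure σ f f₁ f₂ e P) :
    ∃ c : F, c ≠ 0 ∧ ∀ (v v' : Fin n₁ → F) (w w' : Fin n₂ → F),
      f ((P : Matrix ι ι F) *ᵥ (pt v w ∘ e)) ((P : Matrix ι ι F) *ᵥ (pt v' w' ∘ e)) =
        c * (f₁ v v' * f₂ w w') := by
  obtain ⟨c, hc, h⟩ := h
  refine ⟨c, hc, fun v v' w w' => ?_⟩
  rw [h, formOfGram_pt, formOfGram_gramMatrix h1, formOfGram_gramMatrix h2]

/-- There are vectors with non-zero form value (if the space is non-zero). -/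
theorem exists_form_ne_zero {κ : Type} [Fintype κ] [DecidableEq κ] [Nonempty κ] {σ : F ≃+* F} {ε : F}
    {f : (κ → F) → (κ → F) → F} (hf : HermForm σ ε f) : ∃ v w, f v w ≠ 0 := by
  obtain ⟨k⟩ := ‹Nonempty κ›
  obtain ⟨_, x, hx⟩ := hf.nondegenerate (Pi.single k 1) (Pi.single_ne_zero_iff.mpr one_ne_zero)
  exact ⟨_, x, hx⟩

/-- An isometry `a ⊗ b` acts by similarities with inverse multipliers on the two factors. -/
theorem isometry_factors {σ : F ≃+* F} {f : (ι → F) → (ι → F) → F} {n₁ n₂ : ℕ} {ε₁ ε₂ : F}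
    (hn : 0 < n₁) (hn2 : 0 < n₂)
    {f₁ : (Fin n₁ → F) → (Fin n₁ → F) → F} {f₂ : (Fin n₂ → F) → (Fin n₂ → F) → F}
    (h1 : HermForm σ ε₁ f₁) (h2 : HermForm σ ε₂ f₂)
    {e : ι ≃ Fin n₁ × Fin n₂} {P : GL ι F} (h : IsTensorFormStructure σ f f₁ f₂ e P)
    {a : Matrix (Fin n₁) (Fin n₁) F} {b : Matrix (Fin n₂) (Fin n₂) F}
    (hab : ∀ u v, f (tens e P a b *ᵥ u) (tens e P a b *ᵥ v) = f u v) :
    ∃ μ : F, μ ≠ 0 ∧ (∀ v v', f₁ (a *ᵥ v) (a *ᵥ v') = μ * f₁ v v') ∧
      (∀ w w', f₂ (b *ᵥ w) (b *ᵥ w') = μ⁻¹ * f₂ w w') := by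
  obtain ⟨c, hc, h⟩ := form_pt h1 h2 h
  have key : ∀ v v' w w', f₁ (a *ᵥ v) (a *ᵥ v') * f₂ (b *ᵥ w) (b *ᵥ w') = f₁ v v' * f₂ w w' := by
    intro v v' w w'
    have h3 := hab ((P : Matrix ι ι F) *ᵥ (pt v w ∘ e)) ((P : Matrix ι ι F) *ᵥ (pt v' w' ∘ e))
    rw [tens_mulVec, tens_mulVec, kronecker_mulVec_pt, kronecker_mulVec_pt, h, h] at h3
    exact mul_left_cancel₀ hc h3
  have : Nonempty (Fin n₁) := ⟨⟨0, hn⟩⟩
  have : Nonempty (Fin n₂) := ⟨⟨0, hn2⟩⟩
  obtain ⟨v₀, v₁, hv⟩ := exists_form_ne_zero h1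
  obtain ⟨w₀, w₁, hw⟩ := exists_form_ne_zero h2
  have hk := key v₀ v₁ w₀ w₁
  have hne : f₁ (a *ᵥ v₀) (a *ᵥ v₁) ≠ 0 ∧ f₂ (b *ᵥ w₀) (b *ᵥ w₁) ≠ 0 := by
    constructor
    · intro h0; rw [h0, zero_mul] at hk; exact mul_ne_zero hv hw hk.symm
    · intro h0; rw [h0, mul_zero] at hk; exact mul_ne_zero hv hw hk.symm
  refine ⟨f₁ (a *ᵥ v₀) (a *ᵥ v₁) / f₁ v₀ v₁, div_ne_zero hne.1 hv, ?_, ?_⟩
  · intro v v'
    have h3 := key v v' w₀ w₁
    have h4 : f₂ w₀ w₁ / f₂ (b *ᵥ w₀) (b *ᵥ w₁) = f₁ (a *ᵥ v₀) (a *ᵥ v₁) / f₁ v₀ v₁ := by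
      rw [div_eq_div_iff hne.2 hv, mul_comm, ← hk]
    rw [← h4]
    field_simp [hne.2]
    rw [h3]
    ring
  · intro w w'
    have h3 := key v₀ v₁ w w'
    rw [inv_div]
    have := hne.1
    field_simp
    rw [mul_comm, h3]

/-! ### Invariant subspaces of the factors -/

theorem tens_injective {n₁ n₂ : ℕ} (hn2 : 0 < n₂) {e : ι ≃ Fin n₁ × Fin n₂} {P : GL ι F}
    {a a' : Matrix (Fin n₁) (Fin n₁) F} (h : tens e P a (1 : Matrix (Fin n₂) (Fin n₂) F) = tens e P a' 1) :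
    a = a' := by
  have h1 : (P : Matrix ι ι F) * Matrix.reindexAlgEquiv F F e.symm (a ⊗ₖ (1 : Matrix (Fin n₂) (Fin n₂) F)) =
      (P : Matrix ι ι F) * Matrix.reindexAlgEquiv F F e.symm (a' ⊗ₖ (1 : Matrix (Fin n₂) (Fin n₂) F)) :=
    (P⁻¹).isUnit.mul_right_cancel h
  have h2 : Matrix.reindexAlgEquiv F F e.symm (a ⊗ₖ (1 : Matrix (Fin n₂) (Fin n₂) F)) =
      Matrix.reindexAlgEquiv F F e.symm (a' ⊗ₖ (1 : Matrix (Fin n₂) (Fin n₂) F)) :=
    P.isUnit.mul_left_cancel h1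
  have h3 := (Matrix.reindexAlgEquiv F F e.symm).injective h2
  ext i j
  have h4 := congrFun (congrFun h3 (i, ⟨0, hn2⟩)) (j, ⟨0, hn2⟩)
  simpa using h4

/-- A subspace invariant under the whole matrix algebra is trivial. -/
theorem eq_bot_or_top_of_all {n : ℕ} {S : Submodule F (Fin n → F)}
    (hS : ∀ b : Matrix (Fin n) (Fin n) F, ∀ v ∈ S, b *ᵥ v ∈ S) : S = ⊥ ∨ S = ⊤ := by
  by_cases h : S = ⊥
  · exact Or.inl h
  · right
    obtain ⟨v, hv, hv0⟩ := Submodule.exists_mem_ne_zero_of_ne_bot h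
    have : ∃ j, v j ≠ 0 := by
      by_contra hcon
      push Not at hcon
      exact hv0 (funext hcon)
    obtain ⟨j, hj⟩ := this
    rw [eq_top_iff]
    intro w _
    have h1 := hS (Matrix.of fun i l => if l = j then w i * (v j)⁻¹ else 0) v hv
    convert h1
    ext i
    simp only [mulVec, dotProduct, of_apply, ite_mul, zero_mul, Finset.sum_ite_eq', Finset.mem_univ,
      if_true]
    field_simp

/-- The first factor of a group spanning `M_{n₁} ⊗ 1` is irreducible. -/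
theorem first_factor_irreducible {n₁ n₂ : ℕ} (hn2 : 0 < n₂) {e : ι ≃ Fin n₁ × Fin n₂} {P : GL ι F}
    {N : Subgroup (GL ι F)} (hA : ∀ x, x ∈ env N ↔ ∃ a : Matrix (Fin n₁) (Fin n₁) F, x = tens e P a 1)
    {S : Submodule F (Fin n₁ → F)}
    (hS : ∀ x ∈ N, ∀ a : Matrix (Fin n₁) (Fin n₁) F, (x : Matrix ι ι F) = tens e P a (1 : Matrix (Fin n₂) (Fin n₂) F) →
      ∀ v ∈ S, a *ᵥ v ∈ S) : S = ⊥ ∨ S = ⊤ := by
  let C : Subalgebra F (Matrix ι ι F) :=
    { carrier := {x | ∃ a : Matrix (Fin n₁) (Fin n₁) F, (∀ v ∈ S, a *ᵥ v ∈ S) ∧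
        x = tens e P a (1 : Matrix (Fin n₂) (Fin n₂) F)}
      mul_mem' := by
        rintro _ _ ⟨a, ha, rfl⟩ ⟨b, hb, rfl⟩
        refine ⟨a * b, fun v hv => ?_, by rw [tens_mul, mul_one]⟩
        rw [← mulVec_mulVec]
        exact ha _ (hb v hv)
      add_mem' := by
        rintro _ _ ⟨a, ha, rfl⟩ ⟨b, hb, rfl⟩
        refine ⟨a + b, fun v hv => ?_, by unfold tens; rw [add_kronecker, map_add, mul_add, add_mul]⟩
        rw [add_mulVec]
        exact S.add_mem (ha v hv) (hb v hv)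
      algebraMap_mem' := fun r => ⟨r • 1, fun v hv => by
          rw [smul_mulVec, one_mulVec]; exact S.smul_mem r hv, by
          rw [Algebra.algebraMap_eq_smul_one, ← tens_one e P]
          unfold tens
          rw [smul_kronecker, map_smul, mul_smul_comm, smul_mul_assoc]⟩ }
  have hle : env N ≤ C := by
    unfold env
    rw [Algebra.adjoin_le_iff]
    rintro _ ⟨x, hx, rfl⟩
    obtain ⟨a, ha⟩ := (hA x).mp (mem_env hx)
    exact ⟨a, hS x hx a ha, ha⟩
  apply eq_bot_or_top_of_all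
  intro b
  obtain ⟨a, ha, hb⟩ := hle ((hA _).mpr ⟨b, rfl⟩)
  rw [tens_injective hn2 hb]
  exact ha

/-- The second factor of an irreducible group inside a tensor product group is irreducible. -/
theorem second_factor_irreducible {n₁ n₂ : ℕ} (hn : 0 < n₁) {e : ι ≃ Fin n₁ × Fin n₂} {P : GL ι F}
    {H : Subgroup (GL ι F)} (hirr : ActsIrreducibly (matrixSet H))
    (hH : H ≤ tensorProductSubgroup n₁ n₂ e P)
    {S : Submodule F (Fin n₂ → F)}
    (hS : ∀ x ∈ H, ∀ (a : Matrix (Fin n₁) (Fin n₁) F) (b : Matrix (Fin n₂) (Fin n₂) F),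
      (x : Matrix ι ι F) = tens e P a b → ∀ v ∈ S, b *ᵥ v ∈ S) : S = ⊥ ∨ S = ⊤ := by
  let T : Submodule F (ι → F) :=
    { carrier := {u | ∃ z : Fin n₁ × Fin n₂ → F, u = (P : Matrix ι ι F) *ᵥ (z ∘ e) ∧ ∀ i, (fun j => z (i, j)) ∈ S}
      add_mem' := by
        rintro _ _ ⟨z, rfl, hz⟩ ⟨z', rfl, hz'⟩
        refine ⟨z + z', ?_, fun i => S.add_mem (hz i) (hz' i)⟩
        rw [← mulVec_add]
        rfl
      zero_mem' := ⟨0, by
        have : ((0 : Fin n₁ × Fin n₂ → F) ∘ e : ι → F) = 0 := rfl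
        rw [this, mulVec_zero], fun i => S.zero_mem⟩
      smul_mem' := by
        rintro c _ ⟨z, rfl, hz⟩
        refine ⟨c • z, ?_, fun i => S.smul_mem c (hz i)⟩
        rw [← mulVec_smul]
        rfl }
  have hT := hirr T (by
    rintro _ ⟨x, hx, rfl⟩
    rw [Submodule.map_le_iff_le_comap]
    rintro _ ⟨z, rfl, hz⟩
    obtain ⟨a, b, hab⟩ := mem_tensorProductSubgroup_iff.mp (hH hx)
    rw [Submodule.mem_comap, toLin'_apply]
    refine ⟨((a : Matrix (Fin n₁) (Fin n₁) F) ⊗ₖ (b : Matrix (Fin n₂) (Fin n₂) F)) *ᵥ z, ?_, fun i => ?_⟩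
    · change (x : Matrix ι ι F) *ᵥ _ = _
      rw [hab, tens_mulVec]
    · have h1 : (fun j => (((a : Matrix (Fin n₁) (Fin n₁) F) ⊗ₖ (b : Matrix (Fin n₂) (Fin n₂) F)) *ᵥ z) (i, j)) =
          ∑ i', (a : Matrix (Fin n₁) (Fin n₁) F) i i' • ((b : Matrix (Fin n₂) (Fin n₂) F) *ᵥ (fun j => z (i', j))) := by
        funext j
        rw [Finset.sum_apply]
        simp only [mulVec, dotProduct, kroneckerMap_apply, Fintype.sum_prod_type, Pi.smul_apply, smul_eq_mul,
          Finset.mul_sum, mul_assoc]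
      rw [h1]
      exact S.sum_mem fun i' _ => S.smul_mem _ (hS x hx _ _ hab _ (hz i')))
  rcases hT with hT | hT
  · left
    rw [eq_bot_iff]
    intro w hw
    have h1 : (P : Matrix ι ι F) *ᵥ (pt (Pi.single ⟨0, hn⟩ 1) w ∘ e) ∈ T := by
      refine ⟨_, rfl, fun i => ?_⟩
      have : (fun j => pt (Pi.single ⟨0, hn⟩ (1 : F)) w (i, j)) = (Pi.single (⟨0, hn⟩ : Fin n₁) (1 : F) : Fin n₁ → F) i • w := by
        funext j; simp [pt]
      rw [this]
      exact S.smul_mem _ hw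
    rw [hT, Submodule.mem_bot] at h1
    have h2 : (pt (Pi.single (⟨0, hn⟩ : Fin n₁) (1 : F)) w ∘ e : ι → F) = 0 := by
      have := congrArg (fun u => ((P⁻¹ : GL ι F) : Matrix ι ι F) *ᵥ u) h1
      simpa [mulVec_mulVec, ← Units.val_mul] using this
    rw [Submodule.mem_bot]
    funext j
    have h3 := congrFun h2 (e.symm (⟨0, hn⟩, j))
    simpa [pt] using h3
  · right
    rw [eq_top_iff]
    intro w _
    have h1 : (P : Matrix ι ι F) *ᵥ (pt (Pi.single ⟨0, hn⟩ 1) w ∘ e) ∈ T := by rw [hT]; exact Submodule.mem_top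
    obtain ⟨z, hz, hz2⟩ := h1
    have h2 : (pt (Pi.single (⟨0, hn⟩ : Fin n₁) (1 : F)) w ∘ e : ι → F) = z ∘ e := by
      have := congrArg (fun u => ((P⁻¹ : GL ι F) : Matrix ι ι F) *ᵥ u) hz
      simpa [mulVec_mulVec, ← Units.val_mul] using this
    have h3 := hz2 ⟨0, hn⟩
    have h4 : (fun j => z (⟨0, hn⟩, j)) = w := by
      funext j
      have := congrFun h2 (e.symm (⟨0, hn⟩, j))
      simpa [pt] using this.symm
    rwa [h4] at h3

/-! ### Alternating factors and vanishing on pure tensors -/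

/-- A 2-homogeneous additive function with trivial-or-full invariant kernel vanishes in dimension at
least two. -/
theorem quad_additive_eq_zero [Finite F] {n : ℕ} (hn : 2 ≤ n) {φ : (Fin n → F) → F}
    (hadd : ∀ v w, φ (v + w) = φ v + φ w) (hsmul : ∀ (c : F) v, φ (c • v) = c ^ 2 * φ v)
    (hker : ∀ S : Submodule F (Fin n → F), (∀ v, v ∈ S ↔ φ v = 0) → S = ⊥ ∨ S = ⊤) : ∀ v, φ v = 0 := by
  have h0 : φ 0 = 0 := by
    have := hsmul 0 0
    simpa using this
  let S : Submodule F (Fin n → F) :=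
    { carrier := {v | φ v = 0}
      add_mem' := fun {v w} hv hw => by
        change φ (v + w) = 0
        rw [hadd, show φ v = 0 from hv, show φ w = 0 from hw, add_zero]
      zero_mem' := h0
      smul_mem' := fun c v hv => by
        change φ (c • v) = 0
        rw [hsmul, show φ v = 0 from hv, mul_zero] }
  rcases hker S (fun v => Iff.rfl) with h | h
  · exfalso
    -- characteristic two or everything vanishes
    by_cases h2 : (2 : F) = 0
    · have : CharP F 2 := CharTwo.of_one_ne_zero_of_two_eq_zero one_ne_zero h2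
      let i : Fin n := ⟨0, by omega⟩
      let j : Fin n := ⟨1, by omega⟩
      have hij : i ≠ j := by
        intro h
        have := congrArg Fin.val h
        simp [i, j] at this
      have hmem : ∀ v : Fin n → F, φ v = 0 → v = 0 := by
        intro v hv
        have : v ∈ S := hv
        rw [h] at this
        simpa using this
      let x : Fin n → F := Pi.single i 1
      let y : Fin n → F := Pi.single j 1
      have hx : φ x ≠ 0 := fun hx => by
        have := congrFun (hmem _ hx) i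
        simp [x] at this
      have hy : φ y ≠ 0 := fun hy => by
        have := congrFun (hmem _ hy) j
        simp [y] at this
      -- every element is a square
      have hinj : Function.Injective (fun c : F => c ^ 2) := by
        intro c d hcd
        have h3 : (c - d) ^ 2 = 0 := by
          have h4 : (c - d) ^ 2 = c ^ 2 - d ^ 2 := by
            rw [sub_pow_char]
          rw [h4]
          exact sub_eq_zero.mpr hcd
        exact sub_eq_zero.mp (by simpa using h3)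
      obtain ⟨c, hc⟩ := Finite.surjective_of_injective hinj (-(φ x) / φ y)
      have h5 : φ (x + c • y) = 0 := by
        rw [hadd, hsmul, show c ^ 2 = -(φ x) / φ y from hc]
        field_simp
        ring
      have h6 := congrFun (hmem _ h5) i
      simp [x, y, hij] at h6
    · have h3 : ∀ v, φ v = 0 := by
        intro v
        have h4 := hadd v v
        have h5 := hsmul 2 v
        rw [two_smul, h4] at h5
        have h6 : (2 : F) * φ v = 0 := by linear_combination - h5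
        exact (mul_eq_zero.mp h6).resolve_left h2
      have hone : (Pi.single (⟨0, by omega⟩ : Fin n) (1 : F) : Fin n → F) ∈ S := h3 _
      rw [h, Submodule.mem_bot] at hone
      have := congrFun hone ⟨0, by omega⟩
      simp at this
  · intro v
    have : v ∈ S := by rw [h]; exact Submodule.mem_top
    exact this

/-- In characteristic two, the form of the first factor is alternating as soon as the normal subgroup
`N` spans `M_{n₁} ⊗ 1` and `n₁ ≥ 2`. -/
theorem first_alternating [Finite F] {f : (ι → F) → (ι → F) → F} {n₁ n₂ : ℕ} {ε₁ ε₂ : F}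
    (h2 : (2 : F) = 0) (hn : 2 ≤ n₁) (hn2 : 0 < n₂)
    {f₁ : (Fin n₁ → F) → (Fin n₁ → F) → F} {f₂ : (Fin n₂ → F) → (Fin n₂ → F) → F}
    (h1 : HermForm (RingEquiv.refl F) ε₁ f₁) (h2' : HermForm (RingEquiv.refl F) ε₂ f₂)
    {e : ι ≃ Fin n₁ × Fin n₂} {P : GL ι F} (h : IsTensorFormStructure (RingEquiv.refl F) f f₁ f₂ e P)
    {N : Subgroup (GL ι F)} (hA : ∀ x, x ∈ env N ↔ ∃ a : Matrix (Fin n₁) (Fin n₁) F, x = tens e P a 1)
    (hN : ∀ g ∈ N, ∀ u v, f ((g : Matrix ι ι F) *ᵥ u) ((g : Matrix ι ι F) *ᵥ v) = f u v) :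
    ∀ v, f₁ v v = 0 := by
  have hε : ε₁ = 1 := by
    have h3 := h1.eps
    change ε₁ * ε₁ = 1 at h3
    have h4 : (ε₁ - 1) * (ε₁ - 1) = 0 := by linear_combination h3 - (ε₁ - 1) * h2
    exact sub_eq_zero.mp (mul_self_eq_zero.mp h4)
  apply quad_additive_eq_zero hn
  · intro v w
    rw [h1.add_left, h1.add_right, h1.add_right, h1.herm v w, hε]
    change f₁ v v + 1 * f₁ w v + (f₁ w v + f₁ w w) = _
    linear_combination (f₁ w v) * h2
  · intro c v
    rw [h1.smul_left, h1.smul_right]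
    change c * (c * f₁ v v) = _
    ring
  · intro S hS
    apply first_factor_irreducible hn2 hA
    intro x hx a hxa v hv
    rw [hS] at hv ⊢
    obtain ⟨μ, hμ, hm1, hm2⟩ := isometry_factors (by omega) hn2 h1 h2' h (a := a) (b := 1) (by
      rw [← hxa]; exact hN x hx)
    rw [hm1, hv, mul_zero]

/-- In characteristic two, the form of the second factor is alternating as soon as `H` is irreducible
and `n₂ ≥ 2`. -/
theorem second_alternating [Finite F] {f : (ι → F) → (ι → F) → F} {n₁ n₂ : ℕ} {ε₁ ε₂ : F}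
    (h2 : (2 : F) = 0) (hn : 0 < n₁) (hn2 : 2 ≤ n₂)
    {f₁ : (Fin n₁ → F) → (Fin n₁ → F) → F} {f₂ : (Fin n₂ → F) → (Fin n₂ → F) → F}
    (h1 : HermForm (RingEquiv.refl F) ε₁ f₁) (h2' : HermForm (RingEquiv.refl F) ε₂ f₂)
    {e : ι ≃ Fin n₁ × Fin n₂} {P : GL ι F} (h : IsTensorFormStructure (RingEquiv.refl F) f f₁ f₂ e P)
    {H : Subgroup (GL ι F)} (hirr : ActsIrreducibly (matrixSet H))
    (hH : H ≤ tensorProductSubgroup n₁ n₂ e P)
    (hN : ∀ g ∈ H, ∀ u v, f ((g : Matrix ι ι F) *ᵥ u) ((g : Matrix ι ι F) *ᵥ v) = f u v) :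
    ∀ v, f₂ v v = 0 := by
  have hε : ε₂ = 1 := by
    have h3 := h2'.eps
    change ε₂ * ε₂ = 1 at h3
    have h4 : (ε₂ - 1) * (ε₂ - 1) = 0 := by linear_combination h3 - (ε₂ - 1) * h2
    exact sub_eq_zero.mp (mul_self_eq_zero.mp h4)
  apply quad_additive_eq_zero hn2
  · intro v w
    rw [h2'.add_left, h2'.add_right, h2'.add_right, h2'.herm v w, hε]
    change f₂ v v + 1 * f₂ w v + (f₂ w v + f₂ w w) = _
    linear_combination (f₂ w v) * h2
  · intro c v
    rw [h2'.smul_left, h2'.smul_right]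
    change c * (c * f₂ v v) = _
    ring
  · intro S hS
    apply second_factor_irreducible hn hirr hH
    intro x hx a b hxa v hv
    rw [hS] at hv ⊢
    obtain ⟨μ, hμ, hm1, hm2⟩ := isometry_factors hn (by omega) h1 h2' h (a := a) (b := b) (by
      rw [← hxa]; exact hN x hx)
    rw [hm2, hv, mul_zero]

theorem pt_add_left {n₁ n₂ : ℕ} (v v' : Fin n₁ → F) (w : Fin n₂ → F) : pt (v + v') w = pt v w + pt v' w := by
  funext p; simp [pt, add_mul]

theorem pt_smul_left {n₁ n₂ : ℕ} (c : F) (v : Fin n₁ → F) (w : Fin n₂ → F) : pt (c • v) w = c • pt v w := by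
  funext p; simp [pt, mul_assoc]

/-- A quadratic form whose polar form is a tensor product with alternating second factor vanishes on pure
tensors, if it is preserved by a group spanning `M_{n₁} ⊗ 1`, `n₁ ≥ 2`. -/
theorem quad_pure_eq_zero [Finite F] {Q : (ι → F) → F} {n₁ n₂ : ℕ} {ε₁ ε₂ : F}
    (hQ : ∀ (c : F) (v : ι → F), Q (c • v) = c ^ 2 * Q v)
    (hn : 2 ≤ n₁) (hn2 : 0 < n₂)
    {f₁ : (Fin n₁ → F) → (Fin n₁ → F) → F} {f₂ : (Fin n₂ → F) → (Fin n₂ → F) → F}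
    (h1 : HermForm (RingEquiv.refl F) ε₁ f₁) (h2' : HermForm (RingEquiv.refl F) ε₂ f₂)
    (halt : ∀ w, f₂ w w = 0)
    {e : ι ≃ Fin n₁ × Fin n₂} {P : GL ι F}
    (h : IsTensorFormStructure (RingEquiv.refl F) (QuadraticMap.polar Q) f₁ f₂ e P)
    {N : Subgroup (GL ι F)} (hA : ∀ x, x ∈ env N ↔ ∃ a : Matrix (Fin n₁) (Fin n₁) F, x = tens e P a 1)
    (hN : ∀ g ∈ N, ∀ u, Q ((g : Matrix ι ι F) *ᵥ u) = Q u) (v : Fin n₁ → F) (w : Fin n₂ → F) :
    Q ((P : Matrix ι ι F) *ᵥ ((fun a : Fin n₁ × Fin n₂ => v a.1 * w a.2) ∘ e)) = 0 := by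
  change Q ((P : Matrix ι ι F) *ᵥ (pt v w ∘ e)) = 0
  obtain ⟨c, hc, hpt⟩ := form_pt h1 h2' h
  revert v
  apply quad_additive_eq_zero hn
  · intro v v'
    have h3 := hpt v v' w w
    rw [halt, mul_zero, mul_zero] at h3
    unfold QuadraticMap.polar at h3
    have h4 : (pt (v + v') w ∘ e : ι → F) = pt v w ∘ e + pt v' w ∘ e := by
      rw [pt_add_left]; rfl
    rw [h4, mulVec_add]
    linear_combination h3
  · intro r v
    have h4 : (pt (r • v) w ∘ e : ι → F) = r • (pt v w ∘ e) := by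
      rw [pt_smul_left]; rfl
    rw [h4, mulVec_smul, hQ]
  · intro S hS
    apply first_factor_irreducible hn2 hA
    intro x hx a hxa v hv
    rw [hS] at hv ⊢
    have h5 := hN x hx ((P : Matrix ι ι F) *ᵥ (pt v w ∘ e))
    rw [hxa, tens_mulVec, kronecker_mulVec_pt, one_mulVec, hv] at h5
    exact h5

end Cfsg.Agent.H912
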