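import Cfsg.Agent.H912.Core5

/-!
Clifford theory, fifth part: tensor decompositions.
-/

set_option autoImplicit false

namespace Cfsg.Agent.H912
open Cfsg Cfsg.Geo Matrix
open scoped Kronecker

variable {ι : Type} [Fintype ι] [DecidableEq ι] {F : Type*} [Field F]

/-- The embedding `a ↦ P (a ⊗ b) P⁻¹` on the level of matrices (`b` arbitrary). -/
def tens {n₁ n₂ : ℕ} (e : ι ≃ Fin n₁ × Fin n₂) (P : GL ι F) (a : Matrix (Fin n₁) (Fin n₁) F)
    (b : Matrix (Fin n₂) (Fin n₂) F) : Matrix ι ι F :=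
  (P : Matrix ι ι F) * Matrix.reindexAlgEquiv F F e.symm (a ⊗ₖ b) * ((P⁻¹ : GL ι F) : Matrix ι ι F)

theorem tens_mul {n₁ n₂ : ℕ} (e : ι ≃ Fin n₁ × Fin n₂) (P : GL ι F) (a a' : Matrix (Fin n₁) (Fin n₁) F)
    (b b' : Matrix (Fin n₂) (Fin n₂) F) :
    tens e P a b * tens e P a' b' = tens e P (a * a') (b * b') := by
  have e1 : ((P⁻¹ : GL ι F) : Matrix ι ι F) * (P : Matrix ι ι F) = 1 := by
    rw [← Units.val_mul, inv_mul_cancel, Units.val_one]
  unfold tens
  calc _ = (P : Matrix ι ι F) * Matrix.reindexAlgEquiv F F e.symm (a ⊗ₖ b) *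
        (((P⁻¹ : GL ι F) : Matrix ι ι F) * (P : Matrix ι ι F)) *
          Matrix.reindexAlgEquiv F F e.symm (a' ⊗ₖ b') * ((P⁻¹ : GL ι F) : Matrix ι ι F) := by
        simp only [mul_assoc]
    _ = (P : Matrix ι ι F) * (Matrix.reindexAlgEquiv F F e.symm (a ⊗ₖ b) *
          Matrix.reindexAlgEquiv F F e.symm (a' ⊗ₖ b')) * ((P⁻¹ : GL ι F) : Matrix ι ι F) := by
        rw [e1, mul_one]
        simp only [mul_assoc]
    _ = _ := by rw [← map_mul, ← Matrix.mul_kronecker_mul]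

theorem tens_one {n₁ n₂ : ℕ} (e : ι ≃ Fin n₁ × Fin n₂) (P : GL ι F) :
    tens e P (1 : Matrix (Fin n₁) (Fin n₁) F) (1 : Matrix (Fin n₂) (Fin n₂) F) = 1 := by
  unfold tens
  rw [Matrix.one_kronecker_one, map_one, mul_one, ← Units.val_mul, mul_inv_cancel, Units.val_one]

theorem tens_eq_iff {n₁ n₂ : ℕ} {e : ι ≃ Fin n₁ × Fin n₂} {P : GL ι F} {x : Matrix ι ι F}
    {y : Matrix (Fin n₁ × Fin n₂) (Fin n₁ × Fin n₂) F} :
    x = (P : Matrix ι ι F) * Matrix.reindexAlgEquiv F F e.symm y * ((P⁻¹ : GL ι F) : Matrix ι ι F) ↔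
      x * (P : Matrix ι ι F) = (P : Matrix ι ι F) * Matrix.reindexAlgEquiv F F e.symm y := by
  have e1 : ((P⁻¹ : GL ι F) : Matrix ι ι F) * (P : Matrix ι ι F) = 1 := by
    rw [← Units.val_mul, inv_mul_cancel, Units.val_one]
  have e2 : (P : Matrix ι ι F) * ((P⁻¹ : GL ι F) : Matrix ι ι F) = 1 := by
    rw [← Units.val_mul, mul_inv_cancel, Units.val_one]
  constructor
  · rintro rfl
    rw [mul_assoc, e1, mul_one]
  · intro h
    rw [← h, mul_assoc, e2, mul_one]

/-- The invertible matrix of a linear equivalence. -/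
def ofLinEquiv (T : (ι → F) ≃ₗ[F] (ι → F)) : GL ι F where
  val := LinearMap.toMatrix' (T : (ι → F) →ₗ[F] (ι → F))
  inv := LinearMap.toMatrix' (T.symm : (ι → F) →ₗ[F] (ι → F))
  val_inv := by
    rw [← LinearMap.toMatrix'_comp, LinearEquiv.comp_symm, LinearMap.toMatrix'_id]
  inv_val := by
    rw [← LinearMap.toMatrix'_comp, LinearEquiv.symm_comp, LinearMap.toMatrix'_id]

@[simp] theorem ofLinEquiv_mulVec (T : (ι → F) ≃ₗ[F] (ι → F)) (v : ι → F) :
    ((ofLinEquiv T : GL ι F) : Matrix ι ι F) *ᵥ v = T v := by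
  change LinearMap.toMatrix' (T : (ι → F) →ₗ[F] (ι → F)) *ᵥ v = T v
  rw [LinearMap.toMatrix'_mulVec]
  rfl

/-- A simple subalgebra with trivial centre is, up to conjugation, a tensor factor. -/
theorem exists_tens [Nonempty ι] [Finite F] {A : Subalgebra F (Matrix ι ι F)}
    (hA : IsSimpleRing A) (hcen : cen A = ⊥) :
    ∃ (n₁ n₂ : ℕ) (e : ι ≃ Fin n₁ × Fin n₂) (P : GL ι F), 0 < n₁ ∧ 0 < n₂ ∧
      n₁ * n₂ = Fintype.card ι ∧ (∀ x, x ∈ A ↔ ∃ a : Matrix (Fin n₁) (Fin n₁) F, x = tens e P a 1) := by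
  obtain ⟨d, hd, ⟨φ⟩⟩ := exists_algEquiv_matrix hA hcen
  have hdz : NeZero d := ⟨hd.ne'⟩
  let ψ : Matrix (Fin d) (Fin d) F →ₐ[F] Matrix ι ι F := A.val.comp φ.symm.toAlgHom
  let _ : Module (Matrix (Fin d) (Fin d) F) (ι → F) := Module.compHom (ι → F) (ψ : _ →+* Matrix ι ι F)
  have hsmul : ∀ (a : Matrix (Fin d) (Fin d) F) (v : ι → F), a • v = ψ a *ᵥ v := fun a v => rfl
  have : IsScalarTower F (Matrix (Fin d) (Fin d) F) (ι → F) := by
    refine ⟨fun c a v => ?_⟩
    rw [hsmul, hsmul, map_smul, smul_mulVec]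
  have : Module.Finite (Matrix (Fin d) (Fin d) F) (ι → F) :=
    Module.Finite.of_restrictScalars_finite F _ _
  obtain ⟨k, ⟨Φ⟩⟩ := (isotypicOfType_vec (F := F) (d := d) (M := ι → F)).linearEquiv_fun
  -- `Φ` as an `F`-linear equivalence
  let ΦF : (ι → F) ≃ₗ[F] (Fin k → Fin d → F) := Φ.restrictScalars F
  have hcard : d * k = Fintype.card ι := by
    have h1 := ΦF.finrank_eq
    rw [Module.finrank_fintype_fun_eq_card] at h1
    rw [h1, Module.finrank_pi_fintype]
    simp [mul_comm]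
  have hk : 0 < k := Nat.pos_of_ne_zero (by
    rintro rfl
    have := Fintype.card_pos (α := ι)
    omega)
  have e : ι ≃ Fin d × Fin k := Fintype.equivOfCardEq (by simp [hcard])
  -- the coordinate change
  let C : (ι → F) ≃ₗ[F] (Fin k → Fin d → F) :=
    { toFun := fun y j i => y (e.symm (i, j))
      map_add' := fun _ _ => rfl
      map_smul' := fun _ _ => rfl
      invFun := fun z l => z (e l).2 (e l).1
      left_inv := fun y => by
        funext l
        simp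
      right_inv := fun z => by
        funext j i
        simp }
  let T : (ι → F) ≃ₗ[F] (ι → F) := C.trans ΦF.symm
  let P : GL ι F := ofLinEquiv T
  have hP : ∀ v, (P : Matrix ι ι F) *ᵥ v = T v := fun v => ofLinEquiv_mulVec T v
  have hact : ∀ a : Matrix (Fin d) (Fin d) F, ψ a = tens e P a (1 : Matrix (Fin k) (Fin k) F) := by
    intro a
    unfold tens
    rw [tens_eq_iff]
    apply Matrix.toLin'.injective
    apply LinearMap.ext
    intro y
    rw [toLin'_apply, toLin'_apply, ← mulVec_mulVec, ← mulVec_mulVec, hP, hP]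
    have h1 : ψ a *ᵥ T y = a • T y := rfl
    rw [h1]
    have h2 : a • T y = ΦF.symm (a • C y) := by
      change a • Φ.symm (C y) = Φ.symm (a • C y)
      rw [map_smul]
    rw [h2]
    change ΦF.symm (a • C y) = ΦF.symm (C _)
    congr 1
    funext j i
    change (a *ᵥ (C y j)) i = (Matrix.reindexAlgEquiv F F e.symm (a ⊗ₖ (1 : Matrix (Fin k) (Fin k) F)) *ᵥ y) (e.symm (i, j))
    simp only [mulVec, dotProduct, coe_reindexAlgEquiv, reindex_apply, submatrix_apply,
      Equiv.symm_symm, Equiv.apply_symm_apply]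
    rw [← e.symm.sum_comp, Fintype.sum_prod_type]
    refine Finset.sum_congr rfl fun x _ => ?_
    rw [Finset.sum_eq_single j]
    · simp [C]
    · intro b _ hb
      simp [hb.symm]
    · intro h
      exact absurd (Finset.mem_univ _) h
  refine ⟨d, k, e, P, hd, hk, hcard, fun x => ⟨fun hx => ?_, ?_⟩⟩
  · refine ⟨φ ⟨x, hx⟩, ?_⟩
    rw [← hact]
    change x = ((φ.symm (φ ⟨x, hx⟩) : A) : Matrix ι ι F)
    rw [φ.symm_apply_apply]
  · rintro ⟨a, rfl⟩
    rw [← hact]
    exact (φ.symm a).2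

/-- A matrix commuting with `M_{n₁} ⊗ 1` is in `1 ⊗ M_{n₂}`. -/
theorem centralizer_tens {n₁ n₂ : ℕ} (hn : 0 < n₁) {X : Matrix (Fin n₁ × Fin n₂) (Fin n₁ × Fin n₂) F}
    (hX : ∀ a : Matrix (Fin n₁) (Fin n₁) F, (a ⊗ₖ (1 : Matrix (Fin n₂) (Fin n₂) F)) * X = X * (a ⊗ₖ 1)) :
    ∃ b : Matrix (Fin n₂) (Fin n₂) F, X = (1 : Matrix (Fin n₁) (Fin n₁) F) ⊗ₖ b := by
  have key : ∀ (i i' p r : Fin n₁) (j l : Fin n₂),
      (if p = i then X (i', j) (r, l) else 0) = if r = i' then X (p, j) (i, l) else 0 := by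
    intro i i' p r j l
    have h1 := congrFun (congrFun (hX (Matrix.single i i' 1)) (p, j)) (r, l)
    rw [Matrix.mul_apply, Matrix.mul_apply, Fintype.sum_prod_type, Fintype.sum_prod_type] at h1
    have e1 : ∑ x, ∑ y, ((Matrix.single i i' (1 : F)) ⊗ₖ (1 : Matrix (Fin n₂) (Fin n₂) F)) (p, j) (x, y) *
        X (x, y) (r, l) = if p = i then X (i', j) (r, l) else 0 := by
      rw [Finset.sum_eq_single i', Finset.sum_eq_single j]
      · by_cases h : p = i
        · subst h; simp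
        · simp [h, Ne.symm h]
      · intro b _ hb
        simp [hb.symm]
      · intro h; exact absurd (Finset.mem_univ _) h
      · intro b _ hb
        simp [hb.symm]
      · intro h; exact absurd (Finset.mem_univ _) h
    have e2 : ∑ x, ∑ y, X (p, j) (x, y) *
        ((Matrix.single i i' (1 : F)) ⊗ₖ (1 : Matrix (Fin n₂) (Fin n₂) F)) (x, y) (r, l) =
          if r = i' then X (p, j) (i, l) else 0 := by
      rw [Finset.sum_eq_single i, Finset.sum_eq_single l]
      · by_cases h : r = i'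
        · subst h; simp
        · simp [h, Ne.symm h]
      · intro b _ hb
        simp [hb]
      · intro h; exact absurd (Finset.mem_univ _) h
      · intro b _ hb
        simp [hb.symm]
      · intro h; exact absurd (Finset.mem_univ _) h
    rw [e1, e2] at h1
    exact h1
  let o : Fin n₁ := ⟨0, hn⟩
  refine ⟨Matrix.of fun j l => X (o, j) (o, l), ?_⟩
  ext ⟨p, j⟩ ⟨r, l⟩
  rw [kroneckerMap_apply, of_apply]
  by_cases h : p = r
  · subst h
    have h1 := key p o p o j l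
    simp only [if_true] at h1
    rw [one_apply_eq, one_mul]
    exact h1.symm
  · rw [one_apply_ne h, zero_mul]
    have h1 := key r p r r j l
    simp only [if_true] at h1
    rw [if_neg (Ne.symm h)] at h1
    exact h1

/-- Every automorphism of a full matrix algebra is inner. -/
theorem inner_of_algEquiv {n : ℕ} (α : Matrix (Fin n) (Fin n) F ≃ₐ[F] Matrix (Fin n) (Fin n) F) :
    ∃ g : GL (Fin n) F, ∀ a, α a * (g : Matrix (Fin n) (Fin n) F) = (g : Matrix (Fin n) (Fin n) F) * a := by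
  let β : Module.End F (Fin n → F) ≃ₐ[F] Module.End F (Fin n → F) :=
    (Matrix.toLinAlgEquiv'.symm.trans α).trans Matrix.toLinAlgEquiv'
  obtain ⟨T, hT⟩ := AlgEquiv.eq_linearEquivConjAlgEquiv β
  refine ⟨ofLinEquiv T, fun a => ?_⟩
  have h1 : Matrix.toLinAlgEquiv' (α a) = T ∘ₗ (Matrix.toLinAlgEquiv' a) ∘ₗ T.symm := by
    have h2 := congrArg (fun γ : Module.End F (Fin n → F) ≃ₐ[F] Module.End F (Fin n → F) =>
      γ (Matrix.toLinAlgEquiv' a)) hT
    simp only [LinearEquiv.conjAlgEquiv_apply] at h2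
    rw [← h2]
    simp [β]
  apply Matrix.toLin'.injective
  apply LinearMap.ext
  intro v
  rw [toLin'_apply, toLin'_apply, ← mulVec_mulVec, ← mulVec_mulVec, ofLinEquiv_mulVec, ofLinEquiv_mulVec]
  have h3 := LinearMap.congr_fun h1 (T v)
  rw [Matrix.toLinAlgEquiv'_apply] at h3
  rw [h3]
  simp

/-- The normaliser of a tensor factor is the tensor product group. -/
theorem le_tensorProductSubgroup {n₁ n₂ : ℕ} (hn : 0 < n₁) (hn2 : 0 < n₂) {e : ι ≃ Fin n₁ × Fin n₂} {P : GL ι F}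
    {A : Subalgebra F (Matrix ι ι F)} (hA : ∀ x, x ∈ A ↔ ∃ a : Matrix (Fin n₁) (Fin n₁) F, x = tens e P a 1)
    {H : Subgroup (GL ι F)} (hH : NormAlg H A) : H ≤ tensorProductSubgroup n₁ n₂ e P := by
  have hinj : ∀ a a' : Matrix (Fin n₁) (Fin n₁) F, tens e P a (1 : Matrix (Fin n₂) (Fin n₂) F) = tens e P a' 1 → a = a' := by
    intro a a' h
    have h1 : (P : Matrix ι ι F) * Matrix.reindexAlgEquiv F F e.symm (a ⊗ₖ (1 : Matrix (Fin n₂) (Fin n₂) F)) =
        (P : Matrix ι ι F) * Matrix.reindexAlgEquiv F F e.symm (a' ⊗ₖ (1 : Matrix (Fin n₂) (Fin n₂) F)) :=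
      (P⁻¹).isUnit.mul_right_cancel h
    have h2 : Matrix.reindexAlgEquiv F F e.symm (a ⊗ₖ (1 : Matrix (Fin n₂) (Fin n₂) F)) =
        Matrix.reindexAlgEquiv F F e.symm (a' ⊗ₖ (1 : Matrix (Fin n₂) (Fin n₂) F)) :=
      P.isUnit.mul_left_cancel h1
    have h3 := (Matrix.reindexAlgEquiv F F e.symm).injective h2
    ext i j
    have h4 := congrFun (congrFun h3 (i, ⟨0, hn2⟩)) (j, ⟨0, hn2⟩)
    simpa using h4
  let φ : Matrix (Fin n₁) (Fin n₁) F ≃ₐ[F] A :=
    AlgEquiv.ofBijective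
      ((AlgHom.codRestrict
        { toFun := fun a => tens e P a (1 : Matrix (Fin n₂) (Fin n₂) F)
          map_one' := tens_one e P
          map_mul' := fun a b => by rw [tens_mul, mul_one]
          map_zero' := by unfold tens; simp
          map_add' := fun a b => by unfold tens; rw [add_kronecker, map_add, mul_add, add_mul]
          commutes' := fun r => by
            rw [Algebra.algebraMap_eq_smul_one, Algebra.algebraMap_eq_smul_one, ← tens_one e P]
            unfold tens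
            rw [smul_kronecker, map_smul, mul_smul_comm, smul_mul_assoc] } A
        (fun a => (hA _).mpr ⟨a, rfl⟩)))
      ⟨fun a a' h => hinj a a' (congrArg (fun z : A => (z : Matrix ι ι F)) h), fun x => by
        obtain ⟨a, ha⟩ := (hA x).mp x.2
        exact ⟨a, Subtype.ext ha.symm⟩⟩
  have hφ : ∀ a, ((φ a : A) : Matrix ι ι F) = tens e P a 1 := fun a => rfl
  intro h hh
  obtain ⟨g, hg⟩ := inner_of_algEquiv ((φ.trans (conjSub hH ⟨h, hh⟩)).trans φ.symm)
  have key : ∀ a : Matrix (Fin n₁) (Fin n₁) F,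
      (h : Matrix ι ι F) * tens e P a (1 : Matrix (Fin n₂) (Fin n₂) F) * ((h⁻¹ : GL ι F) : Matrix ι ι F) *
        tens e P (g : Matrix (Fin n₁) (Fin n₁) F) 1 = tens e P (g : Matrix (Fin n₁) (Fin n₁) F) 1 * tens e P a 1 := by
    intro a
    have h1 := congrArg (fun z => tens e P z (1 : Matrix (Fin n₂) (Fin n₂) F)) (hg a)
    rw [← mul_one (1 : Matrix (Fin n₂) (Fin n₂) F), ← tens_mul, ← tens_mul] at h1
    rw [← h1]
    congr 1
    rw [← hφ, ← hφ]
    simp only [AlgEquiv.trans_apply, AlgEquiv.apply_symm_apply]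
    rfl
  -- `c = t(g⁻¹) h` centralises `A`
  have hgi : tens e P ((g⁻¹ : GL (Fin n₁) F) : Matrix (Fin n₁) (Fin n₁) F) (1 : Matrix (Fin n₂) (Fin n₂) F) *
      tens e P (g : Matrix (Fin n₁) (Fin n₁) F) 1 = 1 := by
    rw [tens_mul, ← Units.val_mul, inv_mul_cancel, Units.val_one, mul_one, tens_one]
  have hgi' : tens e P (g : Matrix (Fin n₁) (Fin n₁) F) (1 : Matrix (Fin n₂) (Fin n₂) F) *
      tens e P ((g⁻¹ : GL (Fin n₁) F) : Matrix (Fin n₁) (Fin n₁) F) 1 = 1 := by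
    rw [tens_mul, ← Units.val_mul, mul_inv_cancel, Units.val_one, mul_one, tens_one]
  have hh1 : ((h⁻¹ : GL ι F) : Matrix ι ι F) * (h : Matrix ι ι F) = 1 := by
    rw [← Units.val_mul, inv_mul_cancel, Units.val_one]
  obtain ⟨c, hc⟩ : ∃ c : Matrix ι ι F, c = tens e P ((g⁻¹ : GL (Fin n₁) F) : Matrix (Fin n₁) (Fin n₁) F) (1 : Matrix (Fin n₂) (Fin n₂) F) * (h : Matrix ι ι F) := ⟨_, rfl⟩
  have hcomm : ∀ a : Matrix (Fin n₁) (Fin n₁) F, tens e P a (1 : Matrix (Fin n₂) (Fin n₂) F) * c =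
      c * tens e P a 1 := by
    intro a
    calc tens e P a (1 : Matrix (Fin n₂) (Fin n₂) F) * c
        = (tens e P ((g⁻¹ : GL (Fin n₁) F) : Matrix (Fin n₁) (Fin n₁) F) (1 : Matrix (Fin n₂) (Fin n₂) F) *
            tens e P (g : Matrix (Fin n₁) (Fin n₁) F) 1) * tens e P a 1 * c := by rw [hgi, one_mul]
      _ = tens e P ((g⁻¹ : GL (Fin n₁) F) : Matrix (Fin n₁) (Fin n₁) F) (1 : Matrix (Fin n₂) (Fin n₂) F) *
            ((h : Matrix ι ι F) * tens e P a (1 : Matrix (Fin n₂) (Fin n₂) F) * ((h⁻¹ : GL ι F) : Matrix ι ι F) *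
        tens e P (g : Matrix (Fin n₁) (Fin n₁) F) 1) * c := by
          rw [key, mul_assoc _ _ (tens e P a 1)]
      _ = c * tens e P a 1 * (((h⁻¹ : GL ι F) : Matrix ι ι F) * ((tens e P (g : Matrix (Fin n₁) (Fin n₁) F) (1 : Matrix (Fin n₂) (Fin n₂) F) * tens e P ((g⁻¹ : GL (Fin n₁) F) : Matrix (Fin n₁) (Fin n₁) F) 1) * (h : Matrix ι ι F))) := by
          rw [hc]
          simp only [mul_assoc]
      _ = c * tens e P a 1 := by rw [hgi', one_mul, hh1, mul_one]
  obtain ⟨X, hX⟩ : ∃ X : Matrix (Fin n₁ × Fin n₂) (Fin n₁ × Fin n₂) F,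
      X = (Matrix.reindexAlgEquiv F F e.symm).symm (((P⁻¹ : GL ι F) : Matrix ι ι F) * c * (P : Matrix ι ι F)) :=
    ⟨_, rfl⟩
  have hP1 : ((P⁻¹ : GL ι F) : Matrix ι ι F) * (P : Matrix ι ι F) = 1 := by
    rw [← Units.val_mul, inv_mul_cancel, Units.val_one]
  have hP2 : (P : Matrix ι ι F) * ((P⁻¹ : GL ι F) : Matrix ι ι F) = 1 := by
    rw [← Units.val_mul, mul_inv_cancel, Units.val_one]
  have hcX : c = (P : Matrix ι ι F) * Matrix.reindexAlgEquiv F F e.symm X * ((P⁻¹ : GL ι F) : Matrix ι ι F) := by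
    rw [hX, AlgEquiv.apply_symm_apply]
    calc c = (P : Matrix ι ι F) * ((P⁻¹ : GL ι F) : Matrix ι ι F) * c * ((P : Matrix ι ι F) * ((P⁻¹ : GL ι F) : Matrix ι ι F)) := by
          rw [hP2, one_mul, mul_one]
      _ = _ := by simp only [mul_assoc]
  have hXcomm : ∀ a : Matrix (Fin n₁) (Fin n₁) F, (a ⊗ₖ (1 : Matrix (Fin n₂) (Fin n₂) F)) * X = X * (a ⊗ₖ 1) := by
    intro a
    apply (Matrix.reindexAlgEquiv F F e.symm).injective
    rw [map_mul, map_mul]
    have h1 := hcomm a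
    rw [hcX] at h1
    unfold tens at h1
    have h2 : (P : Matrix ι ι F) * (Matrix.reindexAlgEquiv F F e.symm (a ⊗ₖ (1 : Matrix (Fin n₂) (Fin n₂) F)) * Matrix.reindexAlgEquiv F F e.symm X) * ((P⁻¹ : GL ι F) : Matrix ι ι F) =
        (P : Matrix ι ι F) * (Matrix.reindexAlgEquiv F F e.symm X * Matrix.reindexAlgEquiv F F e.symm (a ⊗ₖ (1 : Matrix (Fin n₂) (Fin n₂) F))) * ((P⁻¹ : GL ι F) : Matrix ι ι F) := by
      calc _ = (P : Matrix ι ι F) * Matrix.reindexAlgEquiv F F e.symm (a ⊗ₖ (1 : Matrix (Fin n₂) (Fin n₂) F)) * (((P⁻¹ : GL ι F) : Matrix ι ι F) * (P : Matrix ι ι F)) * Matrix.reindexAlgEquiv F F e.symm X * ((P⁻¹ : GL ι F) : Matrix ι ι F) := by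
            rw [hP1, mul_one]; simp only [mul_assoc]
        _ = (P : Matrix ι ι F) * Matrix.reindexAlgEquiv F F e.symm X * (((P⁻¹ : GL ι F) : Matrix ι ι F) * (P : Matrix ι ι F)) * Matrix.reindexAlgEquiv F F e.symm (a ⊗ₖ (1 : Matrix (Fin n₂) (Fin n₂) F)) * ((P⁻¹ : GL ι F) : Matrix ι ι F) := by
            simp only [mul_assoc] at h1 ⊢
            exact h1
        _ = _ := by rw [hP1, mul_one]; simp only [mul_assoc]
    exact P.isUnit.mul_left_cancel ((P⁻¹).isUnit.mul_right_cancel h2)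
  obtain ⟨b, hb⟩ := centralizer_tens hn hXcomm
  have hcb : c = tens e P 1 b := by rw [hcX, hb]; rfl
  have hhb : (h : Matrix ι ι F) = tens e P (g : Matrix (Fin n₁) (Fin n₁) F) b := by
    calc (h : Matrix ι ι F) = tens e P (g : Matrix (Fin n₁) (Fin n₁) F) (1 : Matrix (Fin n₂) (Fin n₂) F) *
          tens e P ((g⁻¹ : GL (Fin n₁) F) : Matrix (Fin n₁) (Fin n₁) F) 1 * (h : Matrix ι ι F) := by
          rw [hgi', one_mul]
      _ = tens e P (g : Matrix (Fin n₁) (Fin n₁) F) (1 : Matrix (Fin n₂) (Fin n₂) F) * c := by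
          rw [mul_assoc, hc]
      _ = _ := by rw [hcb, tens_mul, mul_one, one_mul]
  -- `b` is invertible
  have hbdet : IsUnit b.det := by
    have h1 : IsUnit (c.det) := by
      rw [hc, Matrix.det_mul]
      refine IsUnit.mul ?_ ((Matrix.isUnit_iff_isUnit_det _).mp h.isUnit)
      have := congrArg Matrix.det hgi
      rw [Matrix.det_mul, Matrix.det_one] at this
      exact IsUnit.of_mul_eq_one _ this
    rw [hcX, hb, Matrix.det_mul, Matrix.det_mul, Matrix.det_reindexAlgEquiv, Matrix.det_kronecker,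
      Matrix.det_one, one_pow, one_mul] at h1
    rw [IsUnit.mul_iff, IsUnit.mul_iff] at h1
    exact (isUnit_pow_iff (by simpa using hn.ne')).mp h1.1.2
  let B : GL (Fin n₂) F := Matrix.nonsingInvUnit b hbdet
  let k : GL (Fin n₁ × Fin n₂) F :=
    { val := (g : Matrix (Fin n₁) (Fin n₁) F) ⊗ₖ (B : Matrix (Fin n₂) (Fin n₂) F)
      inv := ((g⁻¹ : GL (Fin n₁) F) : Matrix (Fin n₁) (Fin n₁) F) ⊗ₖ ((B⁻¹ : GL (Fin n₂) F) : Matrix (Fin n₂) (Fin n₂) F)
      val_inv := by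
        rw [← Matrix.mul_kronecker_mul, ← Units.val_mul, ← Units.val_mul, mul_inv_cancel, mul_inv_cancel,
          Units.val_one, Units.val_one, Matrix.one_kronecker_one]
      inv_val := by
        rw [← Matrix.mul_kronecker_mul, ← Units.val_mul, ← Units.val_mul, inv_mul_cancel, inv_mul_cancel,
          Units.val_one, Units.val_one, Matrix.one_kronecker_one] }
  refine ⟨glReindex e.symm k, ⟨k, ⟨g, B, rfl⟩, rfl⟩, ?_⟩
  apply Units.ext
  rw [hhb]
  rfl

end Cfsg.Agent.H912
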