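import Cfsg.Agent.H912.BdOrth2

/-!
# `Ω⁻_{2m}(2)`, `m ≥ 4`: bound 14

The stabiliser of a totally singular 3-space contains `2^(3+6):L_3(2)`.
-/

set_option autoImplicit false
set_option linter.dupNamespace false
set_option linter.unusedSectionVars false

universe u v w

namespace Cfsg.Agent.H912.Bd

open Matrix Cfsg.Agent.H934.IdxCl Cfsg.Agent.H118.SLTrans
open scoped commutatorElement

/-! ### Change of the field -/

section Iso

variable {ι : Type} [Fintype ι] [DecidableEq ι] {K₁ K₂ : Type} [Field K₁] [Field K₂] (σ : K₁ ≃+* K₂)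

/-- isometries over isomorphic fields -/
def isoMap (Q₁ : (ι → K₁) → K₁) (Q₂ : (ι → K₂) → K₂) (h : ∀ v : ι → K₁, Q₂ (fun i => σ (v i)) = σ (Q₁ v)) :
    Cfsg.isometryGroup K₁ Q₁ →* Cfsg.isometryGroup K₂ Q₂ :=
  ((Units.map ((σ : K₁ →+* K₂).mapMatrix : Matrix ι ι K₁ →+* Matrix ι ι K₂).toMonoidHom).comp
    (Cfsg.isometryGroup K₁ Q₁).subtype).codRestrict _ (by
    intro M u v
    have h1 : (fun i => σ (σ.symm (u i))) = u := funext fun i => σ.apply_symm_apply _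
    have h2 : ((σ : K₁ →+* K₂).mapMatrix ((M : GL ι K₁) : Matrix ι ι K₁)) *ᵥ u
        = fun i => σ ((((M : GL ι K₁) : Matrix ι ι K₁) *ᵥ (fun i => σ.symm (u i))) i) := by
      funext i
      have := RingHom.map_mulVec (σ : K₁ →+* K₂) ((M : GL ι K₁) : Matrix ι ι K₁) (fun i => σ.symm (u i)) i
      have h3 : ((σ : K₁ →+* K₂) : K₁ → K₂) ∘ (fun i => σ.symm (u i)) = u := h1
      rw [h3] at this
      exact this.symm
    change Q₂ (((σ : K₁ →+* K₂).mapMatrix ((M : GL ι K₁) : Matrix ι ι K₁)) *ᵥ u) = Q₂ u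
    rw [h2, h]
    have h4 := M.2 (fun i => σ.symm (u i)) (fun i => σ.symm (u i))
    have h5 : Q₁ (((M : GL ι K₁) : Matrix ι ι K₁) *ᵥ (fun i => σ.symm (u i))) = Q₁ (fun i => σ.symm (u i)) := h4
    rw [h5, ← h, h1])

theorem isoMap_injective (Q₁ : (ι → K₁) → K₁) (Q₂ : (ι → K₂) → K₂)
    (h : ∀ v : ι → K₁, Q₂ (fun i => σ (v i)) = σ (Q₁ v)) : Function.Injective (isoMap σ Q₁ Q₂ h) := by
  intro M N hMN
  have h1 : (σ : K₁ →+* K₂).mapMatrix ((M : GL ι K₁) : Matrix ι ι K₁)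
      = (σ : K₁ →+* K₂).mapMatrix ((N : GL ι K₁) : Matrix ι ι K₁) :=
    congrArg (fun x : Cfsg.isometryGroup K₂ Q₂ => ((x : GL ι K₂) : Matrix ι ι K₂)) hMN
  apply Subtype.ext
  apply Units.ext
  ext i j
  have h2 := congrFun (congrFun h1 i) j
  exact σ.injective h2

end Iso

/-! ### The group over `F_2` -/

/-- indices -/
abbrev I8 := (Fin 3 ⊕ Fin 3) ⊕ Fin 2

/-- the minus type form over `F_2` -/
abbrev Q8 : (I8 → ZMod 2) → ZMod 2 := Cfsg.quadFormMinus 3 (ZMod 2) 1 1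

/-- numbering -/
def ix8 : I8 → ℕ
  | .inl (.inl i) => i
  | .inl (.inr i) => 3 + i
  | .inr i => 6 + i

/-- matrices from tables -/
def tab8 (l : List (List (ZMod 2))) : Matrix I8 I8 (ZMod 2) := Matrix.of fun i j => (l.getD (ix8 i) []).getD (ix8 j) 0

theorem all8 (P : (I8 → ZMod 2) → Prop)
    (h : ∀ a b c d e f g k : ZMod 2, P (Sum.elim (Sum.elim ![a, b, c] ![d, e, f]) ![g, k])) (v : I8 → ZMod 2) : P v := by
  have h1 : v = Sum.elim (Sum.elim ![v (.inl (.inl 0)), v (.inl (.inl 1)), v (.inl (.inl 2))]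
      ![v (.inl (.inr 0)), v (.inl (.inr 1)), v (.inl (.inr 2))]) ![v (.inr 0), v (.inr 1)] := by
    funext i
    rcases i with (i | i) | i <;> fin_cases i <;> rfl
  rw [h1]
  exact h _ _ _ _ _ _ _ _

/-- an involutory isometry -/
def mk8 (M : Matrix I8 I8 (ZMod 2)) (hM : M * M = 1)
    (hQ : ∀ a b c d e f g k : ZMod 2, Q8 (M *ᵥ Sum.elim (Sum.elim ![a, b, c] ![d, e, f]) ![g, k])
      = Q8 (Sum.elim (Sum.elim ![a, b, c] ![d, e, f]) ![g, k])) : Cfsg.isometryGroup (ZMod 2) Q8 :=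
  ⟨⟨M, M, hM, hM⟩, fun u _ => all8 (fun v => Q8 (M *ᵥ v) = Q8 v) hQ u⟩

/-- `g1` -/
def mg1 : Matrix I8 I8 (ZMod 2) := tab8 [[1, 1, 0, 0, 0, 0, 0, 0], [0, 1, 0, 0, 0, 0, 0, 0], [0, 0, 1, 0, 0, 0, 0, 0],
  [0, 0, 0, 1, 0, 0, 0, 0], [0, 0, 0, 1, 1, 0, 0, 0], [0, 0, 0, 0, 0, 1, 0, 0], [0, 0, 0, 0, 0, 0, 1, 0],
  [0, 0, 0, 0, 0, 0, 0, 1]]

/-- `h1` -/
def mh1 : Matrix I8 I8 (ZMod 2) := tab8 [[1, 0, 0, 0, 0, 0, 0, 0], [0, 1, 0, 0, 1, 0, 0, 1], [0, 0, 1, 0, 0, 0, 0, 0],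
  [0, 0, 0, 1, 0, 0, 0, 0], [0, 0, 0, 0, 1, 0, 0, 0], [0, 0, 0, 0, 0, 1, 0, 0], [0, 0, 0, 0, 1, 0, 1, 0],
  [0, 0, 0, 0, 0, 0, 0, 1]]

/-- `g2` -/
def mg2 : Matrix I8 I8 (ZMod 2) := tab8 [[1, 0, 0, 0, 0, 0, 0, 0], [0, 1, 1, 0, 0, 0, 0, 0], [0, 0, 1, 0, 0, 0, 0, 0],
  [0, 0, 0, 1, 0, 0, 0, 0], [0, 0, 0, 0, 1, 0, 0, 0], [0, 0, 0, 0, 1, 1, 0, 0], [0, 0, 0, 0, 0, 0, 1, 0],
  [0, 0, 0, 0, 0, 0, 0, 1]]

/-- `h2` -/
def mh2 : Matrix I8 I8 (ZMod 2) := tab8 [[1, 0, 0, 0, 0, 0, 0, 0], [0, 1, 0, 0, 0, 0, 0, 0], [0, 0, 1, 0, 0, 1, 1, 0],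
  [0, 0, 0, 1, 0, 0, 0, 0], [0, 0, 0, 0, 1, 0, 0, 0], [0, 0, 0, 0, 0, 1, 0, 0], [0, 0, 0, 0, 0, 0, 1, 0],
  [0, 0, 0, 0, 0, 1, 0, 1]]

/-- `a` -/
def ma8 : Matrix I8 I8 (ZMod 2) := mg1 * mh1 * (mg1 * mh1)

/-- `b` -/
def mb8 : Matrix I8 I8 (ZMod 2) := mg2 * mh2 * (mg2 * mh2)

def g18 : Cfsg.isometryGroup (ZMod 2) Q8 := mk8 mg1 (by decide +kernel) (by decide +kernel)
def h18 : Cfsg.isometryGroup (ZMod 2) Q8 := mk8 mh1 (by decide +kernel) (by decide +kernel)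
def g28 : Cfsg.isometryGroup (ZMod 2) Q8 := mk8 mg2 (by decide +kernel) (by decide +kernel)
def h28 : Cfsg.isometryGroup (ZMod 2) Q8 := mk8 mh2 (by decide +kernel) (by decide +kernel)

/-- the first element -/
def a8I : Cfsg.isometryGroup (ZMod 2) Q8 := g18 * h18 * (g18 * h18)

/-- the second element -/
def b8I : Cfsg.isometryGroup (ZMod 2) Q8 := g28 * h28 * (g28 * h28)

theorem inv_mk8 (M : Matrix I8 I8 (ZMod 2)) (hM : M * M = 1) (hQ) : (mk8 M hM hQ)⁻¹ = mk8 M hM hQ := by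
  rw [inv_eq_iff_mul_eq_one]
  exact Subtype.ext (Units.ext hM)

theorem a8I_mem : a8I ∈ commutator (Cfsg.isometryGroup (ZMod 2) Q8) := by
  have h1 : a8I = ⁅g18, h18⁆ := by
    rw [commutatorElement_def, g18, h18, inv_mk8, inv_mk8, a8I, g18, h18]
    group
  rw [h1, commutator_def]
  exact Subgroup.commutator_mem_commutator (Subgroup.mem_top _) (Subgroup.mem_top _)

theorem b8I_mem : b8I ∈ commutator (Cfsg.isometryGroup (ZMod 2) Q8) := by
  have h1 : b8I = ⁅g28, h28⁆ := by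
    rw [commutatorElement_def, g28, h28, inv_mk8, inv_mk8, b8I, g28, h28]
    group
  rw [h1, commutator_def]
  exact Subgroup.commutator_mem_commutator (Subgroup.mem_top _) (Subgroup.mem_top _)

theorem val_a8I : (((a8I : Cfsg.isometryGroup (ZMod 2) Q8) : GL I8 (ZMod 2)) : Matrix I8 I8 (ZMod 2)) = ma8 := rfl

theorem val_b8I : (((b8I : Cfsg.isometryGroup (ZMod 2) Q8) : GL I8 (ZMod 2)) : Matrix I8 I8 (ZMod 2)) = mb8 := rfl

theorem hyp8 : ∀ v w : I8 → ZMod 2, (∀ i, i ∉ Set.range (epM (le_refl 3)) → v i = w i) →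
    Cfsg.quadFormPlus 3 (ZMod 2) (v ∘ epM (le_refl 3)) = Cfsg.quadFormPlus 3 (ZMod 2) (w ∘ epM (le_refl 3)) →
    Q8 v = Q8 w := by
  intro v w h1 h2
  have h3 := plus_sum (le_refl 3) (v := v ∘ Sum.inl) (w := w ∘ Sum.inl) (fun i hi => h1 _ (by
    rintro ⟨x, hx⟩
    exact hi ⟨x, Sum.inl_injective hx⟩)) h2
  have h4 : ∀ i, v (.inr i) = w (.inr i) := fun i => h1 _ (by rintro ⟨x, hx⟩; exact absurd hx Sum.inl_ne_inr)
  have h5 : ∀ v : (Fin 3 ⊕ Fin 3) ⊕ Fin 2 → ZMod 2, Q8 v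
      = Cfsg.quadFormPlus 3 (ZMod 2) (v ∘ Sum.inl)
        + (v (.inr 0) ^ 2 + 1 * v (.inr 0) * v (.inr 1) + 1 * v (.inr 1) ^ 2) := fun v => rfl
  rw [h5, h5, h3, h4, h4]

/-- plus type into minus type -/
def j8 : Cfsg.Omega (ZMod 2) (Cfsg.quadFormPlus 3 (ZMod 2)) →* Cfsg.Omega (ZMod 2) Q8 :=
  commHom (embIso (epM (le_refl 3)) _ _ hyp8)

theorem j8_injective : Function.Injective j8 := commHom_injective _ (embIso_injective _ _ _ hyp8)

theorem j8_val (x : Cfsg.Omega (ZMod 2) (Cfsg.quadFormPlus 3 (ZMod 2))) :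
    ((((j8 x : Cfsg.Omega (ZMod 2) Q8) : Cfsg.isometryGroup (ZMod 2) Q8) : GL I8 (ZMod 2)) : Matrix I8 I8 (ZMod 2))
      = emb (epM (le_refl 3)) ((((x : Cfsg.Omega (ZMod 2) (Cfsg.quadFormPlus 3 (ZMod 2))) :
        Cfsg.isometryGroup (ZMod 2) (Cfsg.quadFormPlus 3 (ZMod 2))) : GL (Fin 3 ⊕ Fin 3) (ZMod 2)) :
        Matrix (Fin 3 ⊕ Fin 3) (Fin 3 ⊕ Fin 3) (ZMod 2)) := rfl

/-- equality of elements of `Ω` from matrices -/
theorem ext8 {x y : Cfsg.Omega (ZMod 2) Q8}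
    (h : (((x : Cfsg.isometryGroup (ZMod 2) Q8) : GL I8 (ZMod 2)) : Matrix I8 I8 (ZMod 2))
      = (((y : Cfsg.isometryGroup (ZMod 2) Q8) : GL I8 (ZMod 2)) : Matrix I8 I8 (ZMod 2))) : x = y :=
  Subtype.ext (Subtype.ext (Units.ext h))

/-- `a` -/
def a8O : Cfsg.Omega (ZMod 2) Q8 := ⟨a8I, a8I_mem⟩

/-- `b` -/
def b8O : Cfsg.Omega (ZMod 2) Q8 := ⟨b8I, b8I_mem⟩

/-- the unipotent elements as matrices -/
def me8 (v : Fin 3 → ZMod 2) : Matrix I8 I8 (ZMod 2) := emb (epM (le_refl 3)) (fromBlocks 1 (Sk v) 0 1)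

theorem e8_val (v : Multiplicative (Fin 3 → ZMod 2)) :
    ((((j8 (uO v) : Cfsg.Omega (ZMod 2) Q8) : Cfsg.isometryGroup (ZMod 2) Q8) : GL I8 (ZMod 2)) :
      Matrix I8 I8 (ZMod 2)) = me8 (Multiplicative.toAdd v) := rfl

theorem me8_comm_a : ∀ v : Fin 3 → ZMod 2, ma8 * me8 v = me8 v * ma8 := by
  intro v
  have h : ∀ a b c : ZMod 2, ma8 * me8 ![a, b, c] = me8 ![a, b, c] * ma8 := by decide +kernel
  have h1 : v = ![v 0, v 1, v 2] := by funext i; fin_cases i <;> rfl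
  rw [h1]; exact h _ _ _

theorem me8_comm_b : ∀ v : Fin 3 → ZMod 2, mb8 * me8 v = me8 v * mb8 := by
  intro v
  have h : ∀ a b c : ZMod 2, mb8 * me8 ![a, b, c] = me8 ![a, b, c] * mb8 := by decide +kernel
  have h1 : v = ![v 0, v 1, v 2] := by funext i; fin_cases i <;> rfl
  rw [h1]; exact h _ _ _

theorem me8_ab : ma8 * mb8 = me8 ![0, 0, 1] * (mb8 * ma8) := by decide +kernel

theorem ma8_four : ma8 * ma8 * (ma8 * ma8) = 1 := by decide +kernel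

/-- an element of order 7 of `SL_3(2)` -/
def s7 : SpecialLinearGroup (Fin 3) (ZMod 2) := ⟨!![0, 0, 1; 1, 0, 1; 0, 1, 0], by decide +kernel⟩

/-- the action -/
def n7 (M : Matrix (Fin 3) (Fin 3) (ZMod 2)) (v : Fin 3 → ZMod 2) : Fin 3 → ZMod 2 := (M.adjugate)ᵀ *ᵥ v

theorem s7_pow : ∀ i : ℕ, (s7 ^ i).1 = (s7.1) ^ i := by
  intro i
  induction i with
  | zero => rw [pow_zero, pow_zero]; rfl
  | succ i ih =>
    rw [pow_succ, pow_succ, ← ih]
    rfl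

theorem s7_free : ∀ i : Fin 7, 0 < (i : ℕ) → ∀ a b c : ZMod 2, (((s7.1) ^ (i : ℕ)).adjugate)ᵀ *ᵥ ![a, b, c] = ![a, b, c] →
    (![a, b, c] : Fin 3 → ZMod 2) = 0 := by
  decide +kernel

section Main

variable {F : Type u} [Field F] {T : Type v} [Group T]

set_option maxHeartbeats 1000000 in
theorem bd_of_q8 (hrF : (2 : F) ≠ 0)
    (f : Cfsg.Omega (ZMod 2) Q8 →* T) (hf : f.ker ≤ Subgroup.center _) : Bd F 2 14 T := by
  classical
  let E : Subgroup (Cfsg.Omega (ZMod 2) Q8) := (j8.comp (uO (K := ZMod 2))).range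
  have hinj : Function.Injective (j8.comp (uO (K := ZMod 2))) := j8_injective.comp uO_injective
  have hfin : Finite E := (MonoidHom.ofInjective hinj).toEquiv.finite_iff.1 (by
    have : Finite (Fin 3 → ZMod 2) := inferInstance
    exact this)
  let g : Cfsg.Omega (ZMod 2) Q8 := j8 (slO le_rfl s7)
  have hg : ∀ i : ℕ, g ^ i = j8 (slO le_rfl (s7 ^ i)) := fun i => by rw [map_pow, map_pow]
  have hconj : ∀ (i : ℕ) (v : Multiplicative (Fin 3 → ZMod 2)), g ^ i * j8 (uO v) * (g ^ i)⁻¹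
      = j8 (uO (Multiplicative.ofAdd ((((s7 ^ i).1).adjugate)ᵀ *ᵥ (Multiplicative.toAdd v)))) := by
    intro i v
    rw [hg, ← map_inv, ← map_mul, ← map_mul, conj_uO]
  have hfree : ∀ i : ℕ, 0 < i → i < 7 → ∀ e ∈ E, g ^ i * e * (g ^ i)⁻¹ = e → e = 1 := by
    rintro i hi0 hi7 _ ⟨v, rfl⟩ he
    rw [MonoidHom.comp_apply] at he ⊢
    rw [hconj] at he
    have h1 := hinj he
    have h2 : (((s7 ^ i).1).adjugate)ᵀ *ᵥ (Multiplicative.toAdd v) = Multiplicative.toAdd v :=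
      congrArg Multiplicative.toAdd h1
    have h3 : Multiplicative.toAdd v = ![(Multiplicative.toAdd v) 0, (Multiplicative.toAdd v) 1,
        (Multiplicative.toAdd v) 2] := by funext i; fin_cases i <;> rfl
    rw [s7_pow] at h2
    have h4 : Multiplicative.toAdd v = 0 := by
      rw [h3] at h2 ⊢
      exact s7_free ⟨i, hi7⟩ hi0 _ _ _ h2
    have h5 : v = 1 := congrArg Multiplicative.ofAdd h4
    rw [h5, map_one, map_one]
  have hnorm : ∀ i : ℕ, ∀ e ∈ E, g ^ i * e * (g ^ i)⁻¹ ∈ E := by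
    rintro i _ ⟨v, rfl⟩
    rw [MonoidHom.comp_apply, hconj]
    exact ⟨_, rfl⟩
  have hfree2 : ∀ i j : ℕ, i < j → j < 7 → ∀ e ∈ E, g ^ i * e * (g ^ i)⁻¹ = g ^ j * e * (g ^ j)⁻¹ → e = 1 := by
    intro i j hij hj e he h
    refine hfree (j - i) (by omega) (by omega) e he ?_
    have h1 : g ^ j = g ^ i * g ^ (j - i) := by rw [← pow_add]; congr 1; omega
    have h2 : g ^ (j - i) * e * (g ^ (j - i))⁻¹ = (g ^ i)⁻¹ * (g ^ j * e * (g ^ j)⁻¹) * g ^ i := by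
      rw [h1]; group
    rw [h2, ← h]; group
  have hc : b8O * a8O ≠ 1 ∨ True := Or.inr trivial
  -- the commutator
  have hab : a8O * b8O * a8O⁻¹ * b8O⁻¹ = j8 (uO (Multiplicative.ofAdd ![0, 0, 1])) := by
    rw [mul_assoc, ← _root_.mul_inv_rev, mul_inv_eq_iff_eq_mul]
    exact ext8 me8_ab
  have hmemc : j8 (uO (Multiplicative.ofAdd (![0, 0, 1] : Fin 3 → ZMod 2))) ∈ E :=
    ⟨Multiplicative.ofAdd (![0, 0, 1] : Fin 3 → ZMod 2), MonoidHom.comp_apply _ _ _⟩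
  have hne : j8 (uO (Multiplicative.ofAdd (![0, 0, 1] : Fin 3 → ZMod 2))) ≠ 1 := by
    intro h
    have h1 := hinj (h.trans (map_one (j8.comp uO)).symm)
    have h2 : (![0, 0, 1] : Fin 3 → ZMod 2) = 0 := congrArg Multiplicative.toAdd h1
    exact absurd h2 (by decide)
  have hinjg : Set.InjOn (fun i : ℕ => g ^ i) (Finset.range 7 : Set ℕ) := by
    intro i hi j hj hij
    simp only [Finset.coe_range, Set.mem_Iio] at hi hj hij
    rcases lt_trichotomy i j with h1 | h1 | h1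
    · exact absurd (hfree2 i j h1 hj _ hmemc (by rw [hij])) hne
    · exact h1
    · exact absurd (hfree2 j i h1 hi _ hmemc (by rw [hij])) hne
  have hsq : ∀ x ∈ E, x ^ 2 = 1 := by
    rintro _ ⟨v, rfl⟩
    rw [← map_pow]
    have h1 : v ^ 2 = 1 := by
      change Multiplicative.ofAdd (2 • (Multiplicative.toAdd v)) = 1
      have h2 : 2 • (Multiplicative.toAdd v : Fin 3 → ZMod 2) = 0 := by
        rw [← Nat.cast_smul_eq_nsmul (ZMod 2)]
        rw [show ((2 : ℕ) : ZMod 2) = 0 from rfl, zero_smul]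
      rw [h2]; rfl
    rw [h1, map_one]
  have key := bd_of_free_ext_hom (F := F) Nat.prime_two (by exact_mod_cast hrF) f hf E
    (by
      rintro _ ⟨v, rfl⟩ _ ⟨w, rfl⟩
      rw [← map_mul, ← map_mul, mul_comm])
    (by
      rintro ⟨x, hx⟩
      exact ⟨1, Subtype.ext (by rw [pow_one]; exact hsq x hx)⟩)
    ((Finset.range 7).image (fun i => g ^ i))
    (by rw [Finset.card_image_of_injOn hinjg, Finset.card_range]; norm_num)
    (by
      intro s hs e he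
      obtain ⟨i, -, rfl⟩ := Finset.mem_image.1 hs
      exact hnorm i e he)
    (by
      intro s hs t ht hst e he h
      obtain ⟨i, hi, rfl⟩ := Finset.mem_image.1 hs
      obtain ⟨j, hj, rfl⟩ := Finset.mem_image.1 ht
      rw [Finset.mem_range] at hi hj
      rcases lt_trichotomy i j with h1 | h1 | h1
      · exact hfree2 i j h1 hj e he h
      · exact absurd (by rw [h1]) hst
      · exact hfree2 j i h1 hi e he h.symm)
    (a := a8O) (b := b8O)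
    (by
      rintro _ ⟨v, rfl⟩
      exact ext8 (me8_comm_a _))
    (by
      rintro _ ⟨v, rfl⟩
      exact ext8 (me8_comm_b _))
    (k := 2) (ext8 (by
      have h1 : a8O ^ 2 ^ 2 = a8O * a8O * (a8O * a8O) := by
        rw [show (2 : ℕ) ^ 2 = 4 from rfl]
        simp only [pow_succ, pow_zero, one_mul, mul_assoc]
      rw [h1]
      exact ma8_four))
    (by rw [hab]; exact hmemc) (by rw [hab]; exact hne) (by rw [hab]; exact hsq _ hmemc)
  rwa [Finset.card_image_of_injOn hinjg, Finset.card_range] at key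

/-- **`PΩ⁻_{2m+2}(2)`, `m ≥ 3`**: bound 14. -/
theorem bd_pomega_minus_two (hrF : (2 : F) ≠ 0) {K : Type} [Field K] [Fintype K] (hK : Fintype.card K = 2) {m : ℕ}
    (hm : 3 ≤ m) (a b : K) (hab : ∀ z₁ z₂ : K, z₁ ^ 2 + a * z₁ * z₂ + b * z₂ ^ 2 = 0 → z₁ = 0 ∧ z₂ = 0) :
    Bd F 2 14 (Cfsg.POmega K (Cfsg.quadFormMinus m K a b)) := by
  obtain ⟨σ⟩ : Nonempty (ZMod 2 ≃+* K) := by
    have : Fact (Nat.Prime 2) := ⟨Nat.prime_two⟩
    exact ⟨ZMod.ringEquivOfPrime K Nat.prime_two hK⟩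
  have hel : ∀ x : K, x = 0 ∨ x = 1 := by
    intro x
    have h1 : σ (σ.symm x) = x := σ.apply_symm_apply x
    have h2 : σ.symm x = 0 ∨ σ.symm x = 1 := by
      generalize σ.symm x = y
      revert y; decide
    rcases h2 with h | h
    · left; rw [← h1, h, map_zero]
    · right; rw [← h1, h, map_one]
  have hb : b = 1 := by
    rcases hel b with h | h
    · exact absurd (hab 0 1 (by rw [h]; ring)).2 one_ne_zero
    · exact h
  have h2 : (2 : K) = 0 := by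
    have : σ 2 = 2 := map_ofNat σ 2
    rw [← this, show (2 : ZMod 2) = 0 from rfl, map_zero]
  have ha : a = 1 := by
    rcases hel a with h | h
    · exact absurd (hab 1 1 (by rw [h, hb]; ring_nf; linear_combination h2)).2 one_ne_zero
    · exact h
  subst ha hb
  have hσ : ∀ v : I8 → ZMod 2, Cfsg.quadFormMinus 3 K 1 1 (fun i => σ (v i)) = σ (Q8 v) := by
    intro v
    simp only [Cfsg.quadFormMinus, map_add, map_sum, map_mul, map_pow, map_one]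
  obtain ⟨f, hf⟩ : ∃ f : Cfsg.Omega (ZMod 2) Q8 →* Cfsg.POmega K (Cfsg.quadFormMinus m K 1 1),
      f.ker ≤ Subgroup.center _ := by
    obtain ⟨f, hf⟩ := exists_minus_minus (K := K) hm 1 1
    have hj := commHom_injective _ (isoMap_injective σ Q8 (Cfsg.quadFormMinus 3 K 1 1) hσ)
    refine ⟨f.comp (commHom (isoMap σ Q8 (Cfsg.quadFormMinus 3 K 1 1) hσ)), ?_⟩
    intro x hx
    have h1 := hf (show commHom (isoMap σ Q8 (Cfsg.quadFormMinus 3 K 1 1) hσ) x ∈ f.ker from hx)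
    rw [Subgroup.mem_center_iff] at h1 ⊢
    intro y
    apply hj
    rw [map_mul, map_mul, h1]
  exact bd_of_q8 hrF f hf

end Main

end Cfsg.Agent.H912.Bd
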