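import Mathlib

/-!
# The Frobenius group `11:5` in `GL_5(3)`, its overgroup `L_2(11)` and the 22 vectors of `M_11`: explicit matrices
-/

set_option autoImplicit false

namespace Cfsg.Agent.H912.Eleven

open Matrix

abbrev K := ZMod 3
abbrev V := Fin 5 → K
abbrev M5 := Matrix (Fin 5) (Fin 5) K

/-- companion matrix of `X^5 + X^4 - X^3 + X^2 - 1` -/
def C : M5 := !![0,0,0,0,1; 1,0,0,0,0; 0,1,0,0,2; 0,0,1,0,1; 0,0,0,1,2]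
/-- its inverse -/
def Ci : M5 := !![0,1,0,0,0; 1,0,1,0,0; 2,0,0,1,0; 1,0,0,0,1; 1,0,0,0,0]
def Y : M5 := !![1,0,2,0,1; 0,0,2,1,0; 0,0,0,0,2; 0,0,1,0,1; 0,1,1,0,2]
def Yi : M5 := !![1,0,2,1,0; 0,0,1,2,1; 0,0,1,1,0; 0,1,1,1,0; 0,0,2,0,0]
def T : M5 := !![1,0,0,0,0; 0,1,1,0,0; 0,0,2,0,0; 0,0,1,0,1; 0,0,1,1,0]
/-- an element of order eight of `M_11` -/
def W : M5 := !![0,0,0,2,2; 0,0,2,2,0; 0,0,0,2,0; 0,1,0,0,0; 1,0,0,2,0]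
def Wi : M5 := !![0,0,2,0,1; 0,0,0,1,0; 0,2,1,0,0; 0,0,2,0,0; 2,0,1,0,0]
/-- basis `e₀, e₁, Y e₁, Y² e₁, Y³ e₁` -/
def B : M5 := !![1,0,0,1,1; 0,1,0,0,2; 0,0,0,2,1; 0,0,0,1,1; 0,0,1,2,0]
def Bi : M5 := !![1,0,0,2,0; 0,1,2,2,0; 0,0,1,2,1; 0,0,1,2,0; 0,0,2,2,0]

def e0 : V := ![1,0,0,0,0]
def e1 : V := ![0,1,0,0,0]

theorem C_Ci : C * Ci = 1 := by decide +kernel
theorem Ci_C : Ci * C = 1 := by decide +kernel
theorem Y_Yi : Y * Yi = 1 := by decide +kernel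
theorem Yi_Y : Yi * Y = 1 := by decide +kernel
theorem T_T : T * T = 1 := by decide +kernel
theorem W_Wi : W * Wi = 1 := by decide +kernel
theorem Wi_W : Wi * W = 1 := by decide +kernel
theorem B_Bi : B * Bi = 1 := by decide +kernel

/-- the powers of `C` -/
def Cp : ℕ → M5
  | 0 => 1
  | 1 => C
  | 2 => !![0,0,0,1,2; 0,0,0,0,1; 1,0,0,2,1; 0,1,0,1,1; 0,0,1,2,2]
  | 3 => !![0,0,1,2,2; 0,0,0,1,2; 0,0,2,1,2; 1,0,1,1,0; 0,1,2,2,2]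
  | 4 => !![0,1,2,2,2; 0,0,1,2,2; 0,2,1,2,0; 0,1,1,0,1; 1,2,2,2,1]
  | 5 => !![1,2,2,2,1; 0,1,2,2,2; 2,1,2,0,1; 1,1,0,1,1; 2,2,2,1,0]
  | 6 => !![2,2,2,1,0; 1,2,2,2,1; 1,2,0,1,2; 1,0,1,1,1; 2,2,1,0,1]
  | 7 => !![2,2,1,0,1; 2,2,2,1,0; 2,0,1,2,0; 0,1,1,1,0; 2,1,0,1,0]
  | 8 => !![2,1,0,1,0; 2,2,1,0,1; 0,1,2,0,0; 1,1,1,0,0; 1,0,1,0,0]
  | 9 => !![1,0,1,0,0; 2,1,0,1,0; 1,2,0,0,1; 1,1,0,0,0; 0,1,0,0,0]
  | 10 => Ci
  | _ => 1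

theorem Cp_succ : ∀ k < 11, Cp k * C = Cp ((k + 1) % 11) := by
  intro k hk
  interval_cases k <;> decide +kernel

theorem C_pow (k : ℕ) : C ^ k = Cp (k % 11) := by
  induction k with
  | zero => rfl
  | succ k ih =>
    rw [pow_succ, ih, Cp_succ _ (Nat.mod_lt _ (by norm_num))]
    congr 1
    omega

theorem C_eleven : C ^ 11 = 1 := C_pow 11

/-- the polynomial `X^5 + X^4 - X^3 + X^2 - 1` -/
def f1 (X : M5) : M5 := X ^ 5 + X ^ 4 - X ^ 3 + X ^ 2 - 1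
/-- the polynomial `X^5 - X^3 + X^2 - X - 1` -/
def f2 (X : M5) : M5 := X ^ 5 - X ^ 3 + X ^ 2 - X - 1

theorem f1_C_pow (k : ℕ) : f1 (C ^ k) =
    Cp (k * 5 % 11) + Cp (k * 4 % 11) - Cp (k * 3 % 11) + Cp (k * 2 % 11) - 1 := by
  unfold f1
  rw [← pow_mul, ← pow_mul, ← pow_mul, ← pow_mul, C_pow, C_pow, C_pow, C_pow]

theorem f1_C : f1 C = 0 := by
  have h := f1_C_pow 1
  rw [pow_one] at h
  rw [h]
  decide +kernel

theorem f1_C_pow_ne (k : ℕ) (hk : k < 11) (hk0 : k ≠ 0) (h : f1 (C ^ k) = 0) :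
    k = 1 ∨ k = 3 ∨ k = 4 ∨ k = 5 ∨ k = 9 := by
  rw [f1_C_pow] at h
  have h2 : ¬ (Cp (2 * 5 % 11) + Cp (2 * 4 % 11) - Cp (2 * 3 % 11) + Cp (2 * 2 % 11) - 1 = 0) := by decide +kernel
  have h6 : ¬ (Cp (6 * 5 % 11) + Cp (6 * 4 % 11) - Cp (6 * 3 % 11) + Cp (6 * 2 % 11) - 1 = 0) := by decide +kernel
  have h7 : ¬ (Cp (7 * 5 % 11) + Cp (7 * 4 % 11) - Cp (7 * 3 % 11) + Cp (7 * 2 % 11) - 1 = 0) := by decide +kernel
  have h8 : ¬ (Cp (8 * 5 % 11) + Cp (8 * 4 % 11) - Cp (8 * 3 % 11) + Cp (8 * 2 % 11) - 1 = 0) := by decide +kernel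
  have h10 : ¬ (Cp (10 * 5 % 11) + Cp (10 * 4 % 11) - Cp (10 * 3 % 11) + Cp (10 * 2 % 11) - 1 = 0) := by decide +kernel
  interval_cases k <;> first | omega | exact absurd h h2 | exact absurd h h6 | exact absurd h h7 | exact absurd h h8 |
    exact absurd h h10

/-- `C` has no fixed vector -/
theorem C_fix : ∀ v : V, C *ᵥ v = v → v = 0 := by decide +kernel

/-- the fixed vectors of `Y` -/
theorem Y_fix : ∀ v : V, Y *ᵥ v = v → v = v 0 • e0 := by decide +kernel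

theorem Y_e0 : Y *ᵥ e0 = e0 := by decide +kernel

/-- `e_i = C^i e₀` -/
theorem C_e0 : ∀ i : Fin 5, Cp (i : ℕ) *ᵥ e0 = Pi.single i 1 := by decide +kernel

/-- `Y e_i = C^{4 i} e₀` -/
theorem Y_col : ∀ i : Fin 5, Y *ᵥ Pi.single i 1 = Cp (4 * (i : ℕ) % 11) *ᵥ e0 := by decide +kernel

theorem YC : Y * C = Cp 4 * Y := by decide +kernel

theorem TY : T * Y = Yi * T := by decide +kernel

theorem Ci_e0 : Ci *ᵥ e0 = (2 : K) • e0 + e1 + (2 : K) • (Y *ᵥ e1) + Y *ᵥ (Y *ᵥ e1) := by decide +kernel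

theorem B_col : ∀ i : Fin 5, B *ᵥ Pi.single i 1 =
    ![e0, e1, Y *ᵥ e1, Y *ᵥ (Y *ᵥ e1), Y *ᵥ (Y *ᵥ (Y *ᵥ e1))] i := by decide +kernel

/-- the matrix with columns `α e₀, b, Y⁻¹ b, Y⁻² b, Y⁻³ b` -/
def Nm (α : K) (b : V) : M5 := Matrix.of fun i j =>
  ![α • e0, b, Yi *ᵥ b, Yi *ᵥ (Yi *ᵥ b), Yi *ᵥ (Yi *ᵥ (Yi *ᵥ b))] j i

theorem solve : ∀ α : K, α ≠ 0 → ∀ b : V,
    α • b = Ci *ᵥ ((2 * α) • e0 + b + (2 : K) • (Yi *ᵥ b) + Yi *ᵥ (Yi *ᵥ b)) →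
      (Nm α b * Bi) * (Nm α b * Bi) = 1 → Nm α b * Bi = T := by decide +kernel

/-! ### The 22 vectors -/

/-- code of a vector -/
def code (v : V) : ℕ := (v 0).val + 3 * ((v 1).val + 3 * ((v 2).val + 3 * ((v 3).val + 3 * (v 4).val)))

/-- the 22 vectors -/
def om (v : V) : Bool :=
  [1, 2, 3, 6, 9, 18, 27, 43, 54, 77, 81, 94, 116, 129, 146, 160, 162, 188, 203, 208, 220, 231].contains (code v)

theorem om_C : ∀ v : V, om (C *ᵥ v) = om v := by decide +kernel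
theorem om_Y : ∀ v : V, om (Y *ᵥ v) = om v := by decide +kernel
theorem om_T : ∀ v : V, om (T *ᵥ v) = om v := by decide +kernel
theorem om_W : ∀ v : V, om (W *ᵥ v) = om v := by decide +kernel

/-- a transvection -/
def X : M5 := !![1,0,0,0,0; 1,1,0,0,0; 0,0,1,0,0; 0,0,0,1,0; 0,0,0,0,1]
def Xi : M5 := !![1,0,0,0,0; 2,1,0,0,0; 0,0,1,0,0; 0,0,0,1,0; 0,0,0,0,1]
theorem X_Xi : X * Xi = 1 := by decide +kernel
theorem Xi_X : Xi * X = 1 := by decide +kernel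
theorem om_X : om (X *ᵥ e0) ≠ om e0 := by decide +kernel

theorem det_X : X.det = 1 := by decide +kernel
theorem det_W : W.det = 1 := by decide +kernel

/-- `W` has order eight: `W^4 ≠ 1`. -/
theorem W_four : (W * W) * (W * W) ≠ 1 := by decide +kernel
theorem W_eight : ((W * W) * (W * W)) * ((W * W) * (W * W)) = 1 := by decide +kernel

end Cfsg.Agent.H912.Eleven
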