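import Cfsg.Agent.H912.ElevenData

/-!
# Normal form of `x, y, t` (`x^11 = 1`, `y x y⁻¹ = x^4`, `t y t⁻¹ = y⁻¹`, `(x t)^3 = 1`) in `GL_5(3)`
-/

set_option autoImplicit false

namespace Cfsg.Agent.H912.Eleven

open Matrix

theorem ext_single {A B : M5} (h : ∀ j : Fin 5, A *ᵥ Pi.single j 1 = B *ᵥ Pi.single j 1) : A = B := by
  ext i j
  have := congrFun (h j) i
  rwa [Matrix.mulVec_single_one, Matrix.mulVec_single_one] at this

theorem ext_vec {A B : M5} (h : ∀ v, A *ᵥ v = B *ᵥ v) : A = B := ext_single fun _ => h _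

/-! ### counting fixed points -/

theorem fix_modEq {q : ℕ} [hq : Fact q.Prime] {α : Type*} [Fintype α] [DecidableEq α] (f : α → α)
    (hf : ∀ v, f^[q] v = v) : Fintype.card α ≡ Fintype.card {v // f v = v} [MOD q] := by
  let f' : Function.End α := f
  have h : f' ^ q ^ 1 = 1 := by
    rw [pow_one]
    funext v
    exact hf v
  have h2 := Equiv.Perm.card_fixedPoints_modEq h
  have h3 : Fintype.card (Function.fixedPoints f') = Fintype.card {v // f v = v} :=
    Fintype.card_congr (Equiv.refl _)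
  rwa [h3] at h2

theorem iterate_mulVec (X : M5) (n : ℕ) (v : V) : (fun v => X *ᵥ v)^[n] v = (X ^ n) *ᵥ v := by
  induction n generalizing v with
  | zero => simp
  | succ n ih => rw [Function.iterate_succ_apply, ih, pow_succ, Matrix.mulVec_mulVec]

theorem exists_fixed {Z : M5} (h5 : Z ^ 5 = 1) : ∃ w : V, w ≠ 0 ∧ Z *ᵥ w = w := by
  by_contra hcon
  push Not at hcon
  have : Fact (Nat.Prime 5) := ⟨by norm_num⟩
  have h1 := fix_modEq (q := 5) (fun v : V => Z *ᵥ v) (fun v => by rw [iterate_mulVec, h5, Matrix.one_mulVec])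
  have h2 : Fintype.card {v : V // (fun v => Z *ᵥ v) v = v} = 1 := by
    rw [Fintype.card_eq_one_iff]
    refine ⟨⟨0, Matrix.mulVec_zero _⟩, ?_⟩
    rintro ⟨w, hw⟩
    apply Subtype.ext
    by_contra hne
    exact hcon w hne hw
  rw [h2] at h1
  have h3 : Fintype.card V = 243 := by simp
  rw [h3] at h1
  exact absurd h1 (by decide)

theorem no_inv_sub {X : M5} (h11 : X ^ 11 = 1) (hfix : ∀ v, X *ᵥ v = v → v = 0) (S : Submodule K V)
    (hS : ∀ v ∈ S, X *ᵥ v ∈ S) : S = ⊥ ∨ S = ⊤ := by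
  classical
  have : Fact (Nat.Prime 11) := ⟨by norm_num⟩
  have : Fintype S := Fintype.ofFinite S
  let f : S → S := fun v => ⟨X *ᵥ v.1, hS v.1 v.2⟩
  have hf : ∀ n (v : S), ((f^[n] v : S) : V) = (X ^ n) *ᵥ v.1 := by
    intro n
    induction n with
    | zero => intro v; simp
    | succ n ih =>
      intro v
      rw [Function.iterate_succ_apply, ih, pow_succ, ← Matrix.mulVec_mulVec]
  have h1 := fix_modEq (q := 11) f (fun v => Subtype.ext (by rw [hf, h11, Matrix.one_mulVec]))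
  have h2 : Fintype.card {v : S // f v = v} = 1 := by
    rw [Fintype.card_eq_one_iff]
    refine ⟨⟨0, Subtype.ext (Matrix.mulVec_zero X)⟩, ?_⟩
    rintro ⟨w, hw⟩
    apply Subtype.ext
    apply Subtype.ext
    exact hfix w.1 (congrArg Subtype.val hw)
  rw [h2] at h1
  have h3 : Fintype.card S = 3 ^ Module.finrank K S := by
    rw [Module.card_eq_pow_finrank (K := K) (V := S), ZMod.card]
  rw [h3] at h1
  have h4 : Module.finrank K S ≤ 5 := by
    have := Submodule.finrank_le S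
    simpa using this
  have h5 : Module.finrank K S = 0 ∨ Module.finrank K S = 5 := by
    generalize Module.finrank K S = d at *
    interval_cases d <;> first | omega | (exfalso; revert h1; decide)
  rcases h5 with h5 | h5
  · left
    exact Submodule.finrank_eq_zero.1 h5
  · right
    apply Submodule.eq_top_of_finrank_eq
    rw [h5]
    simp

theorem fix_zero {X : M5} (h11 : X ^ 11 = 1) (h1 : X ≠ 1) : ∀ v, X *ᵥ v = v → v = 0 := by
  classical
  have : Fact (Nat.Prime 11) := ⟨by norm_num⟩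
  let S : Submodule K V := LinearMap.ker (Matrix.mulVecLin (X - 1))
  have hmem : ∀ v, v ∈ S ↔ X *ᵥ v = v := by
    intro v
    rw [LinearMap.mem_ker, Matrix.mulVecLin_apply, Matrix.sub_mulVec, Matrix.one_mulVec, sub_eq_zero]
  have : Fintype S := Fintype.ofFinite S
  have h2 := fix_modEq (q := 11) (fun v : V => X *ᵥ v) (fun v => by rw [iterate_mulVec, h11, Matrix.one_mulVec])
  have h3 : Fintype.card {v : V // (fun v => X *ᵥ v) v = v} = Fintype.card S :=
    Fintype.card_congr (Equiv.subtypeEquivRight fun v => (hmem v).symm)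
  have h4 : Fintype.card S = 3 ^ Module.finrank K S := by
    rw [Module.card_eq_pow_finrank (K := K) (V := S), ZMod.card]
  rw [h3, h4, show Fintype.card V = 243 by simp] at h2
  have h5 : Module.finrank K S ≤ 5 := by
    have := Submodule.finrank_le S
    simpa using this
  have h6 : Module.finrank K S = 0 ∨ Module.finrank K S = 5 := by
    generalize Module.finrank K S = d at *
    interval_cases d <;> first | omega | (exfalso; revert h2; decide)
  rcases h6 with h6 | h6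
  · have h7 := Submodule.finrank_eq_zero.1 h6
    intro v hv
    have := (hmem v).2 hv
    rwa [h7, Submodule.mem_bot] at this
  · exfalso
    apply h1
    have h7 : S = ⊤ := by
      apply Submodule.eq_top_of_finrank_eq
      rw [h6]
      simp
    have h8 : ∀ v, X *ᵥ v = v := fun v => (hmem v).1 (by rw [h7]; trivial)
    apply ext_vec
    intro v
    rw [h8, Matrix.one_mulVec]

/-! ### The cyclic basis -/

/-- the matrix with columns `w, X w, X² w, X³ w, X⁴ w` -/
def Gm (X : M5) (w : V) : M5 := Matrix.of fun i j => ((X ^ (j : ℕ)) *ᵥ w) i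

theorem Gm_single (X : M5) (w : V) (j : Fin 5) : Gm X w *ᵥ Pi.single j 1 = (X ^ (j : ℕ)) *ᵥ w := by
  rw [Matrix.mulVec_single_one]
  rfl

theorem C_single : ∀ j : Fin 5, C *ᵥ Pi.single j 1 = ![Pi.single 1 1, Pi.single 2 1, Pi.single 3 1, Pi.single 4 1,
    Pi.single 0 1 + (2 : K) • Pi.single 2 1 + Pi.single 3 1 + (2 : K) • Pi.single 4 1] j := by decide +kernel

theorem Gm_C {X : M5} {w : V} (hw : f1 X *ᵥ w = 0) : X * Gm X w = Gm X w * C := by
  apply ext_single
  intro j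
  rw [← Matrix.mulVec_mulVec, ← Matrix.mulVec_mulVec, C_single, Gm_single, Matrix.mulVec_mulVec, ← pow_succ']
  fin_cases j
  · exact (Gm_single X w 1).symm
  · exact (Gm_single X w 2).symm
  · exact (Gm_single X w 3).symm
  · exact (Gm_single X w 4).symm
  · change (X ^ 5) *ᵥ w = Gm X w *ᵥ (Pi.single 0 1 + (2 : K) • Pi.single 2 1 + Pi.single 3 1 +
      (2 : K) • Pi.single 4 1)
    rw [Matrix.mulVec_add, Matrix.mulVec_add, Matrix.mulVec_add, Matrix.mulVec_smul, Matrix.mulVec_smul, Gm_single,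
      Gm_single, Gm_single, Gm_single]
    unfold f1 at hw
    rw [Matrix.sub_mulVec, Matrix.add_mulVec, Matrix.sub_mulVec, Matrix.add_mulVec, Matrix.one_mulVec] at hw
    change _ = (X ^ 0) *ᵥ w + (2 : K) • (X ^ 2) *ᵥ w + (X ^ 3) *ᵥ w + (2 : K) • (X ^ 4) *ᵥ w
    rw [pow_zero, Matrix.one_mulVec]
    have h2 : (2 : K) = -1 := by decide
    rw [h2, neg_smul, neg_smul, one_smul, one_smul]
    have h3 : (X ^ 5) *ᵥ w = w + -(X ^ 2 *ᵥ w) + X ^ 3 *ᵥ w + -(X ^ 4 *ᵥ w) +
      (X ^ 5 *ᵥ w + X ^ 4 *ᵥ w - X ^ 3 *ᵥ w + X ^ 2 *ᵥ w - w) := by abel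
    rw [hw, add_zero] at h3
    exact h3

theorem pow_Gm {X : M5} {w : V} (h : X * Gm X w = Gm X w * C) (n : ℕ) : X ^ n * Gm X w = Gm X w * C ^ n := by
  induction n with
  | zero => rw [pow_zero, pow_zero, one_mul, mul_one]
  | succ n ih => rw [pow_succ', mul_assoc, ih, ← mul_assoc, h, mul_assoc, ← pow_succ']

theorem isUnit_Gm {X : M5} {w : V} (hw0 : w ≠ 0) (h : X * Gm X w = Gm X w * C) : IsUnit (Gm X w) := by
  have hS := no_inv_sub C_eleven C_fix (LinearMap.ker (Matrix.mulVecLin (Gm X w))) (by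
    intro v hv
    rw [LinearMap.mem_ker, Matrix.mulVecLin_apply] at hv ⊢
    rw [Matrix.mulVec_mulVec, ← h, ← Matrix.mulVec_mulVec, hv, Matrix.mulVec_zero])
  rcases hS with hS | hS
  · rw [← Matrix.mulVec_injective_iff_isUnit]
    exact LinearMap.ker_eq_bot.1 hS
  · exfalso
    apply hw0
    have h1 : Pi.single 0 1 ∈ LinearMap.ker (Matrix.mulVecLin (Gm X w)) := by rw [hS]; trivial
    rw [LinearMap.mem_ker, Matrix.mulVecLin_apply, Gm_single] at h1
    simpa using h1

/-! ### the two factors of `X^11 - 1` -/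

section poly

theorem factor (x : Polynomial K) : (x ^ 5 + x ^ 4 - x ^ 3 + x ^ 2 - 1) * (x ^ 5 - x ^ 3 + x ^ 2 - x - 1) * (x - 1) =
    x ^ 11 - 1 := by
  have h3 : (3 : Polynomial K) = 0 := by
    have h : ((3 : ℕ) : Polynomial K) = 0 := CharP.cast_eq_zero _ 3
    exact_mod_cast h
  linear_combination (-(x ^ 8 + 2 * x ^ 5 + x ^ 2) * (x - 1)) * h3

theorem factor_mat (Z : M5) : (Z - 1) * (f1 Z * f2 Z) = Z ^ 11 - 1 := by
  have h := congrArg (Polynomial.aeval Z) (factor Polynomial.X)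
  simp only [map_mul, map_sub, map_add, map_pow, map_one, Polynomial.aeval_X] at h
  rw [← h]
  have hc : Commute (Z - 1) (f1 Z * f2 Z) := by
    unfold f1 f2
    have h1 : Commute (Z - 1) Z := (Commute.refl Z).sub_left (Commute.one_left Z)
    have h2 : ∀ n, Commute (Z - 1) (Z ^ n) := fun n => h1.pow_right n
    have h3 : Commute (Z - 1) 1 := Commute.one_right _
    exact ((((h2 5).add_right (h2 4)).sub_right (h2 3)).add_right (h2 2) |>.sub_right h3).mul_right
      (((((h2 5).sub_right (h2 3)).add_right (h2 2)).sub_right h1).sub_right h3)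
  exact hc.eq

end poly

theorem f1_conj {Z G G' : M5} (h : Z * G = G * C) (hG : G * G' = 1) : f1 Z = 0 := by
  have hp : ∀ n : ℕ, Z ^ n * G = G * C ^ n := by
    intro n
    induction n with
    | zero => rw [pow_zero, pow_zero, one_mul, mul_one]
    | succ n ih => rw [pow_succ', mul_assoc, ih, ← mul_assoc, h, mul_assoc, ← pow_succ']
  have h1 : f1 Z * G = G * f1 C := by
    unfold f1
    simp only [sub_mul, add_mul, mul_sub, mul_add, hp, one_mul, mul_one]
  rw [f1_C, mul_zero] at h1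
  calc f1 Z = f1 Z * (G * G') := by rw [hG, mul_one]
    _ = 0 := by rw [← mul_assoc, h1, zero_mul]

/-- An element of order eleven of `GL_5(3)` is annihilated by one of the two factors. -/
theorem f1_or_f2 {Z : M5} (h11 : Z ^ 11 = 1) (h1 : Z ≠ 1) : f1 Z = 0 ∨ f2 Z = 0 := by
  have hfix := fix_zero h11 h1
  have h2 : f1 Z * f2 Z = 0 := by
    apply ext_vec
    intro v
    rw [Matrix.zero_mulVec]
    apply hfix
    have h3 := factor_mat Z
    rw [h11, sub_self] at h3
    have h4 := congrArg (fun A : M5 => A *ᵥ v) h3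
    simp only [Matrix.zero_mulVec] at h4
    rw [← Matrix.mulVec_mulVec, Matrix.sub_mulVec, Matrix.one_mulVec, sub_eq_zero] at h4
    exact h4
  by_cases h3 : f2 Z = 0
  · exact Or.inr h3
  · left
    obtain ⟨v, hv⟩ : ∃ v, f2 Z *ᵥ v ≠ 0 := by
      by_contra hcon
      push Not at hcon
      exact h3 (ext_vec fun v => by rw [hcon v, Matrix.zero_mulVec])
    have h4 : f1 Z *ᵥ (f2 Z *ᵥ v) = 0 := by rw [Matrix.mulVec_mulVec, h2, Matrix.zero_mulVec]
    have h5 := Gm_C h4
    obtain ⟨u, hu⟩ := isUnit_Gm hv h5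
    refine f1_conj h5 (G' := (u⁻¹ : M5ˣ)) ?_
    rw [← hu]
    exact u.mul_inv

theorem f1_inv {Z Z' : M5} (h : Z * Z' = 1) (h' : Z' * Z = 1) (hf : f2 Z = 0) : f1 Z' = 0 := by
  have hc : Commute Z Z' := h.trans h'.symm
  have hp : ∀ k m : ℕ, Z ^ k * Z' ^ (k + m) = Z' ^ m := by
    intro k m
    rw [pow_add, ← mul_assoc, ← hc.mul_pow, h, one_pow, one_mul]
  have h1 : f2 Z * Z' ^ 5 = -f1 Z' := by
    unfold f1 f2
    simp only [sub_mul, add_mul, one_mul]
    rw [show Z ^ 5 * Z' ^ 5 = 1 from by simpa using hp 5 0, show Z ^ 3 * Z' ^ 5 = Z' ^ 2 from hp 3 2,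
      show Z ^ 2 * Z' ^ 5 = Z' ^ 3 from hp 2 3, show Z * Z' ^ 5 = Z' ^ 4 from by simpa using hp 1 4]
    abel
  rw [hf, zero_mul] at h1
  exact neg_eq_zero.1 h1.symm

/-! ### the normal form -/

/-- Normal form of `x` and `y`. -/
theorem exists_form {Z Q : M5} (hf : f1 Z = 0) (hQ : Q ^ 5 = 1) (hQZ : Q * Z = Z ^ 4 * Q) :
    ∃ G G' : M5, G * G' = 1 ∧ G' * G = 1 ∧ Z * G = G * C ∧ Q * G = G * Y := by
  obtain ⟨w, hw0, hw⟩ := exists_fixed hQ
  have h5 := Gm_C (X := Z) (w := w) (by rw [hf, Matrix.zero_mulVec])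
  obtain ⟨u, hu⟩ := isUnit_Gm hw0 h5
  refine ⟨Gm Z w, (u⁻¹ : M5ˣ), by rw [← hu]; exact u.mul_inv, by rw [← hu]; exact u.inv_mul, h5, ?_⟩
  have hQn : ∀ n : ℕ, Q * Z ^ n = Z ^ (4 * n) * Q := by
    intro n
    induction n with
    | zero => simp
    | succ n ih => rw [pow_succ, ← mul_assoc, ih, mul_assoc, hQZ, ← mul_assoc, ← pow_add]; congr 2
  apply ext_single
  intro j
  rw [← Matrix.mulVec_mulVec, Gm_single, Matrix.mulVec_mulVec, hQn, ← Matrix.mulVec_mulVec, hw, ← Matrix.mulVec_mulVec,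
    Y_col, ← C_pow, Matrix.mulVec_mulVec, ← pow_Gm h5, ← Matrix.mulVec_mulVec]
  have h6 : Gm Z w *ᵥ e0 = w := by
    have h7 : e0 = Pi.single 0 1 := by decide +kernel
    rw [h7, Gm_single]
    simp
  rw [h6]

/-- Normal form of `t`. -/
theorem t_form {t : M5} (h2 : t * t = 1) (hY : t * Y = Yi * t) (h3 : (C * t) * (C * t) * (C * t) = 1) : t = T := by
  have hYtY : Y * (t * Y) = t := by rw [hY, ← mul_assoc, Y_Yi, one_mul]
  have ha : Y *ᵥ (t *ᵥ e0) = t *ᵥ e0 := by
    conv_rhs => rw [← hYtY, ← Matrix.mulVec_mulVec, ← Matrix.mulVec_mulVec, Y_e0]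
  have ha2 := Y_fix _ ha
  set α : K := (t *ᵥ e0) 0 with hα
  set b : V := t *ᵥ e1 with hb
  have hα0 : α ≠ 0 := by
    intro h0
    rw [h0, zero_smul] at ha2
    have h4 : t *ᵥ (t *ᵥ e0) = e0 := by rw [Matrix.mulVec_mulVec, h2, Matrix.one_mulVec]
    rw [ha2, Matrix.mulVec_zero] at h4
    have h5 := congrFun h4 0
    exact absurd h5 (by decide)
  have hYv : ∀ v, t *ᵥ (Y *ᵥ v) = Yi *ᵥ (t *ᵥ v) := by
    intro v
    rw [Matrix.mulVec_mulVec, hY, ← Matrix.mulVec_mulVec]
  have hB : t * B = Nm α b := by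
    apply ext_single
    intro j
    rw [← Matrix.mulVec_mulVec, B_col, Matrix.mulVec_single_one]
    fin_cases j
    · exact ha2
    · rfl
    · exact hYv _
    · change t *ᵥ (Y *ᵥ (Y *ᵥ e1)) = _
      rw [hYv, hYv]
      rfl
    · change t *ᵥ (Y *ᵥ (Y *ᵥ (Y *ᵥ e1))) = _
      rw [hYv, hYv, hYv]
      rfl
  have ht : t = Nm α b * Bi := by rw [← hB, mul_assoc, B_Bi, mul_one]
  have hrel : t * (C * t) = Ci * (t * Ci) := by
    calc t * (C * t) = Ci * ((C * t) * (C * t) * (C * t)) * t * Ci * 1 := by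
          rw [mul_one]
          have e1 : Ci * ((C * t) * (C * t) * (C * t)) = (Ci * C) * (t * (C * t * (C * t))) := by noncomm_ring
          rw [e1, Ci_C, one_mul]
          have e2 : t * (C * t * (C * t)) * t * Ci = t * (C * t) * (C * (t * t)) * Ci := by noncomm_ring
          rw [e2, h2, mul_one, mul_assoc, C_Ci, mul_one]
      _ = Ci * (t * Ci) := by rw [h3, mul_one, mul_one, mul_assoc]
  have he : α • b = Ci *ᵥ ((2 * α) • e0 + b + (2 : K) • (Yi *ᵥ b) + Yi *ᵥ (Yi *ᵥ b)) := by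
    have h4 := congrArg (fun A : M5 => A *ᵥ e0) hrel
    simp only [← Matrix.mulVec_mulVec] at h4
    rw [ha2, Ci_e0, Matrix.mulVec_smul, Matrix.mulVec_smul] at h4
    have hCe : C *ᵥ e0 = e1 := by decide +kernel
    have ht1 : t *ᵥ ((2 : K) • e0 + e1 + (2 : K) • (Y *ᵥ e1) + Y *ᵥ (Y *ᵥ e1)) =
        (2 * α) • e0 + b + (2 : K) • (Yi *ᵥ b) + Yi *ᵥ (Yi *ᵥ b) := by
      rw [Matrix.mulVec_add, Matrix.mulVec_add, Matrix.mulVec_add, Matrix.mulVec_smul, Matrix.mulVec_smul, hYv, hYv,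
        hYv, ha2, smul_smul]
    rw [hCe, ht1] at h4
    exact h4
  have := solve α hα0 b he (by rw [← ht]; exact h2)
  rw [ht]
  exact this

end Cfsg.Agent.H912.Eleven
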