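import Cfsg.Agent.H912.ElevenThree
import Cfsg.Prelude.Def_GeometricClasses

/-!
# `L_2(11)` is not maximal in `SL_5(3)`
-/

set_option autoImplicit false

universe u

namespace Cfsg.Agent.H912.Eleven

open Matrix Cfsg Cfsg.Geo

section dat

open Cfsg.Agent.H911

theorem dat_of_equiv {P : Subgroup GG} (φ : TT ≃* P) : ∃ x y t : GG, Dat P x y t := by
  let f : TT →* GG := P.subtype.comp φ.toMonoidHom
  have hf : Function.Injective f := P.subtype_injective.comp φ.injective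
  have hmem : ∀ z : TT, f z ∈ P := fun z => (φ z).2
  have hsurj : ∀ z ∈ P, ∃ w : TT, f w = z := by
    intro z hz
    exact ⟨φ.symm ⟨z, hz⟩, by
      change ((φ (φ.symm ⟨z, hz⟩) : P) : GG) = z
      rw [MulEquiv.apply_symm_apply]⟩
  refine ⟨f (SLTwo.mk (SLTwo.U 1)), f (SLTwo.mk (SLTwo.hh L211.two)), f (SLTwo.mk SLTwo.ww), hmem _, hmem _, hmem _,
    ?_, ?_, ?_, ?_, ?_, ?_, ?_, ?_, ?_, ?_, ?_⟩
  · rw [← map_pow, u11, map_one]
  · intro h
    exact L211.U_ne_one (hf (h.trans (map_one f).symm))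
  · rw [← map_pow, h5, map_one]
  · rw [← map_mul, ← map_inv, ← map_mul, L211.conj_four, map_pow]
  · rw [← map_mul, w2, map_one]
  · rw [← map_mul, ← map_inv, ← map_mul, wh2, map_inv]
  · rw [← map_mul, ← map_mul, ← map_mul, uw3, map_one]
  · have h1 : P = (⊤ : Subgroup TT).map f := by
      apply le_antisymm
      · intro z hz
        obtain ⟨w, hw⟩ := hsurj z hz
        exact ⟨w, trivial, hw⟩
      · rintro _ ⟨w, -, rfl⟩
        exact hmem w
    conv_lhs => rw [h1, ← gen, MonoidHom.map_closure]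
    congr 1
    rw [Set.image_insert_eq, Set.image_insert_eq, Set.image_singleton]
  · intro z hz h11 h1
    obtain ⟨w, rfl⟩ := hsurj z hz
    obtain ⟨c, k, hk, hk0, hc⟩ := conj_eleven w (hf (by rw [map_pow, h11, map_one]))
      (fun h => h1 (by rw [h, map_one]))
    exact ⟨f c, hmem c, k, hk, hk0, by rw [← map_mul, ← map_inv, ← map_mul, hc, map_pow]⟩
  · intro z hz hzx
    obtain ⟨w, rfl⟩ := hsurj z hz
    obtain ⟨k, hk⟩ := cent w (hf (by rw [map_mul, map_mul, hzx]))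
    exact ⟨k, by rw [hk, map_pow]⟩
  · rw [Nat.card_congr φ.symm.toEquiv]
    exact L211.card_T

end dat

/-- over `F_3` -/
theorem exists_over {P H : Subgroup GG} (φ : TT ≃* P) (hPH : P ≤ H)
    (hn : ∀ g ∈ H, ∀ z ∈ P, g * z * g⁻¹ ∈ P) (hdet : ∀ g ∈ H, g.1.det = 1) :
    ∃ M : Subgroup GG, H ≤ M ∧ (∀ g ∈ M, g.1.det = 1) ∧ (∃ m ∈ M, m ∉ H) ∧ ∃ g : GG, g.1.det = 1 ∧ g ∉ M := by
  obtain ⟨x, y, t, h⟩ := dat_of_equiv φ
  obtain ⟨G, hG1, hG2⟩ : ∃ G : GG, (∀ g ∈ H, G⁻¹ * g * G ∈ MM) ∧ G * Wu * G⁻¹ ∉ H := by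
    have h11 : x.1 ^ 11 = 1 := by
      have := congrArg Units.val h.x11
      rwa [Units.val_pow_eq_pow_val] at this
    have h1 : x.1 ≠ 1 := fun h2 => h.x1 (Units.ext h2)
    rcases f1_or_f2 h11 h1 with hf | hf
    · exact h.main hf hPH hn hdet
    · exact h.inv.main (f1_inv x.mul_inv x.inv_mul hf) hPH hn hdet
  have hdc : ∀ g : GG, (G * g * G⁻¹).1.det = g.1.det := by
    intro g
    have e2 : (G * g * G⁻¹).1 = G.1 * g.1 * (G⁻¹).1 := rfl
    have e3 : G.1 * (G⁻¹).1 = 1 := G.mul_inv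
    have e4 := congrArg Matrix.det e3
    rw [Matrix.det_mul, Matrix.det_one] at e4
    rw [e2, Matrix.det_mul, Matrix.det_mul]
    linear_combination g.1.det * e4
  refine ⟨MM.map (MulAut.conj G).toMonoidHom, ?_, ?_, ?_, ?_⟩
  · intro g hg
    refine ⟨_, hG1 g hg, ?_⟩
    change G * (G⁻¹ * g * G) * G⁻¹ = g
    group
  · rintro _ ⟨m, hm, rfl⟩
    change (G * m * G⁻¹).1.det = 1
    rw [hdc]
    exact hm.1
  · exact ⟨G * Wu * G⁻¹, ⟨Wu, W_mem, rfl⟩, hG2⟩
  · refine ⟨G * Xu * G⁻¹, by rw [hdc]; exact det_X, ?_⟩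
    rintro ⟨m, hm, hm2⟩
    apply X_notMem
    have h3 : G * m * G⁻¹ = G * Xu * G⁻¹ := hm2
    have h4 : m = Xu := mul_left_cancel (mul_right_cancel h3)
    rwa [← h4]

/-- **`L_2(11)` is not maximal in `SL_5(3)`.** -/
theorem not_isMaximalIn {F : Type u} [Field F] [Finite F] (h3 : Nat.card F = 3)
    {H P : Subgroup (GL (Fin 5) F)} (hc : IsResidualCore H P)
    (e : (P ⧸ (scalars (Fin 5) F).subgroupOf P) ≃* ProjectiveSpecialLinearGroup (Fin 2) (ZMod 11)) :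
    ¬ IsMaximalIn (specialLinear (Fin 5) F) H := by
  intro hmax
  obtain ⟨φ⟩ := H911.L211.exists_equiv hc e
  have : Fintype F := Fintype.ofFinite F
  obtain ⟨ε⟩ : Nonempty (F ≃+* K) :=
    ⟨(ZMod.ringEquivOfPrime F Nat.prime_three (by rw [← Nat.card_eq_fintype_card, h3])).symm⟩
  have hone : ∀ a : F, ε a = 1 ↔ a = 1 := by
    intro a
    exact map_eq_one_iff ε (RingEquiv.injective ε)
  let E : GL (Fin 5) F ≃* GG := Units.mapEquiv (RingEquiv.mapMatrix ε : Matrix (Fin 5) (Fin 5) F ≃+* M5).toMulEquiv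
  have hE : ∀ g : GL (Fin 5) F, (E g).1 = ε.toRingHom.mapMatrix g.1 := fun g => rfl
  have hdet : ∀ g : GL (Fin 5) F, (E g).1.det = ε (g.1.det) := by
    intro g
    rw [hE, ← RingHom.map_det]
    rfl
  have hSL : ∀ g : GL (Fin 5) F, g ∈ specialLinear (Fin 5) F ↔ (E g).1.det = 1 := by
    intro g
    rw [hdet]
    have h1 : g ∈ specialLinear (Fin 5) F ↔ g.1.det = 1 := by
      have h2 : g ∈ specialLinear (Fin 5) F ↔ Matrix.GeneralLinearGroup.det g = 1 := Iff.rfl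
      rw [h2, Units.ext_iff, Units.val_one, Matrix.GeneralLinearGroup.val_det_apply]
    rw [h1]
    exact (hone _).symm
  obtain ⟨M, hHM, hM1, ⟨m, hm, hmH⟩, ⟨g, hg1, hgM⟩⟩ := exists_over (P := P.map E.toMonoidHom) (H := H.map E.toMonoidHom)
    (φ.symm.trans (P.equivMapOfInjective E.toMonoidHom E.injective)) (Subgroup.map_mono hc.le) (by
      rintro _ ⟨h, hh, rfl⟩ _ ⟨z, hz, rfl⟩
      exact ⟨h * z * h⁻¹, hc.normal h hh z hz, by rw [map_mul, map_mul, map_inv]⟩) (by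
      rintro _ ⟨h, hh, rfl⟩
      exact (hSL h).1 (hmax.1.le hh))
  have h1 : H ≤ M.comap E.toMonoidHom := by
    intro h hh
    exact hHM ⟨h, hh, rfl⟩
  have h2 : M.comap E.toMonoidHom ≤ specialLinear (Fin 5) F := by
    intro h hh
    exact (hSL h).2 (hM1 _ hh)
  rcases hmax.2 _ h1 h2 with h | h
  · apply hmH
    have h4 : E.symm m ∈ M.comap E.toMonoidHom := by
      change E (E.symm m) ∈ M
      rwa [MulEquiv.apply_symm_apply]
    rw [h] at h4
    exact ⟨E.symm m, h4, E.apply_symm_apply m⟩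
  · apply hgM
    have h4 : E.symm g ∈ specialLinear (Fin 5) F := by
      rw [hSL, MulEquiv.apply_symm_apply]
      exact hg1
    rw [← h] at h4
    have h5 : E (E.symm g) ∈ M := h4
    rwa [MulEquiv.apply_symm_apply] at h5

end Cfsg.Agent.H912.Eleven
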