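import Cfsg.Agent.H911.L211

/-!
# Facts on `L_2(11)` for the normal form
-/

set_option autoImplicit false

namespace Cfsg.Agent.H912.Eleven

open Matrix Cfsg.Agent.H911.SLTwo Cfsg.Agent.H911

abbrev TT := ProjectiveSpecialLinearGroup (Fin 2) (ZMod 11)
abbrev SS := SpecialLinearGroup (Fin 2) (ZMod 11)

theorem mk_mul' (A B : SS) : (mk (A * B) : TT) = mk A * mk B := rfl
theorem mk_pow' (A : SS) (n : ℕ) : (mk (A ^ n) : TT) = mk A ^ n := rfl
theorem mk_inv' (A : SS) : (mk A⁻¹ : TT) = (mk A)⁻¹ := rfl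
theorem mk_one' : (mk (1 : SS) : TT) = 1 := rfl

theorem mk_eq_mk {A B : SS} (h : (mk A : TT) = mk B) : B = A ∨ B = -A := by
  have h1 : (mk (A⁻¹ * B) : TT) = 1 := by
    rw [mk_mul', mk_inv', h, inv_mul_cancel]
  rw [QuotientGroup.eq_one_iff, Matrix.SpecialLinearGroup.mem_center_iff] at h1
  obtain ⟨r, hr, hr2⟩ := h1
  rw [Fintype.card_fin] at hr
  have h2 : r = 1 ∨ r = -1 := mul_self_eq_one_iff.1 (by rw [← sq]; exact hr)
  rcases h2 with rfl | rfl
  · left
    have h3 : A⁻¹ * B = 1 := by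
      apply Subtype.ext
      rw [← hr2]
      simp
    exact (inv_mul_eq_one.1 h3).symm
  · right
    have h3 : A⁻¹ * B = -1 := by
      apply Subtype.ext
      rw [← hr2]
      ext i j
      simp [Matrix.scalar_apply, Matrix.diagonal_apply, Matrix.one_apply]
      split <;> simp
    rw [inv_mul_eq_iff_eq_mul] at h3
    rw [h3, mul_neg_one]

theorem u11 : (mk (U 1) : TT) ^ 11 = 1 := by
  rw [← mk_pow', U_pow]
  have : ((11 : ℕ) : ZMod 11) * 1 = 0 := by decide
  rw [this, U_zero]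
  rfl

theorem hh_pow (s : (ZMod 11)ˣ) (n : ℕ) : (hh s : SS) ^ n = hh (s ^ n) := by
  induction n with
  | zero => rw [pow_zero, pow_zero, hh_one]
  | succ n ih => rw [pow_succ, ih, hh_mul, pow_succ]

theorem two_five : L211.two ^ 5 = -1 := by
  apply Units.ext
  decide +kernel

theorem h5 : (mk (hh L211.two) : TT) ^ 5 = 1 := by
  have h1 : (hh L211.two : SS) ^ 5 = -1 := by
    rw [hh_pow, two_five]
    apply ext' <;> simp [hh00, hh01, hh10, hh11]
  rw [← mk_pow', h1, mk_neg_one]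

theorem w2 : (mk ww : TT) * mk ww = 1 := by
  have h1 : (ww : SS) * ww = -1 := by
    apply ext' <;> decide
  rw [← mk_mul', h1, mk_neg_one]

theorem wh2 : (mk ww : TT) * mk (hh L211.two) * (mk ww)⁻¹ = (mk (hh L211.two))⁻¹ := by
  rw [← mk_mul', ← mk_inv', ← mk_mul', wh, ← hh_inv, mk_inv']

theorem uw3 : ((mk (U 1) : TT) * mk ww) * (mk (U 1) * mk ww) * (mk (U 1) * mk ww) = 1 := by
  have h1 : ((U 1 : SS) * ww) * (U 1 * ww) * (U 1 * ww) = 1 := by
    apply ext' <;> decide
  rw [← mk_mul', ← mk_mul', ← mk_mul', h1]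
  rfl

/-- centralizer of the element of order eleven -/
theorem cent (z : TT) (hz : z * mk (U 1) = mk (U 1) * z) : ∃ k : ℕ, z = (mk (U 1)) ^ k := by
  obtain ⟨g, rfl⟩ := mk_surj z
  rw [← mk_mul', ← mk_mul'] at hz
  have key : ∀ g : SS, g.1 1 0 = 0 → g.1 0 0 = 1 → g.1 1 1 = 1 → ∃ k : ℕ, (mk g : TT) = (mk (U 1)) ^ k := by
    intro g h10 h00 h11
    refine ⟨(g.1 0 1).val, ?_⟩
    rw [← mk_pow', U_pow]
    congr 1
    apply ext'
    · rw [h00, U00]
    · rw [U01, mul_one, ZMod.natCast_val, ZMod.cast_id]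
    · rw [h10, U10]
    · rw [h11, U11]
  have hdet := det_eq g
  rcases mk_eq_mk hz with h | h
  · have e1 := congrArg (fun A : SS => A.1 0 0) h
    have e2 := congrArg (fun A : SS => A.1 0 1) h
    simp only [m00, m01, U00, U01, U10, U11] at e1 e2
    have h10 : g.1 1 0 = 0 := by linear_combination e1
    have h01 : g.1 1 1 = g.1 0 0 := by linear_combination e2
    rw [h10, mul_zero, sub_zero, h01] at hdet
    have h3 : g.1 0 0 = 1 ∨ g.1 0 0 = -1 := mul_self_eq_one_iff.1 hdet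
    rcases h3 with h3 | h3
    · exact key g h10 h3 (h01.trans h3)
    · obtain ⟨k, hk⟩ := key (-g) (by rw [n10, h10, neg_zero]) (by rw [n00, h3, neg_neg])
        (by rw [n11, h01, h3, neg_neg])
      exact ⟨k, by rw [← hk, mk_neg]⟩
  · exfalso
    have e1 := congrArg (fun A : SS => A.1 0 0) h
    have e3 := congrArg (fun A : SS => A.1 1 0) h
    simp only [n00, n10, m00, m10, U00, U01, U10, U11] at e1 e3
    have h10 : g.1 1 0 = 0 := by
      have h2 : (2 : ZMod 11) * g.1 1 0 = 0 := by linear_combination e3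
      exact (mul_eq_zero.1 h2).resolve_left (by decide)
    have h00 : g.1 0 0 = 0 := by
      have h2 : (2 : ZMod 11) * g.1 0 0 = 0 := by linear_combination e1 - h10
      exact (mul_eq_zero.1 h2).resolve_left (by decide)
    rw [h10, h00, zero_mul, mul_zero, sub_zero] at hdet
    exact absurd hdet (by decide)

/-- elements of order eleven -/
theorem conj_eleven (z : TT) (h11 : z ^ 11 = 1) (h1 : z ≠ 1) :
    ∃ (c : TT) (k : ℕ), k < 11 ∧ k ≠ 0 ∧ c * z * c⁻¹ = (mk (U 1)) ^ k := by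
  have hconj : ∀ (c g : TT) (n : ℕ), (c * g * c⁻¹) ^ n = c * g ^ n * c⁻¹ := fun c g n => conj_pow
  rcases L211.cls z with ⟨c, x, h⟩ | ⟨c, s, x, hs, h⟩ | ⟨h, -⟩
  · refine ⟨c, x.val, ZMod.val_lt x, ?_, ?_⟩
    · intro hx
      apply h1
      have h2 : x = 0 := (ZMod.val_eq_zero x).1 hx
      rw [h2, U_zero, mk_one'] at h
      rw [mul_inv_eq_one] at h
      exact mul_left_cancel (h.trans (mul_one c).symm)
    · rw [h, ← mk_pow', U_pow, mul_one, ZMod.natCast_val, ZMod.cast_id]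
  · exfalso
    obtain ⟨y, hy⟩ := L211.conj_hhU s x hs
    have h3 : (mk (U y) * c) * z * (mk (U y) * c)⁻¹ = mk (hh s) := by
      rw [_root_.mul_inv_rev, ← hy, mk_mul', mk_mul', mk_inv', ← h]
      group
    have h4 : (mk (hh s) : TT) ^ 10 = 1 := by
      rw [← mk_pow', hh_pow]
      have h5 : s ^ 10 = 1 := by
        have := ZMod.units_pow_card_sub_one_eq_one 11 s
        simpa using this
      rw [h5, hh_one, mk_one']
    rw [← h3, hconj] at h4
    have h5 : z ^ 10 = 1 := by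
      rw [mul_inv_eq_one] at h4
      exact mul_left_cancel (h4.trans (mul_one _).symm)
    apply h1
    have h6 : z ^ 11 = z ^ 10 * z := pow_succ z 10
    rw [h11, h5, one_mul] at h6
    exact h6.symm
  · exfalso
    apply h1
    have h2 : z ^ 12 = 1 := by rw [show 12 = 6 * 2 from rfl, pow_mul, h, one_pow]
    have h6 : z ^ 12 = z ^ 11 * z := pow_succ z 11
    rw [h11, h2, one_mul] at h6
    exact h6.symm

theorem dec_pow : ∀ s : ZMod 11, s ≠ 0 → ∃ k : Fin 10, s = 2 ^ (k : ℕ) := by decide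

/-- generation -/
theorem gen : Subgroup.closure {(mk (U 1) : TT), mk (hh L211.two), mk ww} = ⊤ := by
  rw [eq_top_iff]
  rintro z -
  set S := Subgroup.closure {(mk (U 1) : TT), mk (hh L211.two), mk ww} with hS
  have hu : ∀ x : ZMod 11, (mk (U x) : TT) ∈ S := by
    intro x
    have h1 : (mk (U x) : TT) = (mk (U 1)) ^ x.val := by
      rw [← mk_pow', U_pow, mul_one, ZMod.natCast_val, ZMod.cast_id]
    rw [h1]
    exact pow_mem (Subgroup.subset_closure (by simp)) _
  have hw : (mk ww : TT) ∈ S := Subgroup.subset_closure (by simp)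
  have hhs : ∀ s : (ZMod 11)ˣ, (mk (hh s) : TT) ∈ S := by
    intro s
    obtain ⟨k, hk⟩ := dec_pow (s : ZMod 11) s.ne_zero
    have h1 : s = L211.two ^ (k : ℕ) := by
      apply Units.ext
      rw [hk, Units.val_pow_eq_pow_val]
      rfl
    rw [h1, ← hh_pow, mk_pow']
    exact pow_mem (Subgroup.subset_closure (by simp)) _
  obtain ⟨M, rfl⟩ := mk_surj z
  by_cases h10 : M.1 1 0 = 0
  · have hdet := det_eq M
    rw [h10, mul_zero, sub_zero] at hdet
    have h0 : M.1 0 0 ≠ 0 := by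
      intro h
      rw [h, zero_mul] at hdet
      exact zero_ne_one hdet
    have h1 : M = hh (Units.mk0 _ h0) * U ((M.1 0 0)⁻¹ * M.1 0 1) := by
      apply ext'
      · rw [m00, hh00, hh01, U00, U10, Units.val_mk0]; ring
      · rw [m01, hh00, hh01, U01, U11, Units.val_mk0, ← mul_assoc, mul_inv_cancel₀ h0]; ring
      · rw [m10, hh10, hh11, U00, U10, h10]; ring
      · rw [m11, hh10, hh11, U01, U11, Units.val_inv_eq_inv_val, Units.val_mk0]
        rw [zero_mul, zero_add, mul_one]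
        exact eq_inv_of_mul_eq_one_right hdet
    rw [h1, mk_mul']
    exact mul_mem (hhs _) (hu _)
  · obtain ⟨x, c, h⟩ := norm M h10
    have h1 : (Nc c (tr M) : SS) = ww⁻¹ * (hh c * U ((c : ZMod 11)⁻¹ * tr M)) := by
      apply ext'
      · rw [Nc00, m00, i00, i01, ww11, ww01, m00, m10, hh00, hh01, hh10, hh11, U00, U10]; ring
      · rw [Nc01, m01, i00, i01, ww11, ww01, m01, m11, hh00, hh01, hh10, hh11, U01, U11]; ring
      · rw [Nc10, m10, i10, i11, ww10, ww00, m00, m10, hh00, hh01, hh10, hh11, U00, U10]; ring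
      · rw [Nc11, m11, i10, i11, ww10, ww00, m01, m11, hh00, hh01, hh10, hh11, U01, U11, ← mul_assoc,
          mul_inv_cancel₀ c.ne_zero]; ring
    have h2 : (mk M : TT) = (mk (U x))⁻¹ * ((mk ww)⁻¹ * (mk (hh c) * mk (U ((c : ZMod 11)⁻¹ * tr M)))) * mk (U x) := by
      rw [← mk_mul', ← mk_inv' ww, ← mk_mul', ← h1, ← h]
      rw [mk_mul', mk_mul', mk_inv']
      group
    rw [h2]
    exact mul_mem (mul_mem (inv_mem (hu _)) (mul_mem (inv_mem hw) (mul_mem (hhs _) (hu _)))) (hu _)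

end Cfsg.Agent.H912.Eleven
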