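import Cfsg.Agent.H912.ElevenForm
import Cfsg.Agent.H912.ElevenPSL

/-!
# `L_2(11) < GL_5(3)` lies in `M_11 < SL_5(3)` and is its own normalizer in `SL_5(3)`
-/

set_option autoImplicit false

namespace Cfsg.Agent.H912.Eleven

open Matrix

abbrev GG := Matrix.GeneralLinearGroup (Fin 5) K

/-- The relations of `L_2(11)` and the two facts on elements of order eleven. -/
structure Dat (P : Subgroup GG) (x y t : GG) : Prop where
  hx : x ∈ P
  hy : y ∈ P
  ht : t ∈ P
  x11 : x ^ 11 = 1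
  x1 : x ≠ 1
  y5 : y ^ 5 = 1
  yx : y * x * y⁻¹ = x ^ 4
  tt : t * t = 1
  ty : t * y * t⁻¹ = y⁻¹
  xt : (x * t) * (x * t) * (x * t) = 1
  gen : P = Subgroup.closure {x, y, t}
  conj : ∀ z ∈ P, z ^ 11 = 1 → z ≠ 1 → ∃ c ∈ P, ∃ k : ℕ, k < 11 ∧ k ≠ 0 ∧ c * z * c⁻¹ = x ^ k
  cent : ∀ z ∈ P, z * x = x * z → ∃ k : ℕ, z = x ^ k
  card : Nat.card P = 660

theorem Dat.inv {P : Subgroup GG} {x y t : GG} (h : Dat P x y t) : Dat P x⁻¹ y t := by
  have hinv : x⁻¹ = x ^ 10 := by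
    rw [inv_eq_iff_mul_eq_one, ← pow_succ', h.x11]
  refine ⟨inv_mem h.hx, h.hy, h.ht, by rw [inv_pow, h.x11, inv_one], fun h1 => h.x1 (inv_eq_one.1 h1), h.y5, ?_,
    h.tt, h.ty, ?_, ?_, ?_, ?_, h.card⟩
  · rw [inv_pow, ← h.yx]; group
  · have h1 := h.xt
    have ht : t⁻¹ = t := inv_eq_of_mul_eq_one_right h.tt
    have h2 : (x⁻¹ * t) * (x⁻¹ * t) * (x⁻¹ * t) = t * ((x * t) * (x * t) * (x * t))⁻¹ * t⁻¹ := by
      have h3 : ((x * t) * (x * t) * (x * t))⁻¹ = (t⁻¹ * x⁻¹) * (t⁻¹ * x⁻¹) * (t⁻¹ * x⁻¹) := by group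
      rw [h3, ht]
      have h4 : t * (t * x⁻¹ * (t * x⁻¹) * (t * x⁻¹)) * t = (t * t) * (x⁻¹ * t * (x⁻¹ * t) * (x⁻¹ * t)) := by group
      rw [h4, h.tt, one_mul]
    rw [h2, h1, inv_one, mul_one, mul_inv_cancel]
  · rw [h.gen]
    apply le_antisymm
    · rw [Subgroup.closure_le]
      rintro _ (rfl | rfl | rfl)
      · exact (Subgroup.inv_mem_iff _).1 (Subgroup.subset_closure (by simp))
      · exact Subgroup.subset_closure (by simp)
      · exact Subgroup.subset_closure (by simp)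
    · rw [Subgroup.closure_le]
      rintro _ (rfl | rfl | rfl)
      · exact inv_mem (Subgroup.subset_closure (by simp))
      · exact Subgroup.subset_closure (by simp)
      · exact Subgroup.subset_closure (by simp)
  · intro z hz h11 h1
    obtain ⟨c, hc, k, hk, hk0, h2⟩ := h.conj z hz h11 h1
    refine ⟨c, hc, 11 - k, by omega, by omega, ?_⟩
    rw [h2, hinv, ← pow_mul]
    have h3 : 10 * (11 - k) = k + 11 * (10 - k) := by omega
    rw [h3, pow_add, pow_mul, h.x11, one_pow, mul_one]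
  · intro z hz hzx
    have h2 : z * x = x * z := by
      have : Commute z x⁻¹ := hzx
      exact (Commute.inv_right_iff.1 this).eq
    obtain ⟨k, hk⟩ := h.cent z hz h2
    refine ⟨10 * k, ?_⟩
    rw [hk, hinv, ← pow_mul]
    have h3 : 10 * (10 * k) = k + 11 * (9 * k) := by ring
    rw [h3, pow_add, pow_mul, h.x11, one_pow, mul_one]

/-- `C`, `Y`, `T`, `W`, `X` as units -/
def Cu : GG := ⟨C, Ci, C_Ci, Ci_C⟩
def Yu : GG := ⟨Y, Yi, Y_Yi, Yi_Y⟩
def Tu : GG := ⟨T, T, T_T, T_T⟩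
def Wu : GG := ⟨W, Wi, W_Wi, Wi_W⟩
def Xu : GG := ⟨X, Xi, X_Xi, Xi_X⟩

/-- `M_11` -/
def MM : Subgroup GG where
  carrier := {g | g.1.det = 1 ∧ ∀ v, om (g.1 *ᵥ v) = om v}
  one_mem' := ⟨by simp, fun v => by simp⟩
  mul_mem' := by
    rintro a b ⟨ha, ha'⟩ ⟨hb, hb'⟩
    refine ⟨by rw [Units.val_mul, Matrix.det_mul, ha, hb, one_mul], fun v => ?_⟩
    rw [Units.val_mul, ← Matrix.mulVec_mulVec, ha', hb']
  inv_mem' := by
    rintro a ⟨ha, ha'⟩
    have h1 : a.1 * (a⁻¹).1 = 1 := a.mul_inv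
    refine ⟨?_, fun v => ?_⟩
    · have h2 := congrArg Matrix.det h1
      rw [Matrix.det_mul, ha, one_mul, Matrix.det_one] at h2
      exact h2
    · rw [← ha' ((a⁻¹).1 *ᵥ v), Matrix.mulVec_mulVec, h1, Matrix.one_mulVec]

theorem C_mem : Cu ∈ MM := ⟨by change C.det = 1; decide +kernel, om_C⟩
theorem Y_mem : Yu ∈ MM := ⟨by change Y.det = 1; decide +kernel, om_Y⟩
theorem T_mem : Tu ∈ MM := ⟨by change T.det = 1; decide +kernel, om_T⟩
theorem W_mem : Wu ∈ MM := ⟨det_W, om_W⟩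
theorem X_notMem : Xu ∉ MM := fun h => om_X (h.2 e0)

theorem W_pow_four : Wu ^ 4 ≠ 1 := by
  intro h
  apply W_four
  have := congrArg Units.val h
  rw [Units.val_pow_eq_pow_val] at this
  have h2 : W ^ 4 = (W * W) * (W * W) := by noncomm_ring
  rw [← h2]
  exact this

theorem W_pow_eight : Wu ^ 8 = 1 := by
  apply Units.ext
  rw [Units.val_pow_eq_pow_val]
  have h2 : W ^ 8 = ((W * W) * (W * W)) * ((W * W) * (W * W)) := by noncomm_ring
  change W ^ 8 = 1
  rw [h2, W_eight]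

set_option maxHeartbeats 4000000 in
/-- **Main lemma.** -/
theorem Dat.main {P H : Subgroup GG} {x y t : GG} (h : Dat P x y t) (hf : f1 x.1 = 0) (hPH : P ≤ H)
    (hn : ∀ g ∈ H, ∀ z ∈ P, g * z * g⁻¹ ∈ P) (hdet : ∀ g ∈ H, g.1.det = 1) :
    ∃ G : GG, (∀ g ∈ H, G⁻¹ * g * G ∈ MM) ∧ G * Wu * G⁻¹ ∉ H := by
  have hyx : y.1 * x.1 = x.1 ^ 4 * y.1 := by
    have h1 := h.yx
    rw [mul_inv_eq_iff_eq_mul] at h1
    have := congrArg Units.val h1
    rwa [Units.val_mul, Units.val_mul, Units.val_pow_eq_pow_val] at this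
  obtain ⟨G, G', hG1, hG2, hZ, hQ⟩ := exists_form hf (Q := y.1) (by
    have := congrArg Units.val h.y5
    rwa [Units.val_pow_eq_pow_val] at this) hyx
  let g : GG := ⟨G, G', hG1, hG2⟩
  have ex : x = g * Cu * g⁻¹ := by
    rw [eq_mul_inv_iff_mul_eq]
    exact Units.ext hZ
  have ey : y = g * Yu * g⁻¹ := by
    rw [eq_mul_inv_iff_mul_eq]
    exact Units.ext hQ
  -- t
  have et : t = g * Tu * g⁻¹ := by
    set t' : GG := g⁻¹ * t * g with ht'
    have e1 : t = g * t' * g⁻¹ := by rw [ht']; group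
    have h2 : t' * t' = 1 := by
      rw [ht']
      have : g⁻¹ * t * g * (g⁻¹ * t * g) = g⁻¹ * (t * t) * g := by group
      rw [this, h.tt]; group
    have h3 : t' * Yu = Yu⁻¹ * t' := by
      have h4 := h.ty
      rw [mul_inv_eq_iff_eq_mul, ey] at h4
      have h5 : t' * Yu = g⁻¹ * (t * (g * Yu * g⁻¹)) * g := by rw [ht']; group
      rw [h5, h4, ht']; group
    have h6 : (Cu * t') * (Cu * t') * (Cu * t') = 1 := by
      have h7 := h.xt
      rw [ex] at h7
      have h8 : (Cu * t') * (Cu * t') * (Cu * t') =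
          g⁻¹ * ((g * Cu * g⁻¹ * t) * (g * Cu * g⁻¹ * t) * (g * Cu * g⁻¹ * t)) * g := by rw [ht']; group
      rw [h8, h7]; group
    have h9 : t'.1 = T := t_form (congrArg Units.val h2) (congrArg Units.val h3) (congrArg Units.val h6)
    rw [e1]
    congr 2
    exact Units.ext h9
  have hPM : ∀ z ∈ P, g⁻¹ * z * g ∈ MM := by
    have h1 : P ≤ MM.map (MulAut.conj g).toMonoidHom := by
      rw [h.gen, Subgroup.closure_le]
      rintro _ (rfl | rfl | rfl)
      · exact ⟨Cu, C_mem, ex.symm⟩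
      · exact ⟨Yu, Y_mem, ey.symm⟩
      · exact ⟨Tu, T_mem, et.symm⟩
    intro z hz
    obtain ⟨m, hm, rfl⟩ := h1 hz
    have : g⁻¹ * (MulAut.conj g).toMonoidHom m * g = m := by
      change g⁻¹ * (g * m * g⁻¹) * g = m
      group
    rw [this]
    exact hm
  -- `H = P`
  have hHP : ∀ u ∈ H, u ∈ P := by
    intro u hu
    -- move `x`
    obtain ⟨c, hc, k, hk, hk0, h1⟩ := h.conj (u * x * u⁻¹) (hn u hu x h.hx)
      (by rw [conj_pow, h.x11]; group) (fun h1 => h.x1 (by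
        rw [mul_inv_eq_one] at h1
        exact mul_left_cancel (h1.trans (mul_one u).symm)))
    have h2 : f1 (C ^ k) = 0 := by
      have h3 : x ^ k * (c * u * g) = (c * u * g) * Cu := by
        rw [← h1]
        have : c * (u * x * u⁻¹) * c⁻¹ * (c * u * g) = c * u * (x * g) := by group
        rw [this, ex]; group
      have h4 : (C ^ k) * (g⁻¹ * (c * u * g)).1 = (g⁻¹ * (c * u * g)).1 * C := by
        have h5 : Cu ^ k * (g⁻¹ * (c * u * g)) = g⁻¹ * (c * u * g) * Cu := by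
          have h6 : x ^ k = g * Cu ^ k * g⁻¹ := by rw [ex, conj_pow]
          calc Cu ^ k * (g⁻¹ * (c * u * g)) = g⁻¹ * ((g * Cu ^ k * g⁻¹) * (c * u * g)) := by group
            _ = g⁻¹ * ((c * u * g) * Cu) := by rw [← h6, h3]
            _ = g⁻¹ * (c * u * g) * Cu := by rw [mul_assoc g⁻¹]
        have := congrArg Units.val h5
        rwa [Units.val_mul, Units.val_pow_eq_pow_val, Units.val_mul _ Cu] at this
      exact f1_conj h4 (G' := ((g⁻¹ * (c * u * g))⁻¹).1) (Units.mul_inv _)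
    have h3 := f1_C_pow_ne k hk hk0 h2
    obtain ⟨j, hj⟩ : ∃ j : ℕ, x ^ k = y ^ j * x * (y ^ j)⁻¹ := by
      have hyn : ∀ n m : ℕ, y ^ n * x ^ m * (y ^ n)⁻¹ = x ^ (4 ^ n * m) := by
        intro n
        induction n with
        | zero => intro m; rw [pow_zero, pow_zero, one_mul, inv_one, mul_one, one_mul]
        | succ n ih =>
          intro m
          have e1 : y ^ (n + 1) * x ^ m * (y ^ (n + 1))⁻¹ = y ^ n * (y * x ^ m * y⁻¹) * (y ^ n)⁻¹ := by
            rw [pow_succ]; group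
          have e2 : y * x ^ m * y⁻¹ = x ^ (4 * m) := by
            rw [← conj_pow, h.yx, ← pow_mul]
          rw [e1, e2, ih, pow_succ, mul_assoc]
      have hmod : ∀ a b : ℕ, a % 11 = b % 11 → x ^ a = x ^ b := by
        intro a b hab
        rw [← Nat.mod_add_div a 11, ← Nat.mod_add_div b 11, hab, pow_add, pow_add, pow_mul, pow_mul, h.x11, one_pow,
          one_pow]
      rcases h3 with rfl | rfl | rfl | rfl | rfl
      · exact ⟨0, by rw [pow_zero, one_mul, inv_one, mul_one, pow_one]⟩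
      · exact ⟨4, by have := hyn 4 1; rw [pow_one] at this; rw [this]; exact hmod _ _ (by norm_num)⟩
      · exact ⟨1, by have := hyn 1 1; rw [pow_one x] at this; rw [this]; exact hmod _ _ (by norm_num)⟩
      · exact ⟨2, by have := hyn 2 1; rw [pow_one] at this; rw [this]; exact hmod _ _ (by norm_num)⟩
      · exact ⟨3, by have := hyn 3 1; rw [pow_one] at this; rw [this]; exact hmod _ _ (by norm_num)⟩
    -- `u₁` centralizes `x`
    set u₁ : GG := (y ^ j)⁻¹ * c * u with hu₁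
    have hu₁x : u₁ * x = x * u₁ := by
      have e1 : u₁ * x * u₁⁻¹ = (y ^ j)⁻¹ * (c * (u * x * u⁻¹) * c⁻¹) * (y ^ j) := by rw [hu₁]; group
      rw [h1, hj] at e1
      have e2 : (y ^ j)⁻¹ * (y ^ j * x * (y ^ j)⁻¹) * y ^ j = x := by group
      rw [e2, mul_inv_eq_iff_eq_mul] at e1
      exact e1
    have hu₁H : u₁ ∈ H := mul_mem (mul_mem (inv_mem (pow_mem (hPH h.hy) _)) (hPH hc)) hu
    -- `z = u₁ y u₁⁻¹ y⁻¹`
    obtain ⟨m, hm⟩ := h.cent (u₁ * y * u₁⁻¹ * y⁻¹) (mul_mem (hn u₁ hu₁H y h.hy) (inv_mem h.hy)) (by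
      have hc1 : Commute u₁ x := hu₁x
      have hy3 : y⁻¹ * x = x ^ 3 * y⁻¹ := by
        have e3 : y * x ^ 3 * y⁻¹ = x := by
          rw [← conj_pow, h.yx, ← pow_mul]
          have : x ^ (4 * 3) = x ^ 11 * x := by rw [← pow_succ]
          rw [this, h.x11, one_mul]
        calc y⁻¹ * x = y⁻¹ * (y * x ^ 3 * y⁻¹) := by rw [e3]
          _ = x ^ 3 * y⁻¹ := by group
      have e4 : u₁⁻¹ * x ^ 3 = x ^ 3 * u₁⁻¹ := (hc1.inv_left.pow_right 3).eq
      have e5 : y * x ^ 3 = x * y := by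
        have e3 : y * x ^ 3 * y⁻¹ = x := by
          rw [← conj_pow, h.yx, ← pow_mul]
          have : x ^ (4 * 3) = x ^ 11 * x := by rw [← pow_succ]
          rw [this, h.x11, one_mul]
        rwa [mul_inv_eq_iff_eq_mul] at e3
      calc u₁ * y * u₁⁻¹ * y⁻¹ * x = u₁ * y * (u₁⁻¹ * (y⁻¹ * x)) := by group
        _ = u₁ * y * (u₁⁻¹ * x ^ 3 * y⁻¹) := by rw [hy3, mul_assoc u₁⁻¹]
        _ = u₁ * (y * x ^ 3) * (u₁⁻¹ * y⁻¹) := by rw [e4]; group
        _ = u₁ * x * (y * (u₁⁻¹ * y⁻¹)) := by rw [e5]; group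
        _ = x * (u₁ * y * u₁⁻¹ * y⁻¹) := by rw [hu₁x]; group)
    -- `u₂` centralizes `x` and `y`
    set u₂ : GG := x ^ (4 * m) * u₁ with hu₂
    have hu₂x : u₂ * x = x * u₂ := by
      rw [hu₂, mul_assoc, hu₁x, ← mul_assoc, ← pow_succ, pow_succ', mul_assoc]
    have hu₂y : u₂ * y = y * u₂ := by
      have e0 : u₁ * y = x ^ m * y * u₁ := by
        rw [← hm]; group
      have hy4 : ∀ n : ℕ, y * x ^ n = x ^ (4 * n) * y := by
        intro n
        have : y * x ^ n * y⁻¹ = x ^ (4 * n) := by rw [← conj_pow, h.yx, ← pow_mul]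
        rwa [mul_inv_eq_iff_eq_mul] at this
      rw [hu₂]
      calc x ^ (4 * m) * u₁ * y = x ^ (4 * m) * (x ^ m * y * u₁) := by rw [mul_assoc, e0]
        _ = x ^ (4 * m + m) * y * u₁ := by rw [pow_add]; group
        _ = x ^ (4 * (4 * m)) * y * u₁ := by
            have e1 : x ^ (4 * (4 * m)) = x ^ (4 * m + m) := by
              have : 4 * (4 * m) = (4 * m + m) + 11 * m := by ring
              rw [this, pow_add _ (4 * m + m), pow_mul, h.x11, one_pow, mul_one]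
            rw [e1]
        _ = y * (x ^ (4 * m) * u₁) := by rw [← hy4, mul_assoc]
    have hu₂H : u₂ ∈ H := mul_mem (pow_mem (hPH h.hx) _) hu₁H
    have hu₂1 : u₂ = 1 := by
      set q : GG := g⁻¹ * u₂ * g with hq
      have hqC : q * Cu = Cu * q := by
        rw [ex] at hu₂x
        have e1 : q * Cu = g⁻¹ * (u₂ * (g * Cu * g⁻¹)) * g := by rw [hq]; group
        rw [e1, hu₂x, hq]; group
      have hqY : q * Yu = Yu * q := by
        rw [ey] at hu₂y
        have e1 : q * Yu = g⁻¹ * (u₂ * (g * Yu * g⁻¹)) * g := by rw [hq]; group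
        rw [e1, hu₂y, hq]; group
      have hqC' : q.1 * C = C * q.1 := congrArg Units.val hqC
      have hqY' : q.1 * Y = Y * q.1 := congrArg Units.val hqY
      have ha : Y *ᵥ (q.1 *ᵥ e0) = q.1 *ᵥ e0 := by
        rw [Matrix.mulVec_mulVec, ← hqY', ← Matrix.mulVec_mulVec, Y_e0]
      have ha2 := Y_fix _ ha
      set α : K := (q.1 *ᵥ e0) 0 with hα
      have hqn : ∀ n, q.1 * C ^ n = C ^ n * q.1 := fun n => ((show Commute q.1 C from hqC').pow_right n).eq
      have hqα : q.1 = α • (1 : M5) := by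
        apply ext_single
        intro i
        have e1 := C_e0 i
        rw [Matrix.smul_mulVec, Matrix.one_mulVec, ← e1]
        have e2 : Cp (i : ℕ) = C ^ (i : ℕ) := by rw [C_pow, Nat.mod_eq_of_lt (by omega)]
        rw [e2, Matrix.mulVec_mulVec, hqn, ← Matrix.mulVec_mulVec, ha2, Matrix.mulVec_smul]
      have hdq : q.1.det = 1 := by
        have e1 := hdet u₂ hu₂H
        have e2 : q.1 = (g⁻¹).1 * u₂.1 * g.1 := rfl
        rw [e2, Matrix.det_mul, Matrix.det_mul, e1, mul_one, ← Matrix.det_mul]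
        have e3 : (g⁻¹).1 * g.1 = 1 := g.inv_mul
        rw [e3, Matrix.det_one]
      rw [hqα, Matrix.det_smul, Matrix.det_one, mul_one, Fintype.card_fin] at hdq
      have key : ∀ β : K, β ^ 5 = 1 → β = 1 := by decide
      have hα1 : α = 1 := key α hdq
      rw [hα1, one_smul] at hqα
      have hq1 : q = 1 := Units.ext hqα
      rw [hq] at hq1
      have e1 : u₂ = g * (g⁻¹ * u₂ * g) * g⁻¹ := by group
      rw [e1, hq1]; group
    have hu₁P : u₁ ∈ P := by
      have e1 : u₁ = (x ^ (4 * m))⁻¹ * u₂ := by rw [hu₂]; group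
      rw [e1, hu₂1, mul_one]
      exact inv_mem (pow_mem h.hx _)
    have e1 : u = c⁻¹ * y ^ j * u₁ := by rw [hu₁]; group
    rw [e1]
    exact mul_mem (mul_mem (inv_mem hc) (pow_mem h.hy _)) hu₁P
  refine ⟨g, fun u hu => hPM u (hHP u hu), ?_⟩
  intro hW
  have h1 := hHP _ hW
  have h2 : orderOf (⟨g * Wu * g⁻¹, h1⟩ : P) = 8 := by
    rw [Subgroup.orderOf_mk]
    refine orderOf_eq_prime_pow (p := 2) (n := 2) ?_ ?_
    · rw [conj_pow]
      intro h3
      apply W_pow_four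
      rw [mul_inv_eq_one] at h3
      exact mul_left_cancel (h3.trans (mul_one g).symm)
    · rw [conj_pow]
      change g * Wu ^ 8 * g⁻¹ = 1
      rw [W_pow_eight]; group
  have h3 : 8 ∣ 660 := by
    rw [← h2, ← h.card]
    exact orderOf_dvd_natCard _
  exact absurd h3 (by decide)

end Cfsg.Agent.H912.Eleven
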