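import Cfsg.Agent.H911.End5Final
import Cfsg.Agent.H912.ElevenMax
import Cfsg.Agent.H905.MdP
import Cfsg.Agent.H48.NatSUEq

/-!
# Degree five: from the list to the statements

`five_linear`, `five_unitary`: the conclusions of the linear and unitary rows, given the list of possible socles.
-/

set_option autoImplicit false
set_option linter.unusedSectionVars false

universe u v

namespace Cfsg.Agent.H912.Five

open Cfsg Cfsg.Geo Matrix
open scoped MatrixGroups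

variable {F : Type u} [Field F] [Fintype F] {H P : Subgroup (GL (Fin 5) F)}

/-- The list. -/
def List5 (p : ℕ) (T : Type v) [Group T] : Prop :=
  Small5 p T ∨ IsLieTypeChar p T ∨ (p = 3 ∧ Spor.IsoM11 T)

theorem five_linear (hH : IsMaximalIn (specialLinear (Fin 5) F) H) (hc : IsResidualCore H P)
    (hQ : ¬ ∃ Q : (Fin 5 → F) → F, IsNondegenerateQuadraticForm Q ∧ FixesQuadForm (matrixSet P) Q)
    (hA : ¬ ∃ f : (Fin 5 → F) → (Fin 5 → F) → F, IsSymplecticForm f ∧ FixesForm (matrixSet P) f)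
    (hU : ¬ ∃ (σ : F ≃+* F) (f : (Fin 5 → F) → (Fin 5 → F) → F), IsUnitaryForm σ f ∧ FixesForm (matrixSet P) f)
    (p : ℕ) [hp : Fact p.Prime] [CharP F p] (hl : List5 p (P ⧸ (scalars (Fin 5) F).subgroupOf P)) :
    Fintype.card F = p ∧
    ((Nonempty ((P ⧸ (scalars (Fin 5) F).subgroupOf P) ≃* ProjectiveSpecialLinearGroup (Fin 2) (ZMod 11)) ∧
        p ≠ 3 ∧ (p % 11 = 1 ∨ p % 11 = 3 ∨ p % 11 = 4 ∨ p % 11 = 5 ∨ p % 11 = 9)) ∨
      (Spor.IsoM11 (P ⧸ (scalars (Fin 5) F).subgroupOf P) ∧ p = 3) ∨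
      (IsU42 (P ⧸ (scalars (Fin 5) F).subgroupOf P) ∧ p % 6 = 1)) := by
  have key : ∀ h : H911.End5.Concl p P, Fintype.card F = p ∧
      ((Nonempty ((P ⧸ (scalars (Fin 5) F).subgroupOf P) ≃* ProjectiveSpecialLinearGroup (Fin 2) (ZMod 11)) ∧
        p ≠ 3 ∧ (p % 11 = 1 ∨ p % 11 = 3 ∨ p % 11 = 4 ∨ p % 11 = 5 ∨ p % 11 = 9)) ∨
      (Spor.IsoM11 (P ⧸ (scalars (Fin 5) F).subgroupOf P) ∧ p = 3) ∨
      (IsU42 (P ⧸ (scalars (Fin 5) F).subgroupOf P) ∧ p % 6 = 1)) := by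
    rintro (h | ⟨-, h, -⟩ | ⟨h1, h⟩)
    · exact (hQ h).elim
    · exact (hU h).elim
    · refine ⟨by rw [← Nat.card_eq_fintype_card, h1], ?_⟩
      rcases h with ⟨⟨e⟩, h2⟩ | h | h
      · refine Or.inl ⟨⟨e⟩, ?_, h2⟩
        intro h3
        exact Eleven.not_isMaximalIn (by rw [h1, h3]) hc e hH
      · exact Or.inr (Or.inl h)
      · exact Or.inr (Or.inr h)
  rcases hl with h | h | ⟨h3, h⟩
  · exact key (H911.End5.concl_small hc p h)
  · exfalso
    have := hc.simple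
    rcases H905.Md.dc_linear p hc.absIrred hc.perfect hc.no_subfield (le_refl 5) h with h1 | (h1 | h1) | h1
    · have h2 : specialLinear (Fin 5) F ≤ H := h1 ▸ hc.le
      exact absurd hH.1 (not_lt_of_ge h2)
    · exact hQ h1
    · exact hA h1
    · exact hU h1
  · exact key (H911.End5.concl_m11 hc p h3 h)

/-- `P ≤ GU(5, q)` is the natural `SU(5, q)`, or of smaller degree. -/
theorem five_unitary {q : ℕ} (hF : Fintype.card F = q ^ 2)
    (hH : IsMaximalIn (GU 5 F q ⊓ specialLinear (Fin 5) F) H) (hc : IsResidualCore H P)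
    (hQ : ¬ ∃ Q : (Fin 5 → F) → F, IsNondegenerateQuadraticForm Q ∧ FixesQuadForm (matrixSet P) Q)
    (hA : ¬ ∃ f : (Fin 5 → F) → (Fin 5 → F) → F, IsSymplecticForm f ∧ FixesForm (matrixSet P) f)
    (p : ℕ) [hp : Fact p.Prime] [CharP F p] (hl : List5 p (P ⧸ (scalars (Fin 5) F).subgroupOf P))
    (hsm : ∀ (K : Type) [Field K] [Fintype K] [CharP K p] (N r : ℕ), Fintype.card K = r ^ 2 → N = 3 ∨ N = 4 →
      ¬ (N = 3 ∧ r = 2) → ((P ⧸ (scalars (Fin 5) F).subgroupOf P) ≃* PSU N K r) → False) :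
    q = p ∧
    ((Nonempty ((P ⧸ (scalars (Fin 5) F).subgroupOf P) ≃* ProjectiveSpecialLinearGroup (Fin 2) (ZMod 11)) ∧
        (p % 11 = 2 ∨ p % 11 = 6 ∨ p % 11 = 7 ∨ p % 11 = 8 ∨ p % 11 = 10)) ∨
      (IsU42 (P ⧸ (scalars (Fin 5) F).subgroupOf P) ∧ p % 6 = 5)) := by
  have hPU : P ≤ GU 5 F q := (hc.le.trans hH.1.le).trans inf_le_left
  have key : ∀ h : H911.End5.Concl p P, q = p ∧
      ((Nonempty ((P ⧸ (scalars (Fin 5) F).subgroupOf P) ≃* ProjectiveSpecialLinearGroup (Fin 2) (ZMod 11)) ∧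
        (p % 11 = 2 ∨ p % 11 = 6 ∨ p % 11 = 7 ∨ p % 11 = 8 ∨ p % 11 = 10)) ∨
      (IsU42 (P ⧸ (scalars (Fin 5) F).subgroupOf P) ∧ p % 6 = 5)) := by
    rintro (h | ⟨h1, -, h⟩ | ⟨h1, -⟩)
    · exact (hQ h).elim
    · refine ⟨?_, h⟩
      rw [Nat.card_eq_fintype_card, hF] at h1
      exact Nat.pow_left_injective (two_ne_zero) h1
    · exfalso
      rw [Nat.card_eq_fintype_card, hF] at h1
      exact Nat.Prime.not_prime_pow (x := q) (le_refl 2) (h1 ▸ hp.out)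
  rcases hl with h | h | ⟨h3, h⟩
  · exact key (H911.End5.concl_small hc p h)
  · exfalso
    have := hc.simple
    rcases H905.Md.dc_small p hc.absIrred hc.perfect hc.no_subfield (le_refl 5) h with h1 |
      h1 | ⟨K, i1, i2, i3, N, r, hK, hN3, hN5, h32, ⟨e⟩, -⟩
    · have h2 : specialLinear (Fin 5) F ≤ H := h1 ▸ hc.le
      exact absurd hH.1 (not_lt_of_ge (inf_le_right.trans h2))
    · rcases H905.Md.quad_or_symp (by rw [Fintype.card_fin]; norm_num) hc.absIrred h1 with h2 | h2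
      · exact hQ h2
      · exact hA h2
    · rcases (show N = 5 ∨ N = 3 ∨ N = 4 by omega) with rfl | hN
      · have h2 := (H48.NatSU.psu_eq (H915.LD.core_of_residual hc) p hF hPU hK hN3 h32 e rfl).2
        exact absurd hH.1 (not_lt_of_ge (h2 ▸ hc.le))
      · exact hsm K N r hK hN h32 e
  · exact key (H911.End5.concl_m11 hc p h3 h)

end Cfsg.Agent.H912.Five
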