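import Cfsg.Agent.Lib.FieldFour

/-!
# A subgroup `11:5 < L` of `SU_5(2)`: explicit matrices over the field with four elements

`gm k` (`k = 0, …, 10`) are the powers of an element of order 11, `tau` normalises it, `inv` does not; all preserve the set
`S` of 55 vectors, the diagonal matrix `dd` does not.
-/

set_option autoImplicit false

namespace Cfsg.Agent.H912.SUFive

open Cfsg.Agent.Lib.FieldFour

/-- Matrix from rows. -/
def mk (l : List (List F4)) : Matrix (Fin 5) (Fin 5) F4 := fun i j => (l.getD i.val []).getD j.val .o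

/-- Powers of the element of order 11. -/
def gl : List (List (List F4)) := [
  [[.i, .o, .o, .o, .o], [.o, .i, .o, .o, .o], [.o, .o, .i, .o, .o], [.o, .o, .o, .i, .o], [.o, .o, .o, .o, .i]],
  [[.o, .w, .o, .i, .v], [.w, .o, .o, .w, .i], [.o, .o, .i, .i, .v], [.i, .w, .i, .v, .i], [.v, .i, .v, .i, .i]],
  [[.o, .i, .v, .v, .o], [.i, .i, .i, .w, .w], [.v, .i, .w, .i, .i], [.v, .w, .i, .o, .o], [.o, .w, .i, .o, .i]],
  [[.i, .i, .o, .v, .o], [.i, .v, .w, .i, .i], [.o, .w, .o, .i, .w], [.v, .i, .i, .i, .v], [.o, .i, .w, .v, .o]],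
  [[.i, .v, .v, .i, .i], [.v, .i, .o, .o, .i], [.v, .o, .o, .w, .i], [.i, .o, .w, .o, .w], [.i, .i, .i, .w, .v]],
  [[.v, .i, .i, .i, .w], [.i, .o, .v, .o, .w], [.i, .v, .i, .v, .i], [.i, .o, .v, .i, .o], [.w, .w, .i, .o, .o]],
  [[.w, .i, .i, .i, .v], [.i, .o, .w, .o, .v], [.i, .w, .i, .w, .i], [.i, .o, .w, .i, .o], [.v, .v, .i, .o, .o]],
  [[.i, .w, .w, .i, .i], [.w, .i, .o, .o, .i], [.w, .o, .o, .v, .i], [.i, .o, .v, .o, .v], [.i, .i, .i, .v, .w]],
  [[.i, .i, .o, .w, .o], [.i, .w, .v, .i, .i], [.o, .v, .o, .i, .v], [.w, .i, .i, .i, .w], [.o, .i, .v, .w, .o]],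
  [[.o, .i, .w, .w, .o], [.i, .i, .i, .v, .v], [.w, .i, .v, .i, .i], [.w, .v, .i, .o, .o], [.o, .v, .i, .o, .i]],
  [[.o, .v, .o, .i, .w], [.v, .o, .o, .v, .i], [.o, .o, .i, .i, .w], [.i, .v, .i, .w, .i], [.w, .i, .w, .i, .i]]]

/-- The `k`-th power. -/
def gm (k : ℕ) : Matrix (Fin 5) (Fin 5) F4 := mk (gl.getD k [])

/-- Normalises the cyclic group of order 11. -/
def tau : Matrix (Fin 5) (Fin 5) F4 :=
  mk [[.o, .o, .o, .o, .i], [.o, .o, .i, .o, .o], [.i, .o, .o, .o, .o], [.o, .i, .o, .o, .o], [.o, .o, .o, .i, .o]]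

/-- An involution. -/
def tt : Matrix (Fin 5) (Fin 5) F4 :=
  mk [[.i, .o, .o, .o, .o], [.o, .o, .o, .i, .o], [.o, .o, .o, .o, .i], [.o, .i, .o, .o, .o], [.o, .o, .i, .o, .o]]

/-- A diagonal matrix of determinant one. -/
def dd : Matrix (Fin 5) (Fin 5) F4 :=
  mk [[.w, .o, .o, .o, .o], [.o, .v, .o, .o, .o], [.o, .o, .i, .o, .o], [.o, .o, .o, .i, .o], [.o, .o, .o, .o, .i]]

/-- The invariant set of 55 vectors, as lists. -/
def sl : List (List F4) := [[.o, .o, .i, .w, .w],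
[.o, .o, .w, .i, .i],
[.o, .o, .v, .i, .w],
[.o, .o, .v, .w, .i],
[.o, .i, .i, .o, .w],
[.o, .i, .w, .o, .v],
[.o, .w, .i, .o, .v],
[.o, .w, .w, .o, .i],
[.o, .v, .o, .v, .v],
[.o, .v, .v, .v, .o],
[.i, .o, .i, .w, .o],
[.i, .o, .w, .v, .o],
[.i, .i, .w, .v, .v],
[.i, .i, .v, .i, .v],
[.i, .i, .v, .v, .i],
[.i, .w, .o, .o, .i],
[.i, .w, .o, .w, .o],
[.i, .w, .i, .w, .v],
[.i, .w, .w, .v, .i],
[.i, .w, .v, .w, .i],
[.i, .v, .o, .o, .w],
[.i, .v, .i, .i, .v],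
[.i, .v, .i, .w, .w],
[.i, .v, .w, .v, .w],
[.i, .v, .v, .i, .w],
[.w, .o, .i, .v, .o],
[.w, .o, .w, .i, .o],
[.w, .i, .o, .o, .w],
[.w, .i, .o, .i, .o],
[.w, .i, .i, .v, .w],
[.w, .i, .w, .i, .v],
[.w, .i, .v, .i, .w],
[.w, .w, .i, .v, .v],
[.w, .w, .v, .w, .v],
[.w, .w, .v, .v, .w],
[.w, .v, .o, .o, .i],
[.w, .v, .i, .v, .i],
[.w, .v, .w, .i, .i],
[.w, .v, .w, .w, .v],
[.w, .v, .v, .w, .i],
[.v, .o, .o, .v, .v],
[.v, .o, .v, .o, .v],
[.v, .i, .o, .w, .o],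
[.v, .i, .i, .w, .w],
[.v, .i, .i, .v, .i],
[.v, .i, .w, .w, .v],
[.v, .i, .v, .w, .i],
[.v, .w, .o, .i, .o],
[.v, .w, .i, .i, .v],
[.v, .w, .w, .i, .i],
[.v, .w, .w, .v, .w],
[.v, .w, .v, .i, .w],
[.v, .v, .i, .i, .i],
[.v, .v, .w, .w, .w],
[.v, .v, .v, .o, .o]]

/-- Vector from a list. -/
def vk (l : List F4) : Fin 5 → F4 := fun i => l.getD i.val .o

/-- Entrywise square. -/
def sqm (M : Matrix (Fin 5) (Fin 5) F4) : Matrix (Fin 5) (Fin 5) F4 := fun i j => M i j * M i j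

theorem gm_zero : gm 0 = 1 := by decide +kernel

theorem gm_succ : ∀ k : Fin 11, gm 1 * gm k.val = gm ((k.val + 1) % 11) := by decide +kernel

theorem gm_isom : (gm 1).transpose * sqm (gm 1) = 1 := by decide +kernel

theorem tau_isom : tau.transpose * sqm tau = 1 := by decide +kernel

theorem tt_isom : tt.transpose * sqm tt = 1 := by decide +kernel

theorem dd_isom : dd.transpose * sqm dd = 1 := by decide +kernel

theorem det_gm : (gm 1).det = 1 := by decide +kernel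

theorem det_tau : tau.det = 1 := by decide +kernel

theorem det_tt : tt.det = 1 := by decide +kernel

theorem det_dd : dd.det = 1 := by decide +kernel

theorem tau_gm : ∀ k : Fin 11, tau * gm k.val = gm ((4 * k.val) % 11) * tau := by decide +kernel

theorem trace_gm : ∀ k : Fin 11, Matrix.trace (gm k.val) = Matrix.trace (gm 1) →
    ∃ j : Fin 5, (4 ^ j.val) % 11 = k.val := by decide +kernel

theorem tt_gm : ∀ k : Fin 11, tt * gm 1 ≠ gm k.val * tt := by decide +kernel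

/-- The predicate of membership in the invariant set. -/
def InS (v : Fin 5 → F4) : Prop := ∃ l ∈ sl, v = vk l

instance instDecInS (v : Fin 5 → F4) : Decidable (InS v) := by unfold InS; infer_instance

theorem gm_S : ∀ l ∈ sl, InS ((gm 1).mulVec (vk l)) := by decide +kernel

theorem tau_S : ∀ l ∈ sl, InS (tau.mulVec (vk l)) := by decide +kernel

theorem tt_S : ∀ l ∈ sl, InS (tt.mulVec (vk l)) := by decide +kernel

theorem dd_S : ¬ InS (dd.mulVec (vk [.o, .i, .i, .o, .w])) := by decide +kernel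

theorem mem_sl : [F4.o, .i, .i, .o, .w] ∈ sl := by decide +kernel

end Cfsg.Agent.H912.SUFive
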